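import Cfsg.Agent.Lib.Fi22Three.Basic

/-!
# The action of the centraliser on the coordinates, the planes and the sign involutions
-/

set_option autoImplicit false
set_option linter.unusedSectionVars false
set_option maxRecDepth 4000
set_option synthInstance.maxSize 2000

namespace Cfsg.Lib.Fi22Three

open Subgroup
open scoped commutatorElement
open Cfsg.Lib.U6Three (zp zp_add zp_zero zp_one zp_inv zp_mem zp_comm zp_eq_one SL3 eq_one_of_coprime)

/-- Negation of one plane. -/
def flip (i : Fin 3) (v : V) : V := fun j => if j = i then -v j else v j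

theorem flip_flip (i : Fin 3) (v : V) : flip i (flip i v) = v := by
  funext j; simp only [flip]; split_ifs <;> simp

theorem flip_of_ne {i j : Fin 3} (h : j ≠ i) (v : V) : flip i v j = v j := if_neg h

theorem flip_same (i : Fin 3) (v : V) : flip i v i = -v i := if_pos rfl

theorem neg_eq_self {u : ZMod 3 × ZMod 3} (h : -u = u) : u = 0 :=
  (show ∀ u : ZMod 3 × ZMod 3, -u = u → u = 0 by decide) u h

theorem flip_eq_self {i : Fin 3} {v : V} : flip i v = v ↔ v i = 0 := by
  refine ⟨fun h => neg_eq_self ?_, fun h => ?_⟩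
  · have := congrFun h i
    rwa [flip_same] at this
  · funext j; simp only [flip]; split_ifs with hj
    · subst hj; rw [h, neg_zero]
    · rfl

namespace Data

variable {G : Type*} [Group G] [Finite G] (D : Data G)

/-- The map induced on the coordinates. -/
noncomputable def act (g : G) (v : V) : V := D.vec (g * D.el v * g⁻¹)

theorem conj_Zc {g w : G} (hg : Commute g D.z) (hw : w ∈ D.Zc) : g * w * g⁻¹ = w := by
  rw [(D.comm_Zc hg hw).eq, mul_inv_cancel_right]

theorem vec_conj {g q : G} (hg : Commute g D.z) (hq : q ∈ D.Q) : D.vec (g * q * g⁻¹) = D.act g (D.vec q) := by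
  obtain ⟨w, hw, e⟩ := D.exists_el hq
  conv_lhs => rw [e, show g * (w * D.el (D.vec q)) * g⁻¹ = g * w * g⁻¹ * (g * D.el (D.vec q) * g⁻¹) by group,
    D.conj_Zc hg hw, D.vec_mul (D.Zc_le hw) (D.norm_Q g hg _ (D.el_mem _)), D.vec_Zc hw, zero_add]
  rfl

theorem act_add {g : G} (hg : Commute g D.z) (v w : V) : D.act g (v + w) = D.act g v + D.act g w := by
  have h := D.vec_conj hg (D.Q.mul_mem (D.el_mem v) (D.el_mem w))
  rw [D.vec_mul (D.el_mem v) (D.el_mem w), D.vec_el, D.vec_el] at h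
  rw [← h, show g * (D.el v * D.el w) * g⁻¹ = g * D.el v * g⁻¹ * (g * D.el w * g⁻¹) by group,
    D.vec_mul (D.norm_Q g hg _ (D.el_mem _)) (D.norm_Q g hg _ (D.el_mem _))]
  rfl

/-- The additive map induced on the coordinates. -/
noncomputable def actHom {g : G} (hg : Commute g D.z) : V →+ V := AddMonoidHom.mk' (D.act g) (D.act_add hg)

theorem act_zero {g : G} (hg : Commute g D.z) : D.act g 0 = 0 := (D.actHom hg).map_zero

theorem act_neg {g : G} (hg : Commute g D.z) (v : V) : D.act g (-v) = -D.act g v := (D.actHom hg).map_neg v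

theorem act_sub {g : G} (hg : Commute g D.z) (v w : V) : D.act g (v - w) = D.act g v - D.act g w :=
  (D.actHom hg).map_sub v w

theorem act_smul {g : G} (hg : Commute g D.z) (c : ZMod 3) (v : V) : D.act g (c • v) = c • D.act g v :=
  ZMod.map_smul (D.actHom hg) c v

theorem act_mul {g h : G} (hg : Commute g D.z) (hh : Commute h D.z) (v : V) :
    D.act (g * h) v = D.act g (D.act h v) := by
  show _ = D.act g (D.vec (h * D.el v * h⁻¹))
  rw [← D.vec_conj hg (D.norm_Q h hh _ (D.el_mem v)), act]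
  congr 1
  group

theorem act_Q {g : G} (hg : g ∈ D.Q) (v : V) : D.act g v = v := by
  rw [act, D.vec_mul (mul_mem hg (D.el_mem v)) (inv_mem hg), D.vec_mul hg (D.el_mem v), D.vec_inv hg, D.vec_el]
  abel

theorem act_one (v : V) : D.act 1 v = v := D.act_Q D.Q.one_mem v

theorem act_inv_cancel {g : G} (hg : Commute g D.z) (v : V) : D.act g⁻¹ (D.act g v) = v := by
  rw [← D.act_mul hg.inv_left hg, inv_mul_cancel, D.act_one]

theorem act_cancel_inv {g : G} (hg : Commute g D.z) (v : V) : D.act g (D.act g⁻¹ v) = v := by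
  rw [← D.act_mul hg hg.inv_left, mul_inv_cancel, D.act_one]

theorem act_injective {g : G} (hg : Commute g D.z) : Function.Injective (D.act g) :=
  Function.LeftInverse.injective (D.act_inv_cancel hg)

theorem act_surjective {g : G} (hg : Commute g D.z) : Function.Surjective (D.act g) :=
  Function.RightInverse.surjective (D.act_cancel_inv hg)

theorem act_form {g : G} (hg : Commute g D.z) (v w : V) : ω (D.act g v) (D.act g w) = ω v w := by
  refine D.zp_z_inj ?_
  show zp D.z (ω (D.vec (g * D.el v * g⁻¹)) (D.vec (g * D.el w * g⁻¹))) = _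
  rw [← D.form_eq (D.norm_Q g hg _ (D.el_mem _)) (D.norm_Q g hg _ (D.el_mem _)),
    show ⁅g * D.el v * g⁻¹, g * D.el w * g⁻¹⁆ = g * ⁅D.el v, D.el w⁆ * g⁻¹ by
      simp only [commutatorElement_def]; group,
    D.conj_Zc hg (D.comm_Q _ (D.el_mem _) _ (D.el_mem _)), D.form_eq (D.el_mem _) (D.el_mem _), D.vec_el, D.vec_el]

/-- The commutator with an element of `C(z)` in coordinates. -/
theorem vec_comm {g q : G} (hg : Commute g D.z) (hq : q ∈ D.Q) :
    ⁅g, q⁆ ∈ D.Q ∧ D.vec ⁅g, q⁆ = D.act g (D.vec q) - D.vec q := by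
  refine ⟨?_, ?_⟩
  · rw [commutatorElement_def]; exact mul_mem (D.norm_Q g hg q hq) (inv_mem hq)
  · rw [commutatorElement_def, D.vec_mul (D.norm_Q g hg q hq) (inv_mem hq), D.vec_inv hq, D.vec_conj hg hq,
      sub_eq_add_neg]

/-- An element centralising `Q` modulo the centre lies in `Q`. -/
theorem mem_Q_of_act {g : G} (hg : Commute g D.z) (h : ∀ v, D.act g v = v) : g ∈ D.Q := by
  have hm : ∀ q ∈ D.Q, ⁅g, q⁆ ∈ D.Zc := fun q hq => by
    rw [D.mem_Zc_iff (D.vec_comm hg hq).1, (D.vec_comm hg hq).2, h, sub_self]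
  let u : V := fun i => (D.zlog ⁅g, D.b i⁆, -D.zlog ⁅g, D.a i⁆)
  have key : ∀ q ∈ D.Q, ⁅D.el u, q⁆ = ⁅g, q⁆ → Commute ((D.el u)⁻¹ * g) q := by
    intro q _ e
    have e' : D.el u * q * (D.el u)⁻¹ = g * q * g⁻¹ := by rw [Data.conj_eq, Data.conj_eq, e]
    show (D.el u)⁻¹ * g * q = q * ((D.el u)⁻¹ * g)
    calc (D.el u)⁻¹ * g * q = (D.el u)⁻¹ * (g * q * g⁻¹) * g := by group
      _ = q * ((D.el u)⁻¹ * g) := by rw [← e']; group
  have hu : ∀ i, Commute ((D.el u)⁻¹ * g) (D.a i) ∧ Commute ((D.el u)⁻¹ * g) (D.b i) := by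
    refine fun i => ⟨key _ (D.ha' i) ?_, key _ (D.hb' i) ?_⟩
    · rw [D.form_eq (D.el_mem u) (D.ha' i), D.vec_el, D.vec_a, ω_single_right,
        D.zlog_spec (hm _ (D.ha' i))]
      simp [u, pl]
    · rw [D.form_eq (D.el_mem u) (D.hb' i), D.vec_el, D.vec_b, ω_single_right,
        D.zlog_spec (hm _ (D.hb' i))]
      simp [u, pl]
  have hc : Commute ((D.el u)⁻¹ * g) D.z := (D.comm_z _ (inv_mem (D.el_mem u))).mul_left hg
  have := mul_mem (D.el_mem u) (D.Zc_le (D.cent_Q _ hc (D.commute_Q_of_pairs hc hu)))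
  rwa [mul_inv_cancel_left] at this

/-! ### The complement -/

theorem P2_pow {p : G} (hp : p ∈ D.P2) : p ^ 128 = 1 := by
  rw [← D.card_P2]
  exact congrArg Subtype.val (pow_card_eq_one' (x := (⟨p, hp⟩ : D.P2)))

theorem pow_Q {q : G} (hq : q ∈ D.Q) : q ^ 2187 = 1 := by
  rw [← D.card_Q]
  exact congrArg Subtype.val (pow_card_eq_one' (x := (⟨q, hq⟩ : D.Q)))

theorem P2_inf {p : G} (hp : p ∈ D.P2) (hq : p ∈ D.Q) : p = 1 :=
  eq_one_of_coprime (by norm_num : Nat.Coprime 128 2187) (D.P2_pow hp) (D.pow_Q hq)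

theorem P2_ext {p p' : G} (hp : p ∈ D.P2) (hp' : p' ∈ D.P2) (h : ∀ v, D.act p v = D.act p' v) : p = p' := by
  refine eq_of_inv_mul_eq_one (D.P2_inf (mul_mem (inv_mem hp) hp') (D.mem_Q_of_act
    ((D.P2_z _ hp).inv_left.mul_left (D.P2_z _ hp')) fun v => ?_))
  rw [D.act_mul (D.P2_z _ hp).inv_left (D.P2_z _ hp'), ← h, D.act_inv_cancel (D.P2_z _ hp)]

/-- The sign involution of a plane. -/
noncomputable def t (i : Fin 3) : G := (D.sgn i).choose

theorem t_mem (i : Fin 3) : D.t i ∈ D.P2 := (D.sgn i).choose_spec.1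

theorem t_z (i : Fin 3) : Commute (D.t i) D.z := D.P2_z _ (D.t_mem i)

theorem act_t (i : Fin 3) (v : V) : D.act (D.t i) v = flip i v := by
  obtain ⟨hinv, hfix⟩ := (D.sgn i).choose_spec.2
  have hz := D.t_z i
  have h1 : ∀ u, D.act (D.t i) (Pi.single i u) = Pi.single i (-u) := fun u => by
    have hq := D.Qp_le i (D.elp_mem i u)
    have h := D.vec_Zc (hinv _ (D.elp_mem i u))
    rw [show (D.sgn i).choose = D.t i from rfl, D.vec_mul (D.norm_Q _ hz _ hq) hq, D.vec_conj hz hq,
      D.vec_elp] at h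
    rw [eq_neg_of_add_eq_zero_left h, Pi.single_neg]
  have h2 : ∀ j, j ≠ i → ∀ u, D.act (D.t i) (Pi.single j u) = Pi.single j u := fun j hj u => by
    have hq := D.Qp_le j (D.elp_mem j u)
    have h := D.vec_Zc (hfix j hj _ (D.elp_mem j u))
    rwa [show (D.sgn i).choose = D.t i from rfl, (D.vec_comm hz hq).2, D.vec_elp, sub_eq_zero] at h
  have hv : v = Pi.single 0 (v 0) + Pi.single 1 (v 1) + Pi.single 2 (v 2) := by
    funext j; fin_cases j <;> simp
  have h3 : ∀ j, D.act (D.t i) (Pi.single j (v j)) = flip i (Pi.single j (v j)) := fun j => by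
    by_cases hj : j = i
    · subst hj
      rw [h1]; funext k
      by_cases hk : k = j
      · subst hk; rw [flip_same]; simp
      · rw [flip_of_ne hk]; simp [Pi.single_eq_of_ne hk]
    · rw [h2 j hj]; exact (flip_eq_self.2 (Pi.single_eq_of_ne (Ne.symm hj) _)).symm
  conv_lhs => rw [hv, D.act_add hz, D.act_add hz, h3, h3, h3]
  funext j
  simp only [flip, Pi.add_apply]
  fin_cases j <;> fin_cases i <;> simp

theorem t_sq (i : Fin 3) : D.t i * D.t i = 1 :=
  D.P2_ext (mul_mem (D.t_mem i) (D.t_mem i)) D.P2.one_mem fun v => by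
    rw [D.act_mul (D.t_z i) (D.t_z i), D.act_t, D.act_t, flip_flip, D.act_one]

theorem t_ne_one (i : Fin 3) : D.t i ≠ 1 := fun h => by
  have h1 := congrFun (D.act_t i (Pi.single i (1, 0))) i
  rw [h, D.act_one, flip_same, Pi.single_eq_same] at h1
  exact absurd (neg_eq_self h1.symm) (by decide)

theorem t_inv (i : Fin 3) : (D.t i)⁻¹ = D.t i := inv_eq_of_mul_eq_one_right (D.t_sq i)

theorem t_comm (i j : Fin 3) : Commute (D.t i) (D.t j) :=
  D.P2_ext (mul_mem (D.t_mem i) (D.t_mem j)) (mul_mem (D.t_mem j) (D.t_mem i)) fun v => by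
    rw [D.act_mul (D.t_z i) (D.t_z j), D.act_mul (D.t_z j) (D.t_z i), D.act_t, D.act_t, D.act_t, D.act_t]
    funext k; simp only [flip]; split_ifs <;> rfl

/-- An element of `Q` commutes with a sign involution when its component vanishes. -/
theorem commute_t_iff {i : Fin 3} {q : G} (hq : q ∈ D.Q) : Commute (D.t i) q ↔ D.vec q i = 0 := by
  refine ⟨fun h => flip_eq_self.1 ?_, fun h => ?_⟩
  · rw [← D.act_t, ← D.vec_conj (D.t_z i) hq, h.eq, mul_inv_cancel_right]
  · have hm : ⁅D.t i, q⁆ ∈ D.Zc := by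
      rw [D.mem_Zc_iff (D.vec_comm (D.t_z i) hq).1, (D.vec_comm (D.t_z i) hq).2, D.act_t, flip_eq_self.2 h,
        sub_self]
    refine commutatorElement_eq_one_iff_commute.1 (Cfsg.Lib.U6Three.eq_one_of_sq_cube ?_ (D.cube_Zc hm))
    have e : D.t i * ⁅D.t i, q⁆ * (D.t i)⁻¹ = ⁅D.t i, q⁆⁻¹ := by
      rw [commutatorElement_def, D.t_inv]
      simp only [mul_inv_rev, inv_inv, D.t_inv, ← mul_assoc, D.t_sq, one_mul]
    rw [D.conj_Zc (D.t_z i) hm] at e
    exact eq_inv_iff_mul_eq_one.1 e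

end Data

end Cfsg.Lib.Fi22Three
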