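import Cfsg.Agent.Lib.Fi22Three.Concl
import Cfsg.Agent.Lib.U62Type.Mats
import Cfsg.Agent.Lib.U62Type.FourSetup

/-!
# A sign involution of another plane commutes with an element of order five in the quotient
-/

set_option autoImplicit false
set_option linter.unusedSectionVars false
set_option linter.style.haveILetI false
set_option maxRecDepth 4000
set_option synthInstance.maxSize 4000
set_option maxHeartbeats 1000000

namespace Cfsg.Lib.Fi22Three

open Subgroup
open Cfsg.Lib.U6Three (sl_quat)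

namespace Data

variable {G : Type*} [Group G] [Finite G] (D : Data G)

/-- The quotient with the conclusion and the sign of another plane commuting with an element of order five. -/
theorem exists_quot_five : ∃ i j : Fin 3, j ≠ i ∧ Cfsg.Lib.U6ThreeEnd.Concl (D.XQ i) ∧
    ∃ y : D.XQ i, orderOf y = 5 ∧ Commute y (D.π i (D.inC i ⟨D.t j, D.t_mem j⟩)) := by
  classical
  haveI : Fact (Nat.Prime 5) := ⟨by norm_num⟩
  obtain ⟨i, h, ht, hc, hn⟩ := D.exists_point_cent
  obtain ⟨T⟩ := (D.qdata ht hc hn).exists_setting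
  have h3 := D.quot_isThree ht hc hn T
  have hN := Cfsg.Lib.U6Three.Setting.ncond h3
  obtain ⟨y, hy, hyt⟩ : ∃ y : D.XQ i, orderOf y = 5 ∧ Commute y T.S.t := by
    have h5 : 5 ∣ Nat.card T.Yq := by
      rcases Cfsg.Lib.U6Three.Setting.recog h3 hN (ZMod 3) (ZMod.card 3) with ⟨⟨e⟩⟩ | ⟨⟨e⟩⟩
      · rw [Nat.card_congr e.toEquiv, Cfsg.Lib.U62Type.card_psp (ZMod.card 3)]; norm_num
      · rw [Nat.card_congr e.toEquiv, (Cfsg.Lib.U62Type.psp_facts (F := ZMod 3) (ZMod.card 3)).2.2.2.1]; norm_num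
    obtain ⟨y, hy⟩ := exists_prime_orderOf_dvd_card' 5 (h5.trans (T.Rn.card_quotient_dvd_card))
    exact ⟨y, by rw [Subgroup.orderOf_coe, hy], (T.mem_Nr.1 y.2).1⟩
  refine ⟨i, ?_⟩
  obtain ⟨x, hx⟩ := T.S.t_mem
  set p := D.lift2 i x
  have hp : D.π i (D.inC i p) = T.S.t := hx
  obtain ⟨hj, hk, hjk⟩ := jk_ne i
  have hsign : ∀ l, l ≠ i → D.mat (p : G) l = 1 ∨ D.mat (p : G) l = -1 := fun l hl => by
    refine sl_quat.1 _ ?_
    have h2 : D.π i (D.inC i p * D.inC i p) = D.π i 1 := by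
      rw [map_mul, map_one, hp, T.S.t_sq]
    have hpp : D.mat ((p : G) * p) l = 1 := by
      rcases (D.π_eq i).1 h2 with e | e
      · rw [show (p : G) * p = 1 from e.symm, D.mat_one]
      · rw [show (p : G) * p = (D.t i)⁻¹ from eq_inv_of_mul_eq_one_left e.symm, D.t_inv, D.mat_t, if_neg hl]
    rw [pow_two, ← D.mat_mul_K (D.P2_le_K p.2) (D.P2_le_K p.2), hpp]
  have hne : T.S.t ≠ 1 := T.t_ne
  -- one plane only
  have hnot : ¬ (D.mat (p : G) (jp i) = -1 ∧ D.mat (p : G) (kp i) = -1) := by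
    rintro ⟨e1, e2⟩
    have hle : (D.qdata ht hc hn).fixC T.S.t ≤ (D.qdata ht hc hn).Zc := by
      intro v hv
      obtain ⟨⟨q, hq, rfl⟩, hv2⟩ := (D.qdata ht hc hn).mem_fixC.1 hv
      have hqQ := mem_subgroupOf.1 hq
      have hz := D.P2_z _ p.2
      have hm : D.inC i p * q * (D.inC i p)⁻¹ ∈ D.QC i := mem_subgroupOf.2 (D.norm_Q _ hz _ hqQ)
      have e : D.π i (D.inC i p * q * (D.inC i p)⁻¹) = D.π i q := by
        rw [map_mul, map_mul, map_inv, hp, hv2.symm.eq, mul_inv_cancel_right]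
      have hpq : (p : G) * q * (p : G)⁻¹ = q := congrArg Subtype.val (D.π_eq_Q i (mem_subgroupOf.1 hm) hqQ e)
      have hZ : (q : G) ∈ D.Zc := by
        refine (D.mem_Zc_iff hqQ).2 (funext fun l => ?_)
        rcases eq_or_ne l i with rfl | hl
        · exact D.vec_QC _ hq
        have hml : mv (D.mat (p : G) l) (D.vec (q : G) l) = D.vec (q : G) l := by
          rw [← D.act_fixed_per hz (D.per_P2 p.2), ← D.vec_conj hz hqQ, hpq]
        rcases jk_cover i l hl with rfl | rfl
        · rw [e1, mv_neg_one] at hml; exact neg_eq_self hml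
        · rw [e2, mv_neg_one] at hml; exact neg_eq_self hml
      obtain ⟨n, hn'⟩ := mem_zpowers_iff.1 hZ
      refine mem_zpowers_iff.2 ⟨n, ?_⟩
      show (D.π i (D.zC i)) ^ n = _
      rw [← map_zpow]; congr 1; exact Subtype.ext (by rw [SubgroupClass.coe_zpow]; exact hn')
    have := Subgroup.card_le_of_le hle
    rw [T.S.card₂, (D.qdata ht hc hn).card_Zc] at this
    omega
  obtain ⟨j, hji, hpj⟩ : ∃ j, j ≠ i ∧ ∀ l, l ≠ i → D.mat (p : G) l = D.mat (D.t j) l := by
    rcases hsign _ hj with a | a <;> rcases hsign _ hk with b | b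
    · exfalso
      refine hne ?_
      rw [← hp, ← map_one (D.π i)]
      refine (D.π_eq i).2 ?_
      rcases D.P2_kernel i p.2 fun l hl => by rcases jk_cover i l hl with rfl | rfl <;> assumption with e | e
      · exact Or.inl (show (1 : G) = p from e.symm)
      · exact Or.inr (by rw [show ((D.inC i p : D.Ct i) : G) = D.t i from e, D.t_sq]; rfl)
    · exact ⟨kp i, hk, fun l hl => by
        rw [D.mat_t]; rcases jk_cover i l hl with rfl | rfl
        · rw [if_neg hjk, a]
        · rw [if_pos rfl, b]⟩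
    · exact ⟨jp i, hj, fun l hl => by
        rw [D.mat_t]; rcases jk_cover i l hl with rfl | rfl
        · rw [if_pos rfl, a]
        · rw [if_neg hjk.symm, b]⟩
    · exact absurd ⟨a, b⟩ hnot
  refine ⟨j, hji, Cfsg.Lib.U6Three.Setting.concl h3, y, hy, ?_⟩
  have e : D.π i (D.inC i ⟨D.t j, D.t_mem j⟩) = T.S.t := by
    rw [← hp]
    exact D.π_P2 i _ _ (hpj _ hj).symm (hpj _ hk).symm
  rw [e]; exact hyt

end Data

end Cfsg.Lib.Fi22Three
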