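import Cfsg.Agent.Lib.Fi22Three.Shift
import Cfsg.Agent.Lib.Fi22Three.QuotFive
import Cfsg.Agent.Lib.Fi22Three.Model.Outer
import Cfsg.Agent.Lib.MinusSix.Main
import Cfsg.Agent.Lib.Linear.UnitarySix.InvolLift

/-!
# The centraliser of a sign involution as an extension of `U₆(2)`
-/

set_option autoImplicit false
set_option linter.unusedSectionVars false
set_option linter.style.haveILetI false
set_option maxRecDepth 4000
set_option synthInstance.maxSize 4000

namespace Cfsg.Lib.Fi22Three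

open Subgroup
open scoped commutatorElement
open Model (U6 Central3)

/-- The centraliser of the sign involution `t i` over the simple group. -/
structure Base {G : Type*} [Group G] [Finite G] (D : Data G) where
  /-- The plane of the involution. -/
  i : Fin 3
  /-- Another plane. -/
  j : Fin 3
  ji : j ≠ i
  /-- The inner half. -/
  C0 : Subgroup G
  le : C0 ≤ D.Ct i
  norm : ∀ c ∈ D.Ct i, ∀ x ∈ C0, c * x * c⁻¹ ∈ C0
  t_mem : D.t i ∈ C0
  /-- The projection to the simple group. -/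
  p : C0 →* U6
  surj : Function.Surjective p
  ker : ∀ x : C0, p x = 1 ↔ (x : G) = 1 ∨ (x : G) = D.t i
  /-- The action on the simple group. -/
  act : D.Ct i →* MulAut U6
  act_p : ∀ (c : D.Ct i) (x : C0), act c (p x) = p ⟨c * x * (c : G)⁻¹, norm c c.2 x x.2⟩
  faithful : ∀ c : D.Ct i, act c = 1 → (c : G) = 1 ∨ (c : G) = D.t i
  five : ∃ y : D.Ct i, orderOf (act y) = 5 ∧ Commute (act y) (act (D.inC i ⟨D.t j, D.t_mem j⟩))

variable {G : Type*} [Group G] [Finite G] (D : Data G)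

theorem Data.exists_base : Nonempty (Base D) := by
  classical
  obtain ⟨i, j, hji, ⟨⟨F, iF, iF', hF, ⟨e₀⟩⟩, hcen⟩, y, hy, hyt⟩ := D.exists_quot_five
  letI := iF; letI := iF'
  obtain ⟨eF⟩ := Cfsg.Lib.MinusSix.psu_congr
    (FiniteField.ringEquivOfCardEq (K := F) (K' := Cfsg.Lib.CosetEnum.GF4) (hF.trans (by rfl))) 6 2
  obtain ⟨U, hU⟩ : ∃ U, U = Cfsg.generalizedFittingSubgroup (D.XQ i) := ⟨_, rfl⟩
  rw [← hU] at e₀ hcen
  haveI hUn : U.Normal := by
    rw [hU]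
    haveI : (Cfsg.generalizedFittingSubgroup (D.XQ i)).Characteristic :=
      Cfsg.Lib.Core.generalizedFittingSubgroup_characteristic
    infer_instance
  let e : U ≃* U6 := e₀.trans eF
  let C0 : Subgroup G := (U.comap (D.π i)).map (D.Ct i).subtype
  have hle : C0 ≤ D.Ct i := map_subtype_le _
  have hC0 : ∀ (x : G) (hx : x ∈ C0), D.π i ⟨x, hle hx⟩ ∈ U := by
    rintro _ ⟨u, hu, rfl⟩; exact hu
  have hnorm : ∀ c ∈ D.Ct i, ∀ x ∈ C0, c * x * c⁻¹ ∈ C0 := fun c hc x hx => by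
    refine ⟨⟨c, hc⟩ * ⟨x, hle hx⟩ * ⟨c, hc⟩⁻¹, ?_, rfl⟩
    show D.π i _ ∈ U
    rw [map_mul, map_mul, map_inv]
    exact hUn.conj_mem _ (hC0 x hx) _
  have hker : ∀ u : D.Ct i, D.π i u = 1 ↔ (u : G) = 1 ∨ (u : G) = D.t i := fun u => by
    rw [← map_one (D.π i), D.π_eq i]
    constructor
    · rintro (h | h)
      · exact Or.inl h.symm
      · exact Or.inr ((eq_inv_of_mul_eq_one_left h.symm).trans (D.t_inv i))
    · rintro (h | h)
      · exact Or.inl h.symm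
      · exact Or.inr (by rw [h, D.t_sq]; rfl)
  let p₀ : C0 →* U := ((D.π i).comp (inclusion hle)).codRestrict U fun x => hC0 x.1 x.2
  have hkerp : ∀ x : C0, e (p₀ x) = 1 ↔ (x : G) = 1 ∨ (x : G) = D.t i := fun x => by
    rw [MulEquiv.map_eq_one_iff, ← Subtype.coe_inj]
    exact hker (inclusion hle x)
  let ac : D.Ct i →* MulAut U6 :=
    ((MulAut.congr e).toMonoidHom.comp (MulAut.conjNormal : D.XQ i →* MulAut U)).comp (D.π i)
  have hac : ∀ (g : D.Ct i) (u : U), ac g (e u) =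
      e ⟨D.π i g * u * (D.π i g)⁻¹, hUn.conj_mem _ u.2 _⟩ := fun g u => by
    show e (MulAut.conjNormal (D.π i g) (e.symm (e u))) = _
    rw [MulEquiv.symm_apply_apply]
    exact congrArg e (Subtype.ext (MulAut.conjNormal_apply _ _))
  have hinj : Function.Injective ((MulAut.congr e).toMonoidHom.comp (MulAut.conjNormal : D.XQ i →* MulAut U)) := by
    refine (MulAut.congr e).injective.comp ((injective_iff_map_eq_one _).2 fun x hx => ?_)
    have hm : x ∈ centralizer (U : Set (D.XQ i)) := fun u hu => by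
      have h1 : x * u * x⁻¹ = u := by
        rw [← MulAut.conjNormal_apply x ⟨u, hu⟩, hx]; rfl
      exact (mul_inv_eq_iff_eq_mul.1 h1).symm
    rwa [hcen, mem_bot] at hm
  refine ⟨⟨i, j, hji, C0, hle, hnorm,
    ⟨D.tC i, show D.π i (D.tC i) ∈ U by rw [(hker (D.tC i)).2 (Or.inr rfl)]; exact one_mem _, rfl⟩,
    e.toMonoidHom.comp p₀, ?_, hkerp, ac, fun c x => ?_, fun c hc => ?_, ?_⟩⟩
  · refine e.surjective.comp fun u => ?_
    obtain ⟨v, hv⟩ := QuotientGroup.mk'_surjective (D.Tz i) (u : D.XQ i)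
    exact ⟨⟨v, v, show D.π i v ∈ U by rw [show D.π i v = (u : D.XQ i) from hv]; exact u.2, rfl⟩, Subtype.ext hv⟩
  · show ac c (e (p₀ x)) = _
    rw [hac]
    show e _ = e _
    refine congrArg e (Subtype.ext ?_)
    show D.π i c * D.π i _ * (D.π i c)⁻¹ = D.π i _
    rw [← map_inv, ← map_mul, ← map_mul]
    rfl
  · refine (hker c).1 (hinj ?_)
    rw [map_one]
    exact hc
  · obtain ⟨w, hw⟩ := QuotientGroup.mk'_surjective (D.Tz i) y
    refine ⟨w, ?_, ?_⟩
    · show orderOf (((MulAut.congr e).toMonoidHom.comp MulAut.conjNormal) (D.π i w)) = 5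
      rw [orderOf_injective _ hinj, show D.π i w = y from hw, hy]
    · show Commute (((MulAut.congr e).toMonoidHom.comp MulAut.conjNormal) (D.π i w)) _
      rw [show D.π i w = y from hw]
      exact hyt.map _

namespace Base

variable {D} (B : Base D)

theorem cmem {x : G} (hx : x ∈ B.C0) : Commute x (D.t B.i) := mem_centralizer_singleton_iff.1 (B.le hx)

/-- An element of the inner half acts as conjugation by its image. -/
theorem act_inner (x : B.C0) : B.act ⟨x, B.le x.2⟩ = MulAut.conj (B.p x) := by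
  refine MulEquiv.ext fun u => ?_
  obtain ⟨y, rfl⟩ := B.surj u
  rw [B.act_p, MulAut.conj_apply, ← map_inv, ← map_mul, ← map_mul]
  rfl

include B in
theorem conj_injective : Function.Injective (MulAut.conj : U6 →* MulAut U6) := by
  refine (injective_iff_map_eq_one _).2 fun u hu => ?_
  obtain ⟨x, rfl⟩ := B.surj u
  rcases B.faithful ⟨x, B.le x.2⟩ ((B.act_inner x).trans hu) with e | e
  · exact (B.ker x).2 (Or.inl e)
  · exact (B.ker x).2 (Or.inr e)

/-- The inner half is what acts by inner automorphisms. -/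
theorem mem_iff (c : D.Ct B.i) : (c : G) ∈ B.C0 ↔ ∃ u, MulAut.conj u = B.act c := by
  refine ⟨fun h => ⟨B.p ⟨c, h⟩, (B.act_inner ⟨c, h⟩).symm⟩, ?_⟩
  rintro ⟨u, hu⟩
  obtain ⟨x, rfl⟩ := B.surj u
  have h1 : B.act ((⟨x, B.le x.2⟩ : D.Ct B.i)⁻¹ * c) = 1 := by
    rw [map_mul, map_inv, B.act_inner, hu, inv_mul_cancel]
  rcases B.faithful _ h1 with e | e <;> simp only [Subgroup.coe_mul, Subgroup.coe_inv] at e
  · rw [← inv_mul_eq_one.1 e]; exact x.2
  · rw [inv_mul_eq_iff_eq_mul.1 e]; exact mul_mem x.2 B.t_mem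

theorem eq_of_p {x y : B.C0} (h : B.p x = B.p y) : (y : G) = x ∨ (y : G) = x * D.t B.i := by
  rcases (B.ker (x⁻¹ * y)).1 (by rw [map_mul, map_inv, h, inv_mul_cancel]) with e | e <;>
    simp only [Subgroup.coe_mul, Subgroup.coe_inv] at e
  · exact Or.inl (inv_mul_eq_one.1 e).symm
  · exact Or.inr (inv_mul_eq_iff_eq_mul.1 e)

/-- An element of odd order over a given one is unique. -/
theorem odd_unique {x y : B.C0} (h : B.p x = B.p y) {n : ℕ} (hn : Odd n) (hx : (x : G) ^ n = 1)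
    (hy : (y : G) ^ n = 1) : x = y := by
  rcases B.eq_of_p h with e | e
  · exact Subtype.ext e.symm
  · exfalso
    rw [e, (B.cmem x.2).mul_pow, hx, one_mul] at hy
    obtain ⟨m, rfl⟩ := hn
    rw [pow_succ, pow_mul, pow_two, D.t_sq, one_pow, one_mul] at hy
    exact D.t_ne_one _ hy

theorem odd_lift (u : U6) {n : ℕ} (hn : Odd n) (hu : u ^ n = 1) : ∃ x : B.C0, B.p x = u ∧ (x : G) ^ n = 1 := by
  obtain ⟨x, rfl⟩ := B.surj u
  refine ⟨x ^ (n + 1), by rw [map_pow, pow_succ, hu, one_mul], ?_⟩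
  have h2 : (x : G) ^ n * (x : G) ^ n = 1 := by
    rw [← map_pow] at hu
    rcases (B.ker _).1 hu with e | e <;> rw [SubmonoidClass.coe_pow] at e <;> rw [e]
    · exact one_mul 1
    · exact D.t_sq _
  obtain ⟨m, rfl⟩ := hn
  rw [SubmonoidClass.coe_pow, ← pow_mul, show (2 * m + 1 + 1) * (2 * m + 1) = (2 * m + 1 + (2 * m + 1)) * (m + 1) by ring,
    pow_mul, pow_add (x : G) (2 * m + 1) (2 * m + 1), h2, one_pow]

theorem lift_invol (x : B.C0) (h : B.p x * B.p x = 1) : (x : G) * x = 1 := by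
  have hc : B.p.ker ≤ center B.C0 := fun k hk => mem_center_iff.2 fun g => Subtype.ext (by
    rcases (B.ker k).1 hk with e | e <;> simp only [Subgroup.coe_mul, e]
    · rw [one_mul, mul_one]
    · exact (B.cmem g.2).eq)
  have hexp : ∀ k ∈ B.p.ker, k * k = 1 := fun k hk => Subtype.ext (by
    rcases (B.ker k).1 hk with e | e <;> simp only [Subgroup.coe_mul, Subgroup.coe_one, e]
    · exact one_mul 1
    · exact D.t_sq _)
  obtain ⟨c, hc1, hc2⟩ := Cfsg.Lib.Linear.UnitarySix.exists_lift (F := Cfsg.Lib.CosetEnum.GF4) rfl B.p B.surj hc hexp _ h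
  have hcc : (c : G) * c = 1 := congrArg Subtype.val hc2
  rcases B.eq_of_p hc1 with e | e <;> rw [e]
  · exact hcc
  · rw [show (c : G) * D.t B.i * ((c : G) * D.t B.i) = c * (D.t B.i * c) * D.t B.i by group, ← (B.cmem c.2).eq,
      show (c : G) * (c * D.t B.i) * D.t B.i = (c * c) * (D.t B.i * D.t B.i) by group, hcc, D.t_sq, one_mul]

theorem finite_U6 : Finite U6 :=
  Nat.finite_of_card_ne_zero (by rw [Cfsg.Lib.CosetEnum.GF4.card_psu.1]; norm_num)

theorem card_C0 : Nat.card B.C0 = 2 * 9196830720 := by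
  rw [Subgroup.card_eq_card_quotient_mul_card_subgroup B.p.ker,
    Nat.card_congr (QuotientGroup.quotientKerEquivOfSurjective B.p B.surj).toEquiv,
    Cfsg.Lib.CosetEnum.GF4.card_psu.1, mul_comm]
  congr 1
  refine Nat.card_eq_two_iff.2 ⟨⟨1, one_mem _⟩, ⟨⟨D.t B.i, B.t_mem⟩, (B.ker _).2 (Or.inr rfl)⟩, ?_, ?_⟩
  · intro e
    exact D.t_ne_one _ (congrArg (fun k : B.p.ker => ((k : B.C0) : G)) e).symm
  · refine Set.eq_univ_of_forall fun k => ?_
    rcases (B.ker k.1).1 k.2 with e | e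
    · exact Or.inl (Subtype.ext (Subtype.ext e))
    · exact Or.inr (Subtype.ext (Subtype.ext e))

/-- A top for three lies in the inner half. -/
theorem exists_top : ∃ T, CentTop (D.Ct B.i) D.z T ∧ T ≤ B.C0 ∧ Nat.card T = 729 := by
  classical
  haveI : Fact (Nat.Prime 3) := ⟨Nat.prime_three⟩
  obtain ⟨T, hT⟩ := D.exists_top (D.t_sq B.i) (D.t_z B.i) (D.wide_t B.i)
  obtain ⟨P, hP⟩ := hT.sylow
  -- its order is at most 729
  have hK : ∀ x ∈ T, x ∈ D.K := fun x hx => by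
    have hxz : Commute x D.z := mem_centralizer_singleton_iff.1 (hT.le_cent hx)
    obtain ⟨k, hk⟩ := hT.three ⟨x, hx⟩
    have hQ : x ^ 3 ^ k ∈ D.Q := by rw [show x ^ 3 ^ k = 1 from congrArg Subtype.val hk]; exact one_mem _
    exact ⟨hxz, (fin3_cycle _ (D.per_cube hxz hQ)).resolve_right fun h =>
      h B.i (D.per_of_commute hxz (mem_centralizer_singleton_iff.1 (hT.le hx)))⟩
  let m : T →* Cfsg.Lib.U6Three.SL3 :=
    MonoidHom.mk' (fun x => D.mat x B.j) fun x y => D.mat_mul_K (hK x x.2) (hK y y.2) B.j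
  have hker : Nat.card m.ker ≤ 243 := by
    obtain ⟨σ, hσ, hσp⟩ := D.exists_sigma
    have hmem : ∀ x : m.ker, ((x : T) : G) ∈ D.Q ⊓ D.Ct B.i := fun x => by
      obtain ⟨k, hk⟩ := hT.three x.1
      refine ⟨D.mem_Q_iff.2 ⟨hK _ x.1.2, D.diag_one hσ hσp (hK _ x.1.2)
        (fun l => D.mat_cube (hK _ x.1.2) (k := k) ?_ l) (show D.mat ((x : T) : G) B.j = 1 from x.2)⟩, hT.le x.1.2⟩
      rw [show ((x : T) : G) ^ 3 ^ k = 1 from congrArg Subtype.val hk]; exact one_mem _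
    have h1 := Nat.card_le_card_of_injective (fun x : m.ker => (⟨_, hmem x⟩ : ↥(D.Q ⊓ D.Ct B.i)))
      fun x y e => Subtype.ext (Subtype.ext (congrArg (fun w : ↥(D.Q ⊓ D.Ct B.i) => (w : G)) e))
    have h2 := D.card_QC B.i
    rw [Data.QC, ← inf_subgroupOf_right, Nat.card_congr (subgroupOfEquivOfLe inf_le_right).toEquiv] at h2
    omega
  have hrange : Nat.card m.range ≤ 3 := by
    have h24 : Nat.card m.range ∣ 24 := Cfsg.Lib.U6Three.sl_card.1 ▸ Subgroup.card_subgroup_dvd_card m.range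
    obtain ⟨n, hn⟩ := IsPGroup.iff_card.1 (hT.three.of_surjective m.rangeRestrict m.rangeRestrict_surjective)
    rw [hn] at h24 ⊢
    rcases n with _ | _ | n
    · norm_num
    · norm_num
    · exfalso
      have : (9 : ℕ) ∣ 24 := (show 3 ^ 2 ∣ 3 ^ (n + 1 + 1) from pow_dvd_pow 3 (by omega)).trans h24
      omega
  have hTle : Nat.card T ≤ 729 := by
    rw [Subgroup.card_eq_card_quotient_mul_card_subgroup m.ker,
      Nat.card_congr (QuotientGroup.quotientKerEquivRange m).toEquiv]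
    exact le_trans (Nat.mul_le_mul hrange hker) (by norm_num)
  obtain ⟨R⟩ : Nonempty (Sylow 3 B.C0) := inferInstance
  have hR : 729 ≤ Nat.card R := by
    have h : (3 : ℕ) ^ 6 ∣ Nat.card B.C0 := by rw [B.card_C0]; norm_num
    exact Nat.le_of_dvd Nat.card_pos (R.pow_dvd_card_of_pow_dvd_card h)
  have hRp : IsPGroup 3 (((R : Subgroup B.C0).map B.C0.subtype).subgroupOf (D.Ct B.i)) :=
    (R.isPGroup'.map _).comap_of_injective _ (D.Ct B.i).subtype_injective
  obtain ⟨S, hS⟩ := hRp.exists_le_sylow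
  have hcard : Nat.card (((R : Subgroup B.C0).map B.C0.subtype).subgroupOf (D.Ct B.i)) = Nat.card R := by
    rw [Nat.card_congr (subgroupOfEquivOfLe ((map_subtype_le _).trans B.le)).toEquiv,
      card_map_of_injective B.C0.subtype_injective]
  have hST : Nat.card S = Nat.card T := by
    rw [Sylow.card_eq_multiplicity, ← P.card_eq_multiplicity, hP, Nat.card_congr (subgroupOfEquivOfLe hT.le).toEquiv]
  have heq := Subgroup.eq_of_le_of_card_ge hS (by rw [hcard, hST]; omega)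
  have h729 : Nat.card T = 729 := by
    have := Subgroup.card_le_of_le hS
    omega
  refine ⟨T, hT, fun x hx => ?_, h729⟩
  obtain ⟨c, hc⟩ := MulAction.exists_smul_eq (D.Ct B.i) P S
  have hx' : (⟨x, hT.le hx⟩ : D.Ct B.i) ∈ (P : Subgroup (D.Ct B.i)) := by rw [hP]; exact mem_subgroupOf.2 hx
  have hcx : c * ⟨x, hT.le hx⟩ * c⁻¹ ∈ (S : Subgroup (D.Ct B.i)) := by
    rw [← hc, Sylow.coe_subgroup_smul]
    exact Subgroup.smul_mem_pointwise_smul _ (MulAut.conj c) _ hx'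
  rw [← heq, mem_subgroupOf] at hcx
  obtain ⟨r, -, hr⟩ := hcx
  have := B.norm _ (inv_mem c.2) _ r.2
  rw [show ((r : B.C0) : G) = (c : G) * x * (c : G)⁻¹ from hr] at this
  simpa [mul_assoc] using this

/-- Elements for three lie in the inner half. -/
theorem three_mem {x : G} (hx : x ∈ D.Ct B.i) {k : ℕ} (hk : x ^ 3 ^ k = 1) : x ∈ B.C0 := by
  haveI : Fact (Nat.Prime 3) := ⟨Nat.prime_three⟩
  obtain ⟨T, hT, hle, -⟩ := B.exists_top
  obtain ⟨P, hP⟩ := hT.sylow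
  have hp : IsPGroup 3 (zpowers (⟨x, hx⟩ : D.Ct B.i)) := fun w => by
    obtain ⟨n, hn⟩ := mem_zpowers_iff.1 w.2
    refine ⟨k, Subtype.ext ?_⟩
    rw [SubmonoidClass.coe_pow, ← hn, ← zpow_natCast, ← zpow_mul, mul_comm, zpow_mul, zpow_natCast,
      show (⟨x, hx⟩ : D.Ct B.i) ^ 3 ^ k = 1 from Subtype.ext hk, one_zpow]
    rfl
  obtain ⟨R, hR⟩ := hp.exists_le_sylow
  obtain ⟨c, hc⟩ := MulAction.exists_smul_eq (D.Ct B.i) P R
  have hm : (⟨x, hx⟩ : D.Ct B.i) ∈ (R : Subgroup (D.Ct B.i)) := hR (mem_zpowers _)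
  rw [← hc, Sylow.coe_subgroup_smul, Subgroup.mem_pointwise_smul_iff_inv_smul_mem, hP, mem_subgroupOf] at hm
  have := B.norm c c.2 _ (hle hm)
  simpa [MulAut.inv_apply, mul_assoc] using this

/-- An element outside the inner half acts with the field automorphism. -/
theorem act_outer {c : D.Ct B.i} (hc : (c : G) ∉ B.C0) :
    ∃ g : ↥(Cfsg.GU 6 Cfsg.Lib.CosetEnum.GF4 2),
      B.act c = Cfsg.Lib.Linear.AutPSU.innd g * Cfsg.Lib.Linear.AutPSU.fld Model.fr := by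
  haveI : Fact (Nat.Prime 3) := ⟨Nat.prime_three⟩
  obtain ⟨g, σ, hg⟩ := Cfsg.Lib.Linear.AutPSU.exists_decomp Model.hF (p := 2) (by norm_num) (fun h => by omega) (B.act c)
  rcases Model.equiv_cases σ with rfl | rfl
  swap
  · exact ⟨g, hg⟩
  exfalso
  rw [map_one, mul_one] at hg
  have h3 : (c : G) ^ 3 ∈ B.C0 := by
    refine (B.mem_iff (c ^ 3)).2 ?_
    obtain ⟨G3, hG3⟩ : ∃ G3, G3 = g ^ 3 := ⟨_, rfl⟩
    have hd : G3.1.1.det = 1 := by
      rw [hG3, SubmonoidClass.coe_pow, Units.val_pow_eq_pow_val, Matrix.det_pow]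
      exact (show ∀ a : Cfsg.Lib.CosetEnum.GF4, a ≠ 0 → a ^ 3 = 1 by decide +kernel) _
        (((Matrix.isUnit_iff_isUnit_det g.1.1).1 g.1.isUnit).ne_zero)
    let s : Model.S6 := ⟨⟨G3.1.1, hd⟩, G3.2⟩
    refine ⟨QuotientGroup.mk s, ?_⟩
    rw [Cfsg.Lib.Linear.AutPSU.conj_mk_eq,
      show Cfsg.Lib.Linear.AutPSU.toGU s = G3 from Subtype.ext (Units.ext rfl), hG3, map_pow, map_pow, hg]
  obtain ⟨k, n, hn, hkn⟩ := Nat.exists_eq_pow_mul_and_not_dvd (orderOf_pos (c : G)).ne' 3 (by norm_num)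
  have hk : (c : G) ^ n ∈ B.C0 := B.three_mem (pow_mem c.2 n)
    (k := k) (by rw [← pow_mul, mul_comm, ← hkn, pow_orderOf_eq_one])
  refine hc ?_
  have h' : (c : G) ^ (Nat.gcd 3 n : ℤ) ∈ B.C0 := by
    rw [Nat.gcd_eq_gcd_ab, zpow_add, zpow_mul, zpow_mul, zpow_natCast, zpow_natCast]
    exact mul_mem (zpow_mem h3 _) (zpow_mem hk _)
  rwa [((Nat.Prime.coprime_iff_not_dvd Nat.prime_three).2 hn).gcd_eq_one, Nat.cast_one, zpow_one] at h'

/-- The inner half has index at most two. -/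
theorem mul_mem_of_not {c d : G} (hc : c ∈ D.Ct B.i) (hd : d ∈ D.Ct B.i) (hc0 : c ∉ B.C0) (hd0 : d ∉ B.C0) :
    c * d ∈ B.C0 := by
  by_contra hcd
  obtain ⟨g, hg⟩ := B.act_outer (c := ⟨c, hc⟩) hc0
  obtain ⟨h, hh⟩ := B.act_outer (c := ⟨d, hd⟩) hd0
  obtain ⟨k, hk⟩ := B.act_outer (c := ⟨c, hc⟩ * ⟨d, hd⟩) hcd
  rw [map_mul, hg, hh, mul_assoc, ← mul_assoc (Cfsg.Lib.Linear.AutPSU.fld Model.fr : MulAut U6),
    Cfsg.Lib.Linear.AutPSU.fld_mul_innd, mul_assoc, ← map_mul (Cfsg.Lib.Linear.AutPSU.fld (F := Cfsg.Lib.CosetEnum.GF4)),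
    show Model.fr * Model.fr = 1 from RingEquiv.ext (by decide +kernel : ∀ a : Cfsg.Lib.CosetEnum.GF4, Model.fr (Model.fr a) = a),
    map_one, mul_one, ← map_mul] at hk
  have h1 : (Cfsg.Lib.Linear.AutPSU.fld Model.fr : MulAut U6) =
      Cfsg.Lib.Linear.AutPSU.innd (k⁻¹ * (g * Cfsg.Lib.Linear.AutPSU.smGU Model.fr h)) := by
    rw [map_mul, map_inv, hk, inv_mul_cancel_left]
  obtain ⟨-, hcard⟩ := (Cfsg.Lib.Linear.AutPSU.innd_mul_fld_eq_one Model.hF 2 (by norm_num)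
    (g := (k⁻¹ * (g * Cfsg.Lib.Linear.AutPSU.smGU Model.fr h))⁻¹) (σ := Model.fr) (by rw [map_inv, ← h1, inv_mul_cancel]))
  exact absurd hcard (by intro e; exact absurd (RingEquiv.congr_fun e Cfsg.Lib.CosetEnum.GF4.w) (by decide +kernel))

theorem sq_mem {c : G} (hc : c ∈ D.Ct B.i) : c * c ∈ B.C0 := by
  by_cases h : c ∈ B.C0
  · exact mul_mem h h
  · exact B.mul_mem_of_not hc hc h h

theorem comm_mem {c d : G} (hc : c ∈ D.Ct B.i) (hd : d ∈ D.Ct B.i) : ⁅c, d⁆ ∈ B.C0 := by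
  rw [show ⁅c, d⁆ = (c * d) * (c * d) * (d⁻¹ * (c⁻¹ * c⁻¹) * d⁻¹⁻¹) * (d⁻¹ * d⁻¹) by
    simp only [commutatorElement_def]; group]
  exact mul_mem (mul_mem (B.sq_mem (mul_mem hc hd)) (B.norm _ (inv_mem hd) _ (B.sq_mem (inv_mem hc))))
    (B.sq_mem (inv_mem hd))

/-- The complement and the diagonal part lie in the inner half. -/
theorem half : (∀ l, D.t l ∈ B.C0) ∧ (∀ p ∈ D.P2, p ∈ B.C0) ∧ (∀ q ∈ D.Q, Commute q (D.t B.i) → q ∈ B.C0) ∧
    ∀ g ∈ D.K, Commute g (D.t B.i) → g ∈ B.C0 :=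
  D.half (fun _ hx => B.sq_mem hx) fun _ hx _ hy => B.comm_mem hx hy

end Base

end Cfsg.Lib.Fi22Three
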