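import Mathlib

/-!
# A subgroup for three with cyclic centre that is maximal in the centraliser of that centre
-/

set_option autoImplicit false
set_option linter.unusedSectionVars false
set_option linter.style.haveILetI false

namespace Cfsg.Lib.Fi22Three

open Subgroup

variable {G : Type*} [Group G] [Finite G]

/-- The centre is the group generated by `z`. -/
structure CentTop (C : Subgroup G) (z : G) (T : Subgroup G) : Prop where
  three : IsPGroup 3 T
  le : T ≤ C
  le_cent : T ≤ centralizer ({z} : Set G)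
  order : orderOf z = 3
  mem : z ∈ T
  centre : ∀ y ∈ T, (∀ x ∈ T, Commute y x) → y ∈ zpowers z
  max : ∀ T' : Subgroup G, IsPGroup 3 T' → T ≤ T' → T' ≤ C → T' ≤ centralizer ({z} : Set G) → T' = T

theorem eq_or_inv {z y : G} (hz : orderOf z = 3) (hy : y ∈ zpowers z) (hy1 : y ≠ 1) : y = z ∨ y = z⁻¹ := by
  obtain ⟨n, rfl⟩ := mem_zpowers_iff.1 hy
  have h3 : z ^ (3 : ℤ) = 1 := by rw [show (3 : ℤ) = ((3 : ℕ) : ℤ) from rfl, zpow_natCast, ← hz, pow_orderOf_eq_one]
  have e : z ^ n = z ^ (n % 3) := by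
    conv_lhs => rw [← Int.emod_add_mul_ediv n 3, zpow_add, zpow_mul, h3, one_zpow, mul_one]
  rw [e] at hy1 ⊢
  have h1 := Int.emod_nonneg n (show (3 : ℤ) ≠ 0 by norm_num)
  have h2 := Int.emod_lt_of_pos n (show (0 : ℤ) < 3 by norm_num)
  interval_cases hn : n % 3
  · simp at hy1
  · left; simp
  · right
    refine eq_inv_of_mul_eq_one_left ?_
    rw [zpow_two, ← pow_three', ← hz, pow_orderOf_eq_one]

/-- It is maximal for three in the whole group. -/
theorem CentTop.maximal {C T : Subgroup G} {z : G} (h : CentTop C z T) {T' : Subgroup G} (hp : IsPGroup 3 T')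
    (hle : T ≤ T') (hC : T' ≤ C) : T' = T := by
  haveI : Fact (Nat.Prime 3) := ⟨Nat.prime_three⟩
  by_contra hne
  set T₀ := T.subgroupOf T' with hT₀
  haveI : Group.IsNilpotent T' := hp.isNilpotent
  have hlt : T₀ < ⊤ := lt_top_iff_ne_top.2 fun e => hne (le_antisymm (subgroupOf_eq_top.1 e) hle)
  have hgt := Group.normalizerCondition_of_isNilpotent T₀ hlt
  set N := (normalizer (T₀ : Set T')).map T'.subtype
  have hTN : T ≤ N := fun x hx => ⟨⟨x, hle hx⟩, hgt.le (mem_subgroupOf.2 hx), rfl⟩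
  have hNT : N = T := by
    refine h.max N ((hp.to_subgroup _).map _) hTN
      (by rintro _ ⟨n, -, rfl⟩; exact hC n.2) ?_
    rintro _ ⟨n, hn, rfl⟩
    show (n : G) ∈ centralizer ({z} : Set G)
    have key : (n : G) * z * (n : G)⁻¹ ∈ zpowers z := by
      refine h.centre _ ?_ fun x hx => ?_
      · exact mem_subgroupOf.1 ((mem_normalizer_iff.1 hn ⟨z, hle h.mem⟩).1 (mem_subgroupOf.2 h.mem))
      · have hx' : (n : G)⁻¹ * x * n ∈ T := by
          have := mem_subgroupOf.1 ((mem_normalizer_iff.1 (inv_mem hn) ⟨x, hle hx⟩).1 (mem_subgroupOf.2 hx))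
          simpa using this
        have hc : Commute z ((n : G)⁻¹ * x * n) := (mem_centralizer_singleton_iff.1 (h.le_cent hx') : _ = _).symm
        have := (Commute.conj_iff (n : G)).2 hc
        rwa [show (n : G) * ((n : G)⁻¹ * x * n) * (n : G)⁻¹ = x by group] at this
    rcases eq_or_inv h.order key (by simpa using fun e : z = 1 => by simpa [e] using h.order) with e | e
    · exact mem_centralizer_singleton_iff.2 (mul_inv_eq_iff_eq_mul.1 e)
    · exfalso
      have hodd : ∀ k : ℕ, Odd k → (n : G) ^ k * z * ((n : G) ^ k)⁻¹ = z⁻¹ := by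
        rintro _ ⟨k, rfl⟩
        induction k with
        | zero => simpa using e
        | succ k ih =>
          rw [show 2 * (k + 1) + 1 = 2 + (2 * k + 1) by ring, pow_add,
            show (n : G) ^ 2 * (n : G) ^ (2 * k + 1) * z * ((n : G) ^ 2 * (n : G) ^ (2 * k + 1))⁻¹ =
              (n : G) * ((n : G) * ((n : G) ^ (2 * k + 1) * z * ((n : G) ^ (2 * k + 1))⁻¹) * (n : G)⁻¹) * (n : G)⁻¹ by
                rw [pow_two]; simp only [mul_inv_rev, mul_assoc],
            ih, show (n : G) * z⁻¹ * (n : G)⁻¹ = ((n : G) * z * (n : G)⁻¹)⁻¹ by group, e, inv_inv, e]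
      obtain ⟨m, hm⟩ := hp n
      have h1 := hodd _ (Odd.pow (by decide) : Odd (3 ^ m))
      rw [show (n : G) ^ 3 ^ m = 1 from congrArg Subtype.val hm] at h1
      simp only [one_mul, inv_one, mul_one] at h1
      have h2 : z ^ 2 = 1 := by rw [pow_two]; nth_rewrite 2 [h1]; exact mul_inv_cancel z
      have := orderOf_dvd_of_pow_eq_one h2
      rw [h.order] at this
      omega
  refine hgt.ne (le_antisymm hgt.le fun n hn => mem_subgroupOf.2 ?_)
  rw [← hNT]
  exact ⟨n, hn, rfl⟩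

/-- It is a Sylow subgroup. -/
theorem CentTop.sylow {C T : Subgroup G} {z : G} (h : CentTop C z T) :
    ∃ P : Sylow 3 C, (P : Subgroup C) = T.subgroupOf C := by
  refine ⟨⟨T.subgroupOf C, h.three.of_equiv (subgroupOfEquivOfLe h.le).symm, fun {Q} hQ hle => ?_⟩, rfl⟩
  have := h.maximal (hQ.map C.subtype) (fun x hx => ⟨⟨x, h.le hx⟩, hle (mem_subgroupOf.2 hx), rfl⟩)
    (by rintro _ ⟨q, -, rfl⟩; exact q.2)
  ext q
  exact ⟨fun hq => mem_subgroupOf.2 (this ▸ ⟨q, hq, rfl⟩), fun hq => hle hq⟩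

/-- Two such centres are conjugate up to inversion. -/
theorem CentTop.conj {C T T' : Subgroup G} {z z' : G} (h : CentTop C z T) (h' : CentTop C z' T') :
    ∃ c ∈ C, c * z * c⁻¹ = z' ∨ c * z * c⁻¹ = z'⁻¹ := by
  haveI : Fact (Nat.Prime 3) := ⟨Nat.prime_three⟩
  obtain ⟨P, hP⟩ := h.sylow
  obtain ⟨P', hP'⟩ := h'.sylow
  obtain ⟨c, hc⟩ := MulAction.exists_smul_eq C P P'
  have hmap : ∀ x ∈ T', (c : G)⁻¹ * x * c ∈ T := fun x hx => by
    have hx' : (⟨x, h'.le hx⟩ : C) ∈ (P' : Subgroup C) := by rw [hP']; exact mem_subgroupOf.2 hx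
    rw [← hc, Sylow.coe_subgroup_smul, Subgroup.mem_pointwise_smul_iff_inv_smul_mem, hP, mem_subgroupOf] at hx'
    simpa [MulAut.inv_apply] using hx'
  refine ⟨c, c.2, eq_or_inv h'.order (h'.centre _ ?_ fun x hx => ?_) ?_⟩
  · have hz : (⟨z, h.le h.mem⟩ : C) ∈ (P : Subgroup C) := by rw [hP]; exact mem_subgroupOf.2 h.mem
    have := Subgroup.smul_mem_pointwise_smul _ (MulAut.conj c) _ hz
    rw [← Sylow.pointwise_smul_def, ← Sylow.smul_def, hc, hP', mem_subgroupOf] at this
    simpa using this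
  · have hc' : Commute z ((c : G)⁻¹ * x * c) := (mem_centralizer_singleton_iff.1 (h.le_cent (hmap x hx)) : _ = _).symm
    have := (Commute.conj_iff (c : G)).2 hc'
    rwa [show (c : G) * ((c : G)⁻¹ * x * c) * (c : G)⁻¹ = x by group] at this
  · simpa using fun e : z = 1 => by simpa [e] using h.order

/-- It moves along a conjugation. -/
theorem CentTop.map {C T : Subgroup G} {z : G} (h : CentTop C z T) (g : G) :
    CentTop (C.map (MulAut.conj g).toMonoidHom) (g * z * g⁻¹) (T.map (MulAut.conj g).toMonoidHom) := by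
  have hcz : ∀ a, Commute (g * a * g⁻¹) (g * z * g⁻¹) ↔ Commute a z := fun a => Commute.conj_iff g
  refine ⟨h.three.map _, map_mono h.le, ?_, ?_, ⟨z, h.mem, rfl⟩, ?_, fun T' hp hle hC hcent => ?_⟩
  · rintro _ ⟨a, ha, rfl⟩
    exact mem_centralizer_singleton_iff.2 ((hcz a).2 (mem_centralizer_singleton_iff.1 (h.le_cent ha)))
  · rw [← MulAut.conj_apply, MulEquiv.orderOf_eq, h.order]
  · rintro _ ⟨a, ha, rfl⟩ hall
    obtain ⟨n, hn⟩ := mem_zpowers_iff.1 (h.centre a ha fun x hx => (Commute.conj_iff g).1 (hall _ ⟨x, hx, rfl⟩))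
    exact mem_zpowers_iff.2 ⟨n, by rw [← hn]; exact conj_zpow⟩
  · refine le_antisymm (fun x hx => ⟨g⁻¹ * x * g, ?_, by simp [mul_assoc]⟩) hle
    have e := h.max (T'.map (MulAut.conj g⁻¹).toMonoidHom) (hp.map _)
      (fun a ha => ⟨g * a * g⁻¹, hle ⟨a, ha, rfl⟩, by simp [mul_assoc]⟩)
      (by
        rintro _ ⟨a, ha, rfl⟩
        obtain ⟨b, hb, hbe⟩ := hC ha
        rw [← hbe]
        simpa [mul_assoc] using hb)
      (by
        rintro _ ⟨a, ha, rfl⟩
        refine mem_centralizer_singleton_iff.2 ((hcz _).1 ?_)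
        simpa [mul_assoc] using (show Commute a (g * z * g⁻¹) from mem_centralizer_singleton_iff.1 (hcent ha)))
    rw [← e]
    exact ⟨x, hx, by simp⟩

end Cfsg.Lib.Fi22Three
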