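import Cfsg.Agent.Lib.Fi22Three.Basic
import Cfsg.Agent.Lib.Fi22Three.Top
import Cfsg.Agent.Lib.Core.Layer
import Cfsg.Agent.Lib.PGroup.Basic
import Cfsg.Prelude.Def_Transfer
import Cfsg.Prelude.Def_Solvable

/-!
# The data from the hypotheses on the centraliser
-/

set_option autoImplicit false
set_option linter.unusedSectionVars false
set_option linter.style.haveILetI false

namespace Cfsg.Lib.Fi22Three

open Subgroup
open scoped commutatorElement

/-- A conjugate outside that commutes with the element, from the failure of weak closure. -/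
theorem exists_commuting_conj {G : Type*} [Group G] [Finite G] {S : Subgroup G} (hS : IsPGroup 3 S) {z : G}
    (hz : orderOf z = 3) (hzS : z ∈ S) {g : G} (hg : g * z * g⁻¹ ∈ S) (hne : g * z * g⁻¹ ∉ zpowers z) :
    ∃ h : G, Commute (h * z * h⁻¹) z ∧ h * z * h⁻¹ ∉ zpowers z := by
  classical
  by_cases hall : ∀ s ∈ S, Commute s z
  · exact ⟨g, hall _ hg, hne⟩
  push Not at hall
  obtain ⟨s₀, hs₀, hns₀⟩ := hall
  haveI : Fact (Nat.Prime 3) := ⟨Nat.prime_three⟩
  haveI : Group.IsNilpotent S := hS.isNilpotent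
  set T : Subgroup S := centralizer ({⟨z, hzS⟩} : Set S) with hT
  have hmemT : ∀ x : S, x ∈ T ↔ Commute (x : G) z := fun x => by
    rw [hT, mem_centralizer_singleton_iff]
    exact ⟨fun h => congrArg Subtype.val h, fun h => Subtype.ext h⟩
  have hlt : T < ⊤ := lt_top_iff_ne_top.2 fun e => hns₀ ((hmemT ⟨s₀, hs₀⟩).1 (e ▸ mem_top _))
  obtain ⟨s, hsn, hsT⟩ := Set.exists_of_ssubset (Group.normalizerCondition_of_isNilpotent T hlt)
  have hzT : (⟨z, hzS⟩ : S) ∈ T := (hmemT _).2 (Commute.refl z)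
  have hc : Commute ((s : G) * z * (s : G)⁻¹) z :=
    (hmemT _).1 ((mem_normalizer_iff.1 hsn _).1 hzT)
  refine ⟨s, hc, fun hmem => hsT ((hmemT s).2 ?_)⟩
  obtain ⟨n, hn⟩ := hS s
  have hsn : ((s : G)) ^ 3 ^ n = 1 := by simpa using congrArg Subtype.val hn
  have hz3 : z ^ 3 = 1 := hz ▸ pow_orderOf_eq_one z
  have hne1 : (s : G) * z * (s : G)⁻¹ ≠ 1 := by
    intro e
    rw [mul_inv_eq_one, mul_eq_left] at e
    rw [e, orderOf_one] at hz; norm_num at hz
  rcases eq_or_inv hz hmem hne1 with e | e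
  · exact mul_inv_eq_iff_eq_mul.1 e
  have h2 : Commute ((s : G) ^ 2) z := by
    refine mul_inv_eq_iff_eq_mul.1 ?_
    calc (s : G) ^ 2 * z * ((s : G) ^ 2)⁻¹ = (s : G) * ((s : G) * z * (s : G)⁻¹) * (s : G)⁻¹ := by
          simp [sq, mul_assoc]
      _ = ((s : G) * z * (s : G)⁻¹)⁻¹ := by nth_rw 1 [e]; group
      _ = z := by rw [e, inv_inv]
  obtain ⟨m, hm⟩ : Odd (3 ^ n) := Odd.pow (by decide)
  have hs : (s : G) = (((s : G) ^ 2) ^ m)⁻¹ := by
    refine eq_inv_of_mul_eq_one_right ?_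
    rw [← pow_mul, ← pow_succ, ← hm, hsn]
  rw [hs]
  exact (h2.pow_left m).inv_left

/-- The automorphism of a normalised subgroup preserves a characteristic subgroup. -/
theorem conj_mem_of_characteristic {G : Type*} [Group G] {H : Subgroup G} (F : Subgroup H) [hF : F.Characteristic]
    {g : G} (hg : ∀ x : G, x ∈ H ↔ g * x * g⁻¹ ∈ H) {u : H} (hu : u ∈ F) :
    ∃ v ∈ F, (v : G) = g * u * g⁻¹ := by
  have e : H.map (MulAut.conj g).toMonoidHom = H := by
    ext x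
    constructor
    · rintro ⟨y, hy, rfl⟩; exact (hg y).1 hy
    · intro hx
      refine ⟨g⁻¹ * x * g, (hg _).2 (by simpa [mul_assoc] using hx), by simp [mul_assoc]⟩
  let φ : H ≃* H := ((MulAut.conj g).subgroupMap H).trans (MulEquiv.subgroupCongr e)
  refine ⟨φ u, ?_, rfl⟩
  rw [← characteristic_iff_map_eq.1 hF φ]
  exact mem_map_of_mem _ hu

/-- A plane contains a pair with commutator the given central element. -/
theorem exists_pair {G : Type*} [Group G] [Finite G] {H : Subgroup G} {R : Subgroup H}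
    (hR : Cfsg.IsExtraspecial 3 R) {z : H} (hz : orderOf z = 3) (hzc : z ∈ center H) (hzR : z ∈ R) :
    ∃ a ∈ R, ∃ b ∈ R, ⁅(a : G), (b : G)⁆ = (z : G) := by
  obtain ⟨⟨-, -, hco⟩, hcard⟩ := hR
  haveI : Fact (Nat.Prime 3) := ⟨Nat.prime_three⟩
  have hzC : (⟨z, hzR⟩ : R) ∈ center R := mem_center_iff.2 fun y => Subtype.ext (mem_center_iff.1 hzc y)
  have heq : zpowers (⟨z, hzR⟩ : R) = center R := by
    refine eq_of_le_of_card_ge (zpowers_le.2 hzC) ?_
    rw [Nat.card_zpowers, hcard, ← Subgroup.orderOf_coe, hz]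
  obtain ⟨u, v, huv⟩ : ∃ u v : R, ⁅u, v⁆ ≠ 1 := by
    by_contra hcon
    push Not at hcon
    have : commutator R = ⊥ := by
      rw [eq_bot_iff, _root_.commutator_def, commutator_le]
      intro u _ v _; rw [hcon u v]; exact one_mem _
    rw [hco] at this
    rw [this, Subgroup.card_bot] at hcard
    norm_num at hcard
  have hm : ⁅u, v⁆ ∈ zpowers (⟨z, hzR⟩ : R) := by
    rw [heq, ← hco, _root_.commutator_def]; exact commutator_mem_commutator (mem_top _) (mem_top _)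
  have ho : orderOf (⟨z, hzR⟩ : R) = 3 := by rw [← Subgroup.orderOf_coe, hz]
  have hval : ∀ {p q : R}, ⁅p, q⁆ = (⟨z, hzR⟩ : R) → ⁅((p : H) : G), ((q : H) : G)⁆ = (z : G) := fun {p q} h => by
    simpa [commutatorElement_def] using congrArg (fun x : R => ((x : H) : G)) h
  obtain ⟨k, hk⟩ := mem_zpowers_iff.1 hm
  rw [← zpow_mod_orderOf, ho] at hk
  have h1 := Int.emod_nonneg k (show (3 : ℤ) ≠ 0 by norm_num)
  have h2 := Int.emod_lt_of_pos k (show (0 : ℤ) < 3 by norm_num)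
  obtain ⟨r, hr⟩ : ∃ r, r = k % 3 := ⟨_, rfl⟩
  push_cast at hk
  rw [← hr] at hk h1 h2
  interval_cases r
  · exact absurd (by simpa using hk.symm) huv
  · exact ⟨u, u.2, v, v.2, hval (by simpa using hk.symm)⟩
  · refine ⟨v, v.2, u, u.2, hval ?_⟩
    rw [← commutatorElement_inv, ← hk, zpow_two]
    refine inv_eq_of_mul_eq_one_right ?_
    rw [← pow_two, ← pow_succ]
    have := pow_orderOf_eq_one (⟨z, hzR⟩ : R)
    rwa [ho] at this

theorem commute_conj_iff {G : Type*} [Group G] (g x z : G) :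
    Commute (g * x * g⁻¹) (g * z * g⁻¹) ↔ Commute x z := by
  constructor
  · intro h
    have := h.map (MulAut.conj g⁻¹).toMonoidHom
    simpa [mul_assoc] using this
  · intro h
    simpa using h.map (MulAut.conj g).toMonoidHom

theorem exists_data_of_hyp {G : Type*} [Group G] [Finite G]
    (H : Subgroup G) (Q : Subgroup H) (hQF : Q = Cfsg.generalizedFittingSubgroup H) [hQn : Q.Normal]
    (hQex : Cfsg.IsExtraspecial 3 Q) (hQcard : Nat.card Q = 3 ^ 7)
    (hZZ : (Subgroup.center Q).map Q.subtype = Subgroup.center H)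
    (P : Subgroup H) (hP : P = (Cfsg.pCore 2 (H ⧸ Q)).comap (QuotientGroup.mk' Q))
    (hPcard : Nat.card (Cfsg.pCore 2 (H ⧸ Q)) = 2 ^ 7)
    (Qs : Fin 3 → Subgroup H) (hle : ∀ i, Qs i ≤ Q)
    (hZle : ∀ i, Subgroup.center H ≤ Qs i)
    (hex : ∀ i, Cfsg.IsExtraspecial 3 (Qs i))
    (hcard : ∀ i, Nat.card (Qs i) = 27)
    (hcomm : ∀ i j, i ≠ j → ∀ a ∈ Qs i, ∀ b ∈ Qs j, a * b = b * a)
    (hprod : ⨆ i, Qs i = Q)
    (hnorm : ∀ x ∈ P, ∀ i, ∀ q ∈ Qs i, x * q * x⁻¹ ∈ Qs i)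
    (hcent : ∀ i, ∃ x ∈ P, (∀ q ∈ Qs i, x * q * x⁻¹ * q ∈ Subgroup.center H) ∧
      ∀ j, Qs j ≠ Qs i → ∀ q ∈ Qs j, x * q * x⁻¹ * q⁻¹ ∈ Subgroup.center H)
    (Z : Subgroup G) (hZ : Z = (Subgroup.center H).map H.subtype) (hHC : H = Subgroup.centralizer (Z : Set G))
    (S : Sylow 3 G) (hZS : Z ≤ S) (hnwc : ¬ Cfsg.IsWeaklyClosed Z S) :
    ∃ D : Data G, Subgroup.zpowers D.z = Z ∧ D.Q = Q.map H.subtype := by
  classical
  haveI : Fact (Nat.Prime 3) := ⟨Nat.prime_three⟩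
  haveI : Fact (Nat.Prime 2) := ⟨Nat.prime_two⟩
  obtain ⟨⟨hQp, hfr, hco⟩, hQc⟩ := hQex
  have hc3 : Nat.card (center H) = 3 := by
    rw [← hZZ, card_map_of_injective Q.subtype_injective, hQc]
  have hZ3 : Nat.card Z = 3 := by rw [hZ, card_map_of_injective H.subtype_injective, hc3]
  haveI : IsCyclic (center H) := isCyclic_of_prime_card hc3
  obtain ⟨z0, hz0⟩ := IsCyclic.exists_generator (α := center H)
  set zH : H := (z0 : H)
  set z : G := (zH : G)
  have hzc : zH ∈ center H := z0.2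
  have hzHo : orderOf zH = 3 := by
    show orderOf ((z0 : center H) : H) = 3
    rw [Subgroup.orderOf_coe, orderOf_eq_card_of_forall_mem_zpowers hz0, hc3]
  have hzo : orderOf z = 3 := (Subgroup.orderOf_coe zH).trans hzHo
  have hzZ : zpowers z = Z := by
    refine eq_of_le_of_card_ge (zpowers_le.2 (hZ ▸ ⟨zH, hzc, rfl⟩)) ?_
    rw [Nat.card_zpowers, hzo, hZ3]
  have hmem : ∀ g : G, g ∈ H ↔ Commute g z := by
    intro g
    conv_lhs => rw [hHC, ← hzZ]
    constructor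
    · intro hg; exact (mem_centralizer_iff.1 hg z (mem_zpowers z)).symm
    · intro hg
      refine mem_centralizer_iff.2 fun w hw => ?_
      obtain ⟨k, rfl⟩ := mem_zpowers_iff.1 hw
      exact (hg.zpow_right k).eq.symm
  have hcenz : ∀ u : H, u ∈ center H → (u : G) ∈ zpowers z := fun u hu => hzZ ▸ hZ ▸ ⟨u, hu, rfl⟩
  have hzcen : ∀ u : H, (u : G) ∈ zpowers z → u ∈ center H := fun u hu => by
    rw [hzZ, hZ] at hu
    obtain ⟨w, hw, e⟩ := hu
    rwa [← H.subtype_injective e]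
  have hQcen : ∀ u : Q, u ∈ center Q → ((u : H) : G) ∈ zpowers z := fun u hu =>
    hcenz _ (hZZ ▸ ⟨u, hu, rfl⟩)
  have hzQ : zH ∈ Q := by
    have h := hZZ.symm ▸ hzc
    obtain ⟨u, -, e⟩ := h
    exact e ▸ u.2
  have hinvF : ∀ g, g * z * g⁻¹ = z⁻¹ → ∀ x : G, x ∈ H ↔ g * x * g⁻¹ ∈ H := fun g hg x => by
    have hs : Commute (g * x * g⁻¹) (g * z * g⁻¹) ↔ Commute x z := commute_conj_iff g x z
    rw [hmem, hmem, ← hs, hg, Commute.inv_right_iff]
  -- the complement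
  have hQP : Q ≤ P := fun u hu => hP ▸ mem_comap.2 (by
    rw [QuotientGroup.mk'_apply, (QuotientGroup.eq_one_iff u).2 hu]; exact one_mem _)
  set QP := Q.subgroupOf P with hQP'
  haveI : QP.Normal := normal_subgroupOf
  have hPtot : Nat.card P = 2 ^ 7 * 3 ^ 7 := by
    have h1 := P.card_mul_index
    rw [hP, index_comap_of_surjective _ (QuotientGroup.mk'_surjective Q)] at h1
    have h2 := card_mul_index (Cfsg.pCore 2 (H ⧸ Q))
    rw [← index_eq_card, hPcard] at h2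
    have h3 := Q.card_mul_index
    rw [← h2, hQcard, ← mul_assoc, mul_comm (3 ^ 7)] at h3
    rw [hP]
    exact Nat.eq_of_mul_eq_mul_right (Nat.pos_of_ne_zero index_ne_zero_of_finite) (h1.trans h3.symm)
  have hQPc : Nat.card QP = 3 ^ 7 := by rw [hQP', Nat.card_congr (subgroupOfEquivOfLe hQP).toEquiv, hQcard]
  have hidx : QP.index = 2 ^ 7 := by
    have h := QP.card_mul_index
    rw [hPtot, hQPc] at h
    exact Nat.eq_of_mul_eq_mul_left (show 0 < 3 ^ 7 by norm_num) (h.trans (mul_comm _ _))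
  obtain ⟨K, hK⟩ := exists_right_complement'_of_coprime (N := QP) (by rw [hidx, hQPc]; norm_num)
  set P2 := (K.map P.subtype).map H.subtype with hP2
  have hKc : Nat.card P2 = 128 := by
    have h := hK.card_mul
    rw [hQPc, hPtot] at h
    rw [hP2, card_map_of_injective H.subtype_injective, card_map_of_injective P.subtype_injective]
    exact Nat.eq_of_mul_eq_mul_left (show 0 < 3 ^ 7 by norm_num) (h.trans (mul_comm _ _))
  have hdec : ∀ x ∈ P, ∃ p : H, p ∈ P ∧ (p : G) ∈ P2 ∧ p⁻¹ * x ∈ Q := by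
    intro x hx
    obtain ⟨⟨⟨a, ha⟩, ⟨b, hb⟩⟩, e⟩ := hK.2 ⟨x, hx⟩
    refine ⟨b, b.2, ⟨b, ⟨b, hb, rfl⟩, rfl⟩, ?_⟩
    have hx' : x = (a : H) * b := (congrArg Subtype.val e).symm
    rw [hx', ← mul_assoc]
    simpa [mul_assoc] using hQn.conj_mem _ (mem_subgroupOf.1 ha) (b : H)⁻¹
  have hP2H : ∀ p ∈ P2, ∃ x ∈ P, (x : G) = p := by
    rintro _ ⟨x, ⟨y, -, rfl⟩, rfl⟩
    exact ⟨y, y.2, rfl⟩
  have hPn : P.Normal := hP ▸ inferInstance
  -- the pairs
  have hpair := fun i => exists_pair (hex i) hzHo hzc (hZle i hzc)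
  choose a ha b hb hab using hpair
  have hne : ∀ i j, i ≠ j → Qs i ≠ Qs j := fun i j hij e => by
    have h : ⁅((a i : H) : G), ((b i : H) : G)⁆ = 1 :=
      commutatorElement_eq_one_iff_commute.2 (congrArg Subtype.val (hcomm i j hij _ (ha i) _ (e ▸ hb i)))
    rw [hab i] at h
    rw [show z = 1 from h, orderOf_one] at hzo
    norm_num at hzo
  have hQcomm : ∀ u v : H, u ∈ Q → v ∈ Q → ⁅u, v⁆ ∈ center H := fun u v hu hv => by
    have hm : ⁅(⟨u, hu⟩ : Q), ⟨v, hv⟩⁆ ∈ center Q := by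
      rw [← hco, _root_.commutator_def]; exact commutator_mem_commutator (mem_top _) (mem_top _)
    exact hZZ ▸ ⟨_, hm, by simp [commutatorElement_def]⟩
  refine ⟨{
    z := z
    hz := hzo
    Q := Q.map H.subtype
    card_Q := by rw [card_map_of_injective H.subtype_injective, hQcard]; norm_num
    z_mem := ⟨zH, hzQ, rfl⟩
    comm_z := by rintro _ ⟨u, -, rfl⟩; exact (hmem u).1 u.2
    norm_Q := by
      rintro g hg _ ⟨u, hu, rfl⟩
      exact ⟨⟨g, (hmem g).2 hg⟩ * u * ⟨g, (hmem g).2 hg⟩⁻¹, hQn.conj_mem u hu _, rfl⟩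
    center_Q := by
      rintro _ ⟨u, hu, rfl⟩ h
      exact hQcen ⟨u, hu⟩ (mem_center_iff.2 fun y => Subtype.ext (Subtype.ext (h _ ⟨(y : H), y.2, rfl⟩).eq.symm))
    comm_Q := by
      rintro _ ⟨u, hu, rfl⟩ _ ⟨v, hv, rfl⟩
      simpa [commutatorElement_def] using hcenz _ (hQcomm u v hu hv)
    cube_Q := by
      rintro _ ⟨u, hu, rfl⟩
      have hm : (⟨u, hu⟩ : Q) ^ 3 ∈ center Q := hfr ▸ Cfsg.Lib.PGroup.pow_mem_frattini hQp _
      simpa using hQcen _ hm
    cent_Q := by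
      intro g hg h
      have hgQ : (⟨g, (hmem g).2 hg⟩ : H) ∈ Q := hQF ▸ Cfsg.Lib.Core.centralizer_generalizedFitting_le
        (mem_centralizer_iff.2 fun w hw => Subtype.ext (h _ ⟨w, hQF ▸ hw, rfl⟩).eq.symm)
      exact hQcen ⟨_, hgQ⟩ (mem_center_iff.2 fun y => Subtype.ext (Subtype.ext (h _ ⟨(y : H), y.2, rfl⟩).eq.symm))
    inv_Q := by
      rintro g hg _ ⟨u, hu, rfl⟩
      haveI : Q.Characteristic := hQF ▸ Cfsg.Lib.Core.generalizedFittingSubgroup_characteristic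
      obtain ⟨v, hv, e⟩ := conj_mem_of_characteristic Q (hinvF g hg) hu
      exact ⟨v, hv, e⟩
    Qp := fun i => (Qs i).map H.subtype
    Qp_le := fun i => map_mono (hle i)
    card_Qp := fun i => by rw [card_map_of_injective H.subtype_injective, hcard i]
    z_mem_Qp := fun i => ⟨zH, hZle i hzc, rfl⟩
    comm_Qp := by
      rintro i j hij _ ⟨u, hu, rfl⟩ _ ⟨v, hv, rfl⟩
      exact congrArg Subtype.val (hcomm i j hij u hu v hv)
    gen_Q := by rw [← hprod, Subgroup.map_iSup]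
    a := fun i => (a i : G)
    b := fun i => (b i : G)
    ha := fun i => ⟨a i, ha i, rfl⟩
    hb := fun i => ⟨b i, hb i, rfl⟩
    hab := hab
    P2 := P2
    card_P2 := hKc
    P2_z := fun p hp => by
      obtain ⟨x, -, rfl⟩ := hP2H p hp
      exact (hmem x).1 x.2
    P2_normal := fun g hg p hp => by
      obtain ⟨x, hx, rfl⟩ := hP2H p hp
      obtain ⟨p', -, hp', hq⟩ := hdec _ (hPn.conj_mem x hx ⟨g, (hmem g).2 hg⟩)
      exact ⟨p', hp', _, hq, by simp [mul_assoc]⟩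
    P2_Qp := by
      rintro p hp i _ ⟨u, hu, rfl⟩
      obtain ⟨x, hx, rfl⟩ := hP2H p hp
      exact ⟨_, hnorm x hx i u hu, rfl⟩
    two_core := ?_
    sgn := ?_
    nwc := ?_ }, hzZ, rfl⟩
  · intro N hNz hNn hN2 n hn
    set NH := N.subgroupOf H
    haveI hNHn : NH.Normal := ⟨fun u hu g => mem_subgroupOf.2 (hNn g ((hmem g).1 g.2) u (mem_subgroupOf.1 hu))⟩
    set Nb := NH.map (QuotientGroup.mk' Q)
    haveI : Nb.Normal := hNHn.map _ (QuotientGroup.mk'_surjective Q)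
    have hp : IsPGroup 2 Nb := by
      rintro ⟨_, u, hu, rfl⟩
      obtain ⟨k, w, hw, e⟩ := hN2 u (mem_subgroupOf.1 hu)
      refine ⟨k, Subtype.ext ?_⟩
      show (QuotientGroup.mk' Q u) ^ 2 ^ k = 1
      rw [← map_pow, QuotientGroup.mk'_apply, QuotientGroup.eq_one_iff]
      rwa [show u ^ 2 ^ k = w from Subtype.ext (by simpa using e.symm)]
    have hnH : n ∈ H := (hmem n).2 (hNz n hn)
    have hnP : (⟨n, hnH⟩ : H) ∈ P := hP ▸ mem_comap.2
      ((le_sSup ⟨inferInstance, hp⟩ : Nb ≤ Cfsg.pCore 2 (H ⧸ Q)) ⟨_, mem_subgroupOf.2 hn, rfl⟩)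
    obtain ⟨p, -, hp2, hq⟩ := hdec _ hnP
    exact ⟨p, hp2, _, hq, rfl⟩
  · intro i
    obtain ⟨x, hx, hi, hj⟩ := hcent i
    obtain ⟨p, -, hp2, hq⟩ := hdec x hx
    have key : ∀ k : Fin 3, ∀ q ∈ Qs k, ∃ c ∈ center H, p * q * p⁻¹ = x * q * x⁻¹ * c := by
      intro k q hq'
      obtain ⟨w, hw, rfl⟩ : ∃ w ∈ Q, p = x * w := ⟨x⁻¹ * p, by
        simpa using inv_mem hq, by group⟩
      have hc : q⁻¹ * (w * q * w⁻¹) ∈ center H := by
        have := hQcomm q⁻¹ w (inv_mem (hle k hq')) hw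
        rw [commutatorElement_def, inv_inv] at this
        simpa [mul_assoc] using this
      refine ⟨_, hc, ?_⟩
      calc x * w * q * (x * w)⁻¹ = x * q * (q⁻¹ * (w * q * w⁻¹)) * x⁻¹ := by group
        _ = x * q * (x⁻¹ * (q⁻¹ * (w * q * w⁻¹))) := by
          rw [mul_assoc (x * q) _ x⁻¹, mem_center_iff.1 hc x⁻¹]
        _ = _ := by group
    refine ⟨p, hp2, ?_, ?_⟩
    · rintro _ ⟨q, hq', rfl⟩
      obtain ⟨c, hc, e⟩ := key i q hq'
      refine hcenz (p * q * p⁻¹ * q) ?_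
      rw [e, mul_assoc _ c q, ← mem_center_iff.1 hc q, ← mul_assoc]
      exact mul_mem (hi q hq') hc
    · rintro j hji _ ⟨q, hq', rfl⟩
      obtain ⟨c, hc, e⟩ := key j q hq'
      have h := hcenz (p * q * p⁻¹ * q⁻¹) (by
        rw [e, mul_assoc _ c q⁻¹, ← mem_center_iff.1 hc q⁻¹, ← mul_assoc]
        exact mul_mem (hj j (hne j i hji) q hq') hc)
      simpa [commutatorElement_def] using h
  · obtain ⟨g, hg, hne'⟩ : ∃ g : G, Z.map (MulAut.conj g).toMonoidHom ≤ S ∧ Z.map (MulAut.conj g).toMonoidHom ≠ Z := by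
      by_contra hcon
      push Not at hcon
      exact hnwc ⟨hZS, hcon⟩
    refine exists_commuting_conj S.isPGroup' hzo (hZS (hzZ ▸ mem_zpowers z)) (g := g)
      (hg ⟨z, hzZ ▸ mem_zpowers z, rfl⟩) fun h => hne' ?_
    refine eq_of_le_of_card_ge ?_ (card_map_of_injective (MulAut.conj g).injective).ge
    rw [← hzZ, MonoidHom.map_zpowers]
    exact zpowers_le.2 (by simpa using h)

end Cfsg.Lib.Fi22Three
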