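import Cfsg.Agent.Lib.Fi22Three.Shape

/-!
# The second conjugate of a point and its normalisation by the sign involutions
-/

set_option autoImplicit false
set_option linter.unusedSectionVars false
set_option maxRecDepth 4000
set_option synthInstance.maxSize 2000

namespace Cfsg.Lib.Fi22Three

open Subgroup
open scoped commutatorElement
open Cfsg.Lib.U6Three (zp zp_zero zp_one zp_mem SL3)

theorem pl_smul_self (c : ZMod 3) (u : ZMod 3 × ZMod 3) : pl u (c • u) = 0 := by
  rw [pl_smul_right, pl_self, mul_zero]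

namespace Data

variable {G : Type*} [Group G] [Finite G] (D : Data G)

/-- The involution exchanging `z` with the second conjugate. -/
noncomputable def swap (g : G) (k : Fin 3) : G := g⁻¹ * D.t k * g

/-- The second conjugate. -/
noncomputable def twin (g : G) (k : Fin 3) : G := D.swap g k * D.z * (D.swap g k)⁻¹

/-- The coordinates of the point belonging to the inverse. -/
noncomputable def dir (g : G) : V := D.vec (g⁻¹ * D.z * g)

theorem swap_sq (g : G) (k : Fin 3) : D.swap g k * D.swap g k = 1 := by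
  rw [swap, show g⁻¹ * D.t k * g * (g⁻¹ * D.t k * g) = g⁻¹ * (D.t k * D.t k) * g by group, D.t_sq]; group

theorem swap_inv (g : G) (k : Fin 3) : (D.swap g k)⁻¹ = D.swap g k := inv_eq_of_mul_eq_one_right (D.swap_sq g k)

theorem twin_eq (g : G) (k : Fin 3) : D.twin g k = g⁻¹ * (D.t k * (g * D.z * g⁻¹) * (D.t k)⁻¹) * g := by
  rw [twin, swap]; group

variable {D}

theorem IsPt.dir_ne {g : G} (hp : D.IsPt g) (i : Fin 3) : D.dir g i ≠ 0 := by
  have := hp.symm.v_ne i
  rwa [inv_inv] at this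

/-- What the second conjugate looks like. -/
structure TwinSpec (g : G) (k : Fin 3) : Prop where
  comm_z : Commute (D.twin g k) D.z
  not_Q : D.twin g k ∉ D.Q
  mem_K : D.twin g k ∈ D.K
  comm_dir : Commute (D.twin g k) (g⁻¹ * D.z * g)
  comm_iff : ∀ q ∈ D.Q, Commute (D.twin g k) q ↔ q ∈ D.lines (D.dir g)
  shape : ∃ e : ZMod 3, e ≠ 0 ∧ ∀ i w, mv (D.mat (D.twin g k) i) w = w + (e * pl (D.dir g i) w) • D.dir g i

theorem IsPt.twinSpec {g : G} (hp : D.IsPt g) (k : Fin 3) : D.TwinSpec g k := by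
  classical
  set y := g * D.z * g⁻¹ with hy
  set y2 := D.t k * y * (D.t k)⁻¹ with hy2
  set x := D.twin g k with hx
  have hxe : x = g⁻¹ * y2 * g := D.twin_eq g k
  have hy2Q : y2 ∈ D.Q := D.norm_Q _ (D.t_z k) _ hp.1
  have hv2 : D.vec y2 = flip k (D.vec y) := by rw [hy2, D.vec_conj (D.t_z k) hp.1, D.act_t]
  have hxQ : x ∉ D.Q := by rw [hxe]; exact D.flip_outside hp.1 hp.2 k
  have hxz : Commute x D.z := by
    have h : Commute y2 y := by
      rw [D.commute_iff hy2Q hp.1, hv2, ω]
      refine Finset.sum_eq_zero fun i _ => ?_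
      by_cases hi : i = k
      · subst hi; rw [flip_same]; simp only [pl, Prod.fst_neg, Prod.snd_neg, hy]; ring
      · rw [flip_of_ne hi, pl_self]
    have := (Commute.conj_iff g⁻¹).2 h
    simpa [hxe, hy, mul_assoc] using this
  have hxd : Commute x (g⁻¹ * D.z * g) := by
    have := (Commute.conj_iff g⁻¹).2 (D.comm_z _ hy2Q)
    simpa [hxe, mul_assoc] using this
  -- the centraliser in `Q` is large
  have h81 : 81 ≤ Nat.card (D.Q ⊓ centralizer ({x} : Set G) : Subgroup G) := by
    have hcom : ∀ n ∈ D.N g, ⁅n, y2⁆ ∈ D.Zc := by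
      intro n hn
      have hn' : n ∈ D.M g ∧ n ∈ D.K := hn
      obtain ⟨e, he⟩ := hp.const_e hn'.1 hn'.2
      rw [D.mem_Zc_iff (D.vec_comm hn'.2.1 hy2Q).1, (D.vec_comm hn'.2.1 hy2Q).2, sub_eq_zero, hv2]
      funext i
      rw [D.act_fixed_per hn'.2.1 hn'.2.2, he]
      rw [pl_flip (pl_self _), mul_zero, zero_smul, add_zero]
    let φ : D.N g →* Multiplicative (ZMod 3) := MonoidHom.mk'
      (fun n => Multiplicative.ofAdd (D.zlog ⁅(n : G), y2⁆)) fun a b => by
        have ha : (a : G) ∈ D.M g ∧ (a : G) ∈ D.K := a.2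
        rw [← ofAdd_add, ← D.zlog_mul (hcom a a.2) (hcom b b.2)]
        congr 2
        show ⁅(a : G) * (b : G), y2⁆ = _
        rw [show ⁅(a : G) * (b : G), y2⁆ = (a : G) * ⁅(b : G), y2⁆ * (a : G)⁻¹ * ⁅(a : G), y2⁆ by
          simp only [commutatorElement_def]; group, D.conj_Zc ha.2.1 (hcom b b.2)]
        exact (D.comm_Q_Zc (D.Zc_le (hcom b b.2)) (hcom a a.2)).eq
    have h243 := hp.card_N
    have hle : Nat.card (D.N g) ≤ 3 * Nat.card φ.ker := by
      have h := Subgroup.card_eq_card_quotient_mul_card_subgroup φ.ker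
      rw [h]
      refine Nat.mul_le_mul_right _ ?_
      calc Nat.card (D.N g ⧸ φ.ker) ≤ Nat.card (Multiplicative (ZMod 3)) :=
            Nat.card_le_card_of_injective _ (QuotientGroup.kerLift_injective φ)
        _ = 3 := by rw [Nat.card_congr Multiplicative.toAdd, Nat.card_zmod]
    have hinj : Nat.card φ.ker ≤ Nat.card (D.Q ⊓ centralizer ({x} : Set G) : Subgroup G) := by
      have hmap : ∀ n : φ.ker, g⁻¹ * ((n : D.N g) : G) * g ∈ D.Q ⊓ centralizer ({x} : Set G) := by
        intro n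
        have hnM : ((n : D.N g) : G) ∈ D.M g ∧ ((n : D.N g) : G) ∈ D.K := (n : D.N g).2
        refine mem_inf.2 ⟨(D.mem_M.1 hnM.1).1, mem_centralizer_singleton_iff.2 ?_⟩
        have hc : Commute ((n : D.N g) : G) y2 := by
          have hk : D.zlog ⁅((n : D.N g) : G), y2⁆ = 0 := congrArg Multiplicative.toAdd (MonoidHom.mem_ker.1 n.2)
          rw [← commutatorElement_eq_one_iff_commute, D.zlog_spec (hcom _ (n : D.N g).2), hk, zp_zero]
        have := (Commute.conj_iff g⁻¹).2 hc
        simpa [hxe, mul_assoc, Commute, SemiconjBy] using this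
      exact Nat.card_le_card_of_injective (fun n => (⟨_, hmap n⟩ : (D.Q ⊓ centralizer ({x} : Set G) : Subgroup G)))
        fun n n' e => Subtype.ext (Subtype.ext (mul_left_cancel (mul_right_cancel (congrArg Subtype.val e))))
    omega
  have hfix : ∀ q ∈ D.Q ⊓ centralizer ({x} : Set G), D.act x (D.vec q) = D.vec q := fun q hq => by
    have hc : Commute q x := mem_centralizer_singleton_iff.1 hq.2
    rw [← D.vec_conj hxz hq.1, hc.symm.eq, mul_inv_cancel_right]
  have hx3 : x ^ 3 ^ 1 ∈ D.Q := by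
    rw [pow_one, hxe, show g⁻¹ * y2 * g = g⁻¹ * y2 * g⁻¹⁻¹ by rw [inv_inv], conj_pow, hy2,
      conj_pow, hy, conj_pow, D.z_cube]
    simp
  have hxK : x ∈ D.K := by
    refine ⟨hxz, (fin3_cycle _ (D.per_cube hxz hx3)).resolve_right fun h => ?_⟩
    let F : AddSubgroup V :=
      { carrier := {v | D.act x v = v}
        zero_mem' := D.act_zero hxz
        add_mem' := fun ha hb => (D.act_add hxz _ _).trans (by rw [ha, hb])
        neg_mem' := fun ha => (D.act_neg hxz _).trans (by rw [ha]) }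
    have h9 : Nat.card F ≤ 9 := by
      refine (Nat.card_le_card_of_injective (fun v : F => (v : V) 0) fun v v' e => Subtype.ext ?_).trans
        (by rw [Nat.card_prod, Nat.card_zmod])
      have step : ∀ j, (v : V) j = (v' : V) j → (v : V) (D.per x j) = (v' : V) (D.per x j) := fun j hj => by
        conv_lhs => rw [← show D.act x (v : V) = v from v.2, D.act_apply hxz, hj, ← D.act_apply hxz,
          show D.act x (v' : V) = v' from v'.2]
      funext j
      obtain ⟨o, ho1, ho2, hall⟩ := fin3_other 0 (D.per x 0) (h 0).symm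
      have h2 : D.per x (D.per x 0) = o := by
        rcases hall (D.per x (D.per x 0)) with e' | e' | e'
        · exfalso
          rcases hall (D.per x o) with e2 | e2 | e2
          · exact ho2 (D.per_injective hxz (e2.trans e'.symm))
          · exact ho1 (D.per_injective hxz e2)
          · exact h o e2
        · exact absurd e' (h _)
        · exact e'
      rcases hall j with rfl | rfl | rfl
      exacts [e, step _ e, h2 ▸ step _ (step _ e)]
    have hle : (D.Q ⊓ centralizer ({x} : Set G) : Subgroup G) ≤ D.lift F := fun q hq => ⟨hq.1, hfix q hq⟩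
    have := Subgroup.card_le_of_le hle
    rw [D.card_lift] at this
    omega
  have hxM : x ∈ D.M g⁻¹ := D.mem_M.2 ⟨by rw [inv_inv, hxe]; simpa [mul_assoc] using hy2Q, hxz⟩
  obtain ⟨e, he⟩ := hp.symm.const_e hxM hxK
  rw [inv_inv] at he
  have he0 : e ≠ 0 := fun h0 => hxQ (D.mem_Q_iff.2 ⟨hxK, fun i => mv_ext fun w => by
    rw [he, h0, zero_mul, zero_smul, add_zero, mv_one]⟩)
  have hle : (D.Q ⊓ centralizer ({x} : Set G) : Subgroup G) ≤ D.lines (D.dir g) := fun q hq => ⟨hq.1, fun i => by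
    have h := congrFun (hfix q hq) i
    rw [D.act_fixed_per hxz hxK.2, he, add_eq_left, smul_eq_zero] at h
    exact ((mul_eq_zero.1 (h.resolve_right (hp.dir_ne i))).resolve_left he0)⟩
  have heq := eq_of_le_of_card_ge hle (by rw [D.card_lines hp.dir_ne]; exact h81)
  refine ⟨hxz, hxQ, hxK, hxd, fun q hq => ?_, e, he0, fun i w => he i w⟩
  constructor
  · intro h; rw [← heq]; exact mem_inf.2 ⟨hq, mem_centralizer_singleton_iff.2 h.symm.eq⟩
  · intro h
    rw [← heq] at h
    exact (show Commute q x from mem_centralizer_singleton_iff.1 h.2).symm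

/-- The direction is unchanged by moving the element by `Q`. -/
theorem dir_mul {g q : G} (hp : D.IsPt g) (hq : q ∈ D.Q) : D.dir (g * q⁻¹) = D.dir g := by
  rw [dir, dir, show (g * q⁻¹)⁻¹ * D.z * (g * q⁻¹) = q * (g⁻¹ * D.z * g) * q⁻¹ by group,
    D.vec_conj (D.comm_z q hq) (D.mem_symm hp.1 hp.2).1, D.act_Q hq]

theorem IsPt.mul_Q {g q : G} (hp : D.IsPt g) (hq : q ∈ D.Q) :
    D.IsPt (g * q⁻¹) ∧ ∀ k, D.twin (g * q⁻¹) k = q * D.twin g k * q⁻¹ := by
  have hc : q⁻¹ * D.z * q = D.z := by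
    rw [mul_assoc, ← (D.comm_z q hq).eq, inv_mul_cancel_left]
  refine ⟨?_, fun k => ?_⟩
  · have : g * q⁻¹ * D.z * (g * q⁻¹)⁻¹ = g * D.z * g⁻¹ := by
      rw [show g * q⁻¹ * D.z * (g * q⁻¹)⁻¹ = g * (q⁻¹ * D.z * q) * g⁻¹ by group, hc]
    unfold IsPt
    rwa [this]
  · rw [D.twin_eq, D.twin_eq,
      show g * q⁻¹ * D.z * (g * q⁻¹)⁻¹ = g * (q⁻¹ * D.z * q) * g⁻¹ by group, hc]
    group

/-- The point can be chosen so that the second conjugate commutes with the sign involutions. -/
theorem IsPt.exists_frame {g : G} (hp : D.IsPt g) (k : Fin 3) :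
    ∃ g', D.IsPt g' ∧ D.dir g' = D.dir g ∧ ∀ i, Commute (D.t i) (D.twin g' k) := by
  have S := hp.twinSpec k
  obtain ⟨e, he0, he⟩ := S.shape
  have h : D.Tr (D.twin g k) (D.dir g) fun _ => e := ⟨S.comm_z, S.mem_K, fun _ => he0, he⟩
  obtain ⟨q, hq, hfix⟩ := h.exists_fixed hp.dir_ne fun q hq => (S.comm_iff q hq.1).2 hq
  obtain ⟨hp', htw⟩ := hp.mul_Q hq
  exact ⟨g * q⁻¹, hp', dir_mul hp hq, fun i => by rw [htw]; exact hfix i⟩

end Data

end Cfsg.Lib.Fi22Three
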