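import Cfsg.Agent.Lib.Fi22Three.Exists
import Cfsg.Agent.Lib.Fi22Three.Twin

/-!
# A conjugate of `z` commuting with it inside the centraliser of a sign involution
-/

set_option autoImplicit false
set_option linter.unusedSectionVars false
set_option maxRecDepth 4000
set_option synthInstance.maxSize 2000

namespace Cfsg.Lib.Fi22Three

open Subgroup
open scoped commutatorElement
open Cfsg.Lib.U6Three (zp zp_zero zp_one zp_mem SL3)

namespace Data

variable {G : Type*} [Group G] [Finite G] (D : Data G)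

/-- An element of `Q` fixed by an involution modulo the centre is centralised by it. -/
theorem commute_of_fixed {τ q : G} (hτ : τ * τ = 1) (hz : Commute τ D.z) (hq : q ∈ D.Q)
    (h : D.act τ (D.vec q) = D.vec q) : Commute τ q := by
  have hm : ⁅τ, q⁆ ∈ D.Zc := by
    rw [D.mem_Zc_iff (D.vec_comm hz hq).1, (D.vec_comm hz hq).2, h, sub_self]
  refine commutatorElement_eq_one_iff_commute.1 (Cfsg.Lib.U6Three.eq_one_of_sq_cube ?_ (D.cube_Zc hm))
  have hi : τ⁻¹ = τ := inv_eq_of_mul_eq_one_right hτ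
  have e : τ * ⁅τ, q⁆ * τ⁻¹ = ⁅τ, q⁆⁻¹ := by
    rw [commutatorElement_def, hi]
    simp only [mul_inv_rev, inv_inv, hi, ← mul_assoc, hτ, one_mul]
  rw [D.conj_Zc hz hm] at e
  exact eq_inv_iff_mul_eq_one.1 e

/-- Some sign involution centralises an element moving `z` to a commuting conjugate outside the centre. -/
theorem exists_point_cent :
    ∃ i h, Commute (D.t i) h ∧ Commute (h * D.z * h⁻¹) D.z ∧ h * D.z * h⁻¹ ∉ D.Zc := by
  classical
  obtain ⟨g₀, hp₀⟩ := D.exists_pt
  obtain ⟨g, hp, -, hfix⟩ := hp₀.exists_frame 0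
  have S := hp.twinSpec 0
  obtain ⟨e, he0, he⟩ := S.shape
  set s := D.swap g 0
  set x := D.twin g 0
  have hs : s * s = 1 := D.swap_sq g 0
  have hsi : s⁻¹ = s := D.swap_inv g 0
  have hx : x = s * D.z * s⁻¹ := rfl
  have hTr : D.Tr x (D.dir g) fun _ => e := ⟨S.comm_z, S.mem_K, fun _ => he0, he⟩
  -- conjugates of the sign involutions by the exchanging involution
  have hτz : ∀ i, Commute (s * D.t i * s) D.z := fun i => by
    have h := (Commute.conj_iff s).2 (hfix i)
    rw [hx, show s * (s * D.z * s⁻¹) * s⁻¹ = s * s * D.z * (s * s)⁻¹ by group, hs, hsi] at h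
    simpa using h
  have hττ : ∀ i, s * D.t i * s * (s * D.t i * s) = 1 := fun i => by
    rw [show s * D.t i * s * (s * D.t i * s) = s * (D.t i * (s * s) * D.t i) * s by group, hs, mul_one, D.t_sq,
      mul_one, hs]
  obtain ⟨i, v₀, hv₀⟩ : ∃ i v, D.act (s * D.t i * s) v ≠ -v := by
    by_contra hcon; push Not at hcon
    have h01 : s * D.t 0 * s * (s * D.t 1 * s) ∈ D.Q :=
      D.mem_Q_of_act ((hτz 0).mul_left (hτz 1)) fun v => by
        rw [D.act_mul (hτz 0) (hτz 1), hcon, hcon, neg_neg]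
    have h1 : s * D.t 0 * s * (s * D.t 1 * s) = s * (D.t 0 * D.t 1) * s⁻¹ := by
      rw [show s * D.t 0 * s * (s * D.t 1 * s) = s * (D.t 0 * (s * s) * D.t 1) * s by group, hs, mul_one, hsi]
    have h2 : s * (D.t 0 * D.t 1) * s⁻¹ = 1 := by
      refine Cfsg.Lib.U6Three.eq_one_of_coprime (by decide : Nat.Coprime 2 2187) ?_ (D.pow_Q (h1 ▸ h01))
      rw [conj_pow, pow_two, show D.t 0 * D.t 1 * (D.t 0 * D.t 1) = 1 by
        rw [(D.t_comm 0 1).eq]; nth_rewrite 2 [← (D.t_comm 0 1).eq]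
        rw [show D.t 1 * D.t 0 * (D.t 0 * D.t 1) = D.t 1 * (D.t 0 * D.t 0) * D.t 1 by group, D.t_sq, mul_one, D.t_sq],
        mul_one, mul_inv_cancel]
    rw [conj_eq_one_iff, mul_eq_one_iff_eq_inv, D.t_inv] at h2
    have h3 := congrFun (D.act_t 0 (Pi.single 0 (1, 0))) 0
    rw [h2, D.act_t, flip_same, flip_of_ne (by decide), Pi.single_eq_same] at h3
    exact absurd (neg_eq_self h3.symm) (by decide)
  set τ := s * D.t i * s with hτ
  set A := D.act τ
  have hAA : ∀ v, A (A v) = v := fun v => by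
    show D.act τ (D.act τ v) = v
    rw [← D.act_mul (hτz i) (hτz i), hττ, D.act_one]
  set w := v₀ + A v₀
  have hw0 : w ≠ 0 := fun e' => hv₀ (eq_neg_of_add_eq_zero_right e')
  obtain ⟨u, hu⟩ : ∃ u, ω w u ≠ 0 := by
    by_contra hcon; push Not at hcon; exact hw0 (ω_eq_zero hcon)
  have hfw : ∀ v, A (v + A v) = v + A v := fun v => by
    show D.act τ _ = _
    rw [D.act_add (hτz i)]
    show A v + A (A v) = _
    rw [hAA, add_comm]
  obtain ⟨w', hw', hw'l⟩ : ∃ w', A w' = w' ∧ w' ∉ lineSet (D.dir g) := by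
    by_contra hcon; push Not at hcon
    have h1 := hcon w (hfw v₀)
    have h2 := hcon (u + A u) (hfw u)
    have e1 : ω w (A u) = ω w u := by
      conv_lhs => rw [show w = A w from (hfw v₀).symm]
      exact D.act_form (hτz i) _ _
    have e2 : ω w (u + A u) = 0 :=
      Finset.sum_eq_zero fun j _ => pl_line _ _ _ (hp.dir_ne j) (h1 j) (h2 j)
    rw [ω_add_right, e1] at e2
    exact hu ((show ∀ a : ZMod 3, a + a = 0 → a = 0 by decide) _ e2)
  set v' := D.el w'
  have hv'Q : v' ∈ D.Q := D.el_mem w'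
  have hτv : Commute τ v' := D.commute_of_fixed (hττ i) (hτz i) hv'Q (by rw [D.vec_el]; exact hw')
  have hxv : ¬ Commute x v' := fun hc => by
    have := ((S.comm_iff v' hv'Q).1 hc).2
    rw [D.vec_el] at this
    exact hw'l this
  have hvx : Commute (v' * x * v'⁻¹) x := by
    have hm := (D.vec_comm S.comm_z hv'Q).1
    have hl : ⁅x, v'⁆⁻¹ ∈ D.lines (D.dir g) := inv_mem ⟨hm, by
      rw [(D.vec_comm S.comm_z hv'Q).2]; exact rangeSet_le _ (hTr.comm_range _)⟩
    rw [show v' * x * v'⁻¹ = ⁅x, v'⁆⁻¹ * x by simp only [commutatorElement_def]; group]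
    exact (((S.comm_iff _ hl.1).2 hl).symm).mul_left (Commute.refl x)
  refine ⟨i, s * v' * s, ?_, ?_, fun hZ => hxv ?_⟩
  · have h := (Commute.conj_iff s).2 hτv
    rw [hτ, show s * (s * D.t i * s) * s⁻¹ = s * s * D.t i * (s * s⁻¹) by group, hs, one_mul, mul_inv_cancel,
      mul_one, hsi] at h
    exact h
  · have h := (Commute.conj_iff s).2 hvx
    rw [hx, show s * (s * D.z * s⁻¹) * s⁻¹ = s * s * D.z * (s * s)⁻¹ by group, hs, one_mul, inv_one, mul_one,
      show s * (v' * (s * D.z * s⁻¹) * v'⁻¹) * s⁻¹ = s * v' * s * D.z * (s * v' * s)⁻¹ by group] at h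
    exact h
  · obtain ⟨n, hn⟩ := D.exists_zp hZ
    have e1 : v' * x * v'⁻¹ = zp x n := by
      rw [hx, zp, conj_pow, ← Cfsg.Lib.U6Three.zp, ← hn,
        show v' * (s * D.z * s⁻¹) * v'⁻¹ = s * (s⁻¹ * v' * s * D.z * (s⁻¹ * v' * s)⁻¹) * s⁻¹ by group]
      simp only [hsi]
    have hm : v' * x * v'⁻¹ * x⁻¹ ∈ D.Q := by
      rw [show v' * x * v'⁻¹ * x⁻¹ = ⁅x, v'⁆⁻¹ by simp only [commutatorElement_def]; group]
      exact inv_mem (D.vec_comm S.comm_z hv'Q).1
    rw [e1] at hm
    rcases (show ∀ c : ZMod 3, c = 0 ∨ c = 1 ∨ c = 2 by decide) n with rfl | rfl | rfl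
    · rw [zp_zero, one_mul] at hm; exact absurd (by simpa using inv_mem hm) S.not_Q
    · rw [zp_one] at e1
      exact (mul_inv_eq_iff_eq_mul.1 e1).symm
    · rw [zp, show ((2 : ZMod 3)).val = 2 from rfl, pow_two, mul_inv_cancel_right] at hm
      exact absurd hm S.not_Q

end Data

end Cfsg.Lib.Fi22Three
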