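import Cfsg.Agent.Lib.Fi22Three.Plane
import Cfsg.Agent.Lib.Fi22Three.Top

/-!
# The centre of a Sylow subgroup for three in the centraliser of an involution in `C(z)`
-/

set_option autoImplicit false
set_option linter.unusedSectionVars false
set_option linter.style.haveILetI false
set_option maxRecDepth 4000
set_option synthInstance.maxSize 2000

namespace Cfsg.Lib.Fi22Three

open Subgroup
open scoped commutatorElement
open Cfsg.Lib.U6Three (SL3 zp zp_mem)

theorem mv_zero : ∀ m : SL3, mv m 0 = 0 := by decide +kernel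

theorem fin3_reach : ∀ f : Fin 3 → Fin 3, (∀ i, f (f (f i)) = i) → (∀ i, f i ≠ i) → ∀ l m,
    l = m ∨ l = f m ∨ l = f (f m) := by
  decide +kernel

theorem coset_conj {G : Type*} [Group G] {t q : G} {n : ℕ} (hn : Odd n) (hq : q ^ n = 1) (ht : t * t = 1)
    (htq : t * q * (t * q) = 1) : ∃ k : ℕ, (q ^ k)⁻¹ * t * q ^ k = t * q := by
  obtain ⟨m, rfl⟩ := hn
  refine ⟨m + 1, ?_⟩
  have hinv : t * q * t⁻¹ = q⁻¹ := by
    rw [inv_eq_of_mul_eq_one_right ht]
    refine (inv_eq_of_mul_eq_one_left ?_).symm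
    simpa only [mul_assoc] using htq
  have h1 : t * q ^ (m + 1) * t⁻¹ = (q ^ (m + 1))⁻¹ := by rw [← conj_pow, hinv, inv_pow]
  have h2 : q ^ (m + 1) * q ^ (m + 1) = q := by
    rw [← pow_add, show m + 1 + (m + 1) = 2 * m + 1 + 1 by ring, pow_succ, hq, one_mul]
  rw [← h1, show t * q ^ (m + 1) * t⁻¹ * t * q ^ (m + 1) = t * (q ^ (m + 1) * q ^ (m + 1)) by group, h2]

namespace Data

variable {G : Type*} [Group G] [Finite G] (D : Data G)

theorem commute_iff' {q r : G} (hq : q ∈ D.Q) (hr : r ∈ D.Q) : Commute q r ↔ ω (D.vec q) (D.vec r) = 0 :=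
  D.commute_iff hq hr

/-- The involution fixes, off one plane, every value on another. -/
def Wide (s : G) : Prop := ∃ l m, m ≠ l ∧ ∀ u, ∃ v, D.act s v = v ∧ v l = u ∧ v m = 0

/-- An element for three centralising the fixed points of such an involution lies in the centre. -/
theorem centre_Zc {s : G} (hs : s * s = 1) (hsz : Commute s D.z) (hw : D.Wide s) {y : G} (hyz : Commute y D.z)
    (hys : Commute y s) {k : ℕ} (hy3 : y ^ 3 ^ k ∈ D.Q) (hyQ : ∀ q ∈ D.Q, Commute s q → Commute y q) :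
    y ∈ D.Zc := by
  obtain ⟨l, m, hml, hw⟩ := hw
  have hfix : ∀ v, D.act s v = v → D.act y v = v := fun v hv => by
    have hc := hyQ _ (D.el_mem v) (D.commute_of_fixed hs hsz (D.el_mem v) (by rw [D.vec_el]; exact hv))
    rw [← D.vec_el v, ← D.vec_conj hyz (D.el_mem v), hc.eq, mul_inv_cancel_right]
  have hK : y ∈ D.K := by
    refine ⟨hyz, (fin3_cycle _ (D.per_cube hyz hy3)).resolve_right fun hmov => ?_⟩
    obtain ⟨v, hv, hvl, hvm⟩ := hw (1, 0)
    have step : ∀ a, v a = 0 → v (D.per y a) = 0 := fun a ha => by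
      rw [← hfix v hv, D.act_apply hyz, ha, mv_zero]
    rcases fin3_reach _ (D.per_cube hyz hy3) hmov l m with rfl | rfl | rfl
    · exact hml rfl
    · exact absurd ((step _ hvm).symm.trans hvl) (by decide)
    · exact absurd ((step _ (step _ hvm)).symm.trans hvl) (by decide)
  have hl : D.mat y l = 1 := mv_ext fun u => by
    obtain ⟨v, hv, hvl, -⟩ := hw u
    rw [← hvl, ← D.act_fixed_per hyz hK.2, hfix v hv, mv_one]
  obtain ⟨σ, hσ, hσp⟩ := D.exists_sigma
  have hQ : y ∈ D.Q := D.mem_Q_iff.2 ⟨hK, D.diag_one hσ hσp hK (D.mat_cube hK hy3) hl⟩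
  refine (D.mem_Zc_iff hQ).2 (ω_eq_zero fun w => ?_)
  have hss : D.act s (D.act s w) = w := by rw [← D.act_mul hsz hsz, hs, D.act_one]
  have hfw : D.act s (w + D.act s w) = w + D.act s w := by rw [D.act_add hsz, hss, add_comm]
  have h1 : ω (D.vec y) (w + D.act s w) = 0 := by
    have hc := hyQ _ (D.el_mem _) (D.commute_of_fixed hs hsz (D.el_mem (w + D.act s w)) (by rw [D.vec_el]; exact hfw))
    simpa [D.vec_el] using (D.commute_iff' hQ (D.el_mem _)).1 hc
  have hy : D.act s (D.vec y) = D.vec y := by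
    rw [← D.vec_conj hsz hQ, hys.symm.eq, mul_inv_cancel_right]
  have h2 : ω (D.vec y) (D.act s w) = ω (D.vec y) w := by
    conv_lhs => rw [← hy]
    exact D.act_form hsz _ _
  rw [ω_swap, ω_add_left, ω_swap (D.vec y) w, ω_swap (D.vec y) (D.act s w), h2] at h1
  exact (show ∀ x : ZMod 3, -(-x + -x) = 0 → x = 0 by decide) _ h1

/-- The top for three of the centraliser of such an involution. -/
theorem exists_top {s : G} (hs : s * s = 1) (hsz : Commute s D.z) (hw : D.Wide s) :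
    ∃ T, CentTop (centralizer ({s} : Set G)) D.z T := by
  haveI : Fact (Nat.Prime 3) := ⟨Nat.prime_three⟩
  set H := centralizer ({s} : Set G) ⊓ centralizer ({D.z} : Set G)
  set R := D.Q.subgroupOf H
  have hR : IsPGroup 3 R :=
    ((IsPGroup.of_card (p := 3) (n := 7) (G := D.Q) (by rw [D.card_Q]; norm_num)).comap_of_injective H.subtype
      H.subtype_injective)
  obtain ⟨P, hP⟩ := hR.exists_le_sylow
  have hQC : ∀ q ∈ D.Q, Commute s q → ∃ h : q ∈ H, (⟨q, h⟩ : H) ∈ (P : Subgroup H) := fun q hq hc =>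
    ⟨mem_inf.2 ⟨mem_centralizer_singleton_iff.2 hc.symm.eq, mem_centralizer_singleton_iff.2 (D.comm_z q hq)⟩,
      hP (mem_subgroupOf.2 hq)⟩
  refine ⟨(P : Subgroup H).map H.subtype, P.isPGroup'.map _, ?_, ?_, D.hz, ?_, ?_, fun T' hp hle hC hz => ?_⟩
  · rintro _ ⟨x, -, rfl⟩; exact x.2.1
  · rintro _ ⟨x, -, rfl⟩; exact x.2.2
  · obtain ⟨h, hm⟩ := hQC D.z D.z_mem hsz
    exact ⟨_, hm, rfl⟩
  · rintro _ ⟨y, hy, rfl⟩ hall
    obtain ⟨k, hk⟩ := P.isPGroup' ⟨y, hy⟩
    refine D.centre_Zc hs hsz hw (mem_centralizer_singleton_iff.1 y.2.2) (mem_centralizer_singleton_iff.1 y.2.1)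
      (k := k) ?_ fun q hq hc => ?_
    · have : (y : G) ^ 3 ^ k = 1 := congrArg (fun x : (P : Subgroup H) => ((x : H) : G)) hk
      show (y : G) ^ 3 ^ k ∈ D.Q
      rw [this]; exact one_mem _
    · obtain ⟨h, hm⟩ := hQC q hq hc
      exact hall q ⟨_, hm, rfl⟩
  · have hTH : T' ≤ H := le_inf hC hz
    have hsub : (P : Subgroup H) ≤ T'.subgroupOf H := fun x hx => mem_subgroupOf.2 (hle ⟨x, hx, rfl⟩)
    have e := P.3 (hp.of_equiv (subgroupOfEquivOfLe hTH).symm) hsub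
    rw [← e, map_subgroupOf_eq_of_le hTH]

theorem wide_t (i : Fin 3) : D.Wide (D.t i) :=
  ⟨i + 1, i, by revert i; decide, fun u => ⟨Pi.single (i + 1) u,
    by rw [D.act_t]; exact flip_eq_self.2 (Pi.single_eq_of_ne (by revert i; decide) _),
    Pi.single_eq_same _ _, Pi.single_eq_of_ne (by revert i; decide) _⟩⟩

/-- A conjugate of a sign involution in such a position is conjugate to it fixing `Zc`. -/
theorem conj_to_z {i : Fin 3} {s : G} (hd : IsConj (D.t i) s) (hsz : Commute s D.z) (hw : D.Wide s) :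
    ∃ h, (h * D.z * h⁻¹ = D.z ∨ h * D.z * h⁻¹ = D.z⁻¹) ∧ h * D.t i * h⁻¹ = s := by
  obtain ⟨g, rfl⟩ := isConj_iff.1 hd
  have hs : g * D.t i * g⁻¹ * (g * D.t i * g⁻¹) = 1 := by
    rw [show g * D.t i * g⁻¹ * (g * D.t i * g⁻¹) = g * (D.t i * D.t i) * g⁻¹ by group, D.t_sq, mul_one, mul_inv_cancel]
  obtain ⟨T, hT⟩ := D.exists_top hs hsz hw
  obtain ⟨T₀, hT₀⟩ := D.exists_top (D.t_sq i) (D.t_z i) (D.wide_t i)
  have hT' := hT.map g⁻¹
  have hC : (centralizer ({g * D.t i * g⁻¹} : Set G)).map (MulAut.conj g⁻¹).toMonoidHom =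
      centralizer ({D.t i} : Set G) := by
    ext x
    rw [mem_map_equiv, mem_centralizer_singleton_iff, mem_centralizer_singleton_iff]
    show Commute ((MulAut.conj g⁻¹).symm x) (g * D.t i * g⁻¹) ↔ Commute x (D.t i)
    rw [MulAut.conj_symm_apply, inv_inv]
    exact Commute.conj_iff g
  rw [hC, inv_inv] at hT'
  obtain ⟨c, hc, e⟩ := hT'.conj hT₀
  have hct : Commute c (D.t i) := mem_centralizer_singleton_iff.1 hc
  refine ⟨g * c⁻¹, ?_, ?_⟩
  · rcases e with e | e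
    · left; nth_rewrite 1 [← e]; group
    · right
      have e' : D.z = (c * (g⁻¹ * D.z * g) * c⁻¹)⁻¹ := by rw [e, inv_inv]
      nth_rewrite 1 [e']; group
  · rw [show g * c⁻¹ * D.t i * (g * c⁻¹)⁻¹ = g * (c⁻¹ * D.t i * c) * g⁻¹ by group,
      hct.inv_left.eq, inv_mul_cancel_right]

/-- The complement times `Q` is invariant under what normalises `Zc`. -/
theorem conj_N4 {h : G} (hh : h * D.z * h⁻¹ = D.z ∨ h * D.z * h⁻¹ = D.z⁻¹) {n : G} (hn : n ∈ D.N4) :
    ∃ p ∈ D.P2, p⁻¹ * (h * n * h⁻¹) ∈ D.Q := by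
  have hQ : ∀ q ∈ D.Q, h * q * h⁻¹ ∈ D.Q := by
    rcases hh with e | e
    · exact fun q hq => D.norm_Q h (mul_inv_eq_iff_eq_mul.1 e) q hq
    · exact D.inv_Q h e
  have hcomm : ∀ x, Commute x D.z → Commute (h * x * h⁻¹) D.z := fun x hx => by
    have h1 := (Commute.conj_iff h).2 hx
    rcases hh with e | e <;> rw [e] at h1
    · exact h1
    · exact inv_inv D.z ▸ h1.inv_right
  have hcomm' : ∀ x, Commute x D.z → Commute (h⁻¹ * x * h) D.z := fun x hx => by
    rcases hh with e | e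
    · refine (Commute.conj_iff h).1 ?_
      rw [e]; simpa [mul_assoc] using hx
    · refine (Commute.conj_iff h).1 ?_
      rw [e]; simpa [mul_assoc] using hx.inv_right
  refine D.two_core (D.N4.map (MulAut.conj h).toMonoidHom) ?_ ?_ ?_ _ ⟨n, hn, rfl⟩
  · rintro _ ⟨x, hx, rfl⟩; exact hcomm x hx.1.1
  · rintro g hg _ ⟨x, hx, rfl⟩
    refine ⟨h⁻¹ * g * h * x * (h⁻¹ * g * h)⁻¹, D.conj_mem_N4 (hcomm' g hg) hx, ?_⟩
    simp [mul_assoc]
  · rintro _ ⟨x, hx, rfl⟩
    refine ⟨2, ?_⟩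
    show (h * x * h⁻¹) ^ 2 ^ 2 ∈ D.Q
    rw [conj_pow]
    exact hQ _ (D.mem_Q_iff.2 ⟨pow_mem hx.1 _, fun i => by rw [D.mat_pow_K hx.1]; exact hx.2 i⟩)

/-- Two commuting noncentral vectors outside a plane pair: what a sign involution centralises. -/
def Roomy (s : G) : Prop :=
  ∃ a ∈ D.Q, ∃ b ∈ D.Q, ∃ c ∈ D.Q, Commute a s ∧ Commute b s ∧ Commute c s ∧
    ¬ Commute a b ∧ Commute c a ∧ Commute c b ∧ c ∉ D.Zc

theorem roomy_t (i : Fin 3) : D.Roomy (D.t i) := by
  obtain ⟨j, hj⟩ : ∃ j, j = i + 1 := ⟨_, rfl⟩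
  obtain ⟨k, hk⟩ : ∃ k, k = i + 2 := ⟨_, rfl⟩
  have hne : j ≠ i ∧ k ≠ i ∧ j ≠ k := by subst hj hk; revert i; decide
  have hm : ∀ {l} u, D.elp l u ∈ D.Q := fun {l} u => D.Qp_le _ (D.elp_mem l u)
  have hc : ∀ l, l ≠ i → ∀ u, Commute (D.elp l u) (D.t i) := fun l hl u =>
    ((D.commute_t_iff (hm u)).2 (by rw [D.vec_elp, Pi.single_eq_of_ne (Ne.symm hl)])).symm
  refine ⟨D.elp j (1, 0), hm _, D.elp j (0, 1), hm _, D.elp k (1, 0), hm _, hc j hne.1 _, hc j hne.1 _,
    hc k hne.2.1 _, fun h => ?_, ?_, ?_, fun h => ?_⟩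
  · have := (D.commute_iff' (hm _) (hm _)).1 h
    rw [D.vec_elp, D.vec_elp, ω_single_left, Pi.single_eq_same] at this
    simp [pl] at this
  · refine (D.commute_iff' (hm _) (hm _)).2 ?_
    rw [D.vec_elp, D.vec_elp, ω_single_left, Pi.single_eq_of_ne hne.2.2.symm]; simp [pl]
  · refine (D.commute_iff' (hm _) (hm _)).2 ?_
    rw [D.vec_elp, D.vec_elp, ω_single_left, Pi.single_eq_of_ne hne.2.2.symm]; simp [pl]
  · have := congrFun ((D.mem_Zc_iff (hm _)).1 h) k
    rw [D.vec_elp, Pi.single_eq_same] at this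
    simp at this

theorem Roomy.conj {h s : G} (hh : h * D.z * h⁻¹ = D.z ∨ h * D.z * h⁻¹ = D.z⁻¹) (hr : D.Roomy s) :
    D.Roomy (h * s * h⁻¹) := by
  obtain ⟨a, ha, b, hb, c, hc, has, hbs, hcs, hab, hca, hcb, hcZ⟩ := hr
  have hQ : ∀ q ∈ D.Q, h * q * h⁻¹ ∈ D.Q := by
    rcases hh with e | e
    · exact fun q hq => D.norm_Q h (mul_inv_eq_iff_eq_mul.1 e) q hq
    · exact D.inv_Q h e
  refine ⟨_, hQ a ha, _, hQ b hb, _, hQ c hc, (Commute.conj_iff h).2 has, (Commute.conj_iff h).2 hbs,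
    (Commute.conj_iff h).2 hcs, fun e => hab ((Commute.conj_iff h).1 e), (Commute.conj_iff h).2 hca,
    (Commute.conj_iff h).2 hcb, fun e => hcZ ?_⟩
  obtain ⟨n, hn⟩ := mem_zpowers_iff.1 e
  rcases hh with e' | e'
  · refine mem_zpowers_iff.2 ⟨n, ?_⟩
    rw [← e', conj_zpow] at hn
    exact mul_left_cancel (mul_right_cancel hn)
  · refine mem_zpowers_iff.2 ⟨-n, ?_⟩
    rw [show D.z ^ n = (D.z⁻¹) ^ (-n) by rw [inv_zpow', neg_neg], ← e', conj_zpow] at hn
    exact mul_left_cancel (mul_right_cancel hn)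

/-- An involution of the centraliser with fixed space one plane is no conjugate of a sign involution. -/
theorem not_conj_pair {i j k : Fin 3} (hij : i ≠ j) : ¬ IsConj (D.t k) (D.t i * D.t j) := by
  intro hd
  obtain ⟨l, hli, hlj, hall⟩ := fin3_other i j hij
  have hz : Commute (D.t i * D.t j) D.z := (D.t_z i).mul_left (D.t_z j)
  have hact : ∀ v, D.act (D.t i * D.t j) v = flip i (flip j v) := fun v => by
    rw [D.act_mul (D.t_z i) (D.t_z j), D.act_t, D.act_t]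
  have hw : D.Wide (D.t i * D.t j) := ⟨l, i, hli.symm, fun u => ⟨Pi.single l u, by
    rw [hact, flip_eq_self.2 (Pi.single_eq_of_ne hlj.symm _), flip_eq_self.2 (Pi.single_eq_of_ne hli.symm _)],
    Pi.single_eq_same _ _, Pi.single_eq_of_ne hli.symm _⟩⟩
  obtain ⟨h, hh, he⟩ := D.conj_to_z hd hz hw
  obtain ⟨a, ha, b, hb, c, hc, has, hbs, hcs, hab, hca, hcb, hcZ⟩ := he ▸ (D.roomy_t k).conj D hh
  have hsupp : ∀ q ∈ D.Q, Commute q (D.t i * D.t j) → D.vec q i = 0 ∧ D.vec q j = 0 := fun q hq hqs => by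
    have h1 : flip i (flip j (D.vec q)) = D.vec q := by
      rw [← hact, ← D.vec_conj hz hq, hqs.symm.eq, mul_inv_cancel_right]
    have hi := congrFun h1 i
    have hj := congrFun h1 j
    rw [flip_same, flip_of_ne hij] at hi
    rw [flip_of_ne hij.symm, flip_same] at hj
    exact ⟨neg_eq_self hi, neg_eq_self hj⟩
  have hone : ∀ q ∈ D.Q, Commute q (D.t i * D.t j) → D.vec q = Pi.single l (D.vec q l) := fun q hq hqs => by
    funext m
    rcases hall m with rfl | rfl | rfl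
    · rw [Pi.single_eq_of_ne hli.symm]; exact (hsupp q hq hqs).1
    · rw [Pi.single_eq_of_ne hlj.symm]; exact (hsupp q hq hqs).2
    · rw [Pi.single_eq_same]
  have hpl : ∀ x ∈ D.Q, ∀ y ∈ D.Q, Commute x (D.t i * D.t j) →
      (Commute x y ↔ pl (D.vec x l) (D.vec y l) = 0) := fun x hx y hy hxs => by
    rw [D.commute_iff' hx hy, hone x hx hxs, ω_single_left, Pi.single_eq_same]
  have h1 := (not_congr (hpl a ha b hb has)).1 hab
  have h2 := (hpl c hc a ha hcs).1 hca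
  have h3 := (hpl c hc b hb hcs).1 hcb
  refine hcZ ((D.mem_Zc_iff hc).2 ?_)
  rw [hone c hc hcs, (show ∀ a b c : ZMod 3 × ZMod 3, pl a b ≠ 0 → pl c a = 0 → pl c b = 0 → c = 0 by decide +kernel)
    _ _ _ h1 h2 h3, Pi.single_zero]

/-- An element exchanging two planes is no conjugate of a sign involution. -/
theorem not_conj_swap {i : Fin 3} {s : G} (hsz : Commute s D.z) (hs : s * s = 1) {j k m : Fin 3} (hjk : j ≠ k)
    (hmj : m ≠ j) (hmk : m ≠ k) (hj : D.per s j = k) : ¬ IsConj (D.t i) s := by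
  intro hd
  have hk : D.per s k = j := by rw [← hj, ← D.per_mul hsz hsz, hs, D.per_one]
  have hw : D.Wide s := ⟨j, m, hmj, fun u => ⟨Pi.single j u + D.act s (Pi.single j u), by
    rw [D.act_add hsz, ← D.act_mul hsz hsz, hs, D.act_one, add_comm], by
    rw [Pi.add_apply, Pi.single_eq_same, D.act_single hsz, hj, Pi.single_eq_of_ne hjk, add_zero], by
    rw [Pi.add_apply, Pi.single_eq_of_ne hmj, D.act_single hsz, hj, Pi.single_eq_of_ne hmk, add_zero]⟩⟩
  obtain ⟨h, hh, rfl⟩ := D.conj_to_z hd hsz hw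
  obtain ⟨p, hp, hq⟩ := D.conj_N4 hh (D.P2_le_N4 (D.t_mem i))
  have hK : h * D.t i * h⁻¹ ∈ D.K := by
    have := mul_mem (D.P2_le_K hp) (D.Q_le_K hq)
    rwa [mul_inv_cancel_left] at this
  exact hjk ((hK.2 j).symm.trans hj)

end Data

end Cfsg.Lib.Fi22Three
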