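import Cfsg.Agent.Lib.Fi22Three.Quot

/-!
# The quotient of the centraliser of a sign involution has generalised Fitting subgroup `U₆(2)`
-/

set_option autoImplicit false
set_option linter.unusedSectionVars false
set_option maxRecDepth 4000
set_option synthInstance.maxSize 4000
set_option linter.style.haveILetI false

namespace Cfsg.Lib.Fi22Three

open Subgroup
open scoped commutatorElement
open Cfsg.Lib.U6Three (zp zp_zero zp_one zp_mem SL3 sl_quat sl_card Quat2)

namespace Data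

variable {G : Type*} [Group G] [Finite G] (D : Data G) (i : Fin 3)

/-- An element fixing one plane and a vector of the other fixes both. -/
theorem flat {g p qa qb qc : G} (hg : Commute g D.z) (hgt : Commute g (D.t i)) (hp : p ∈ D.P2)
    (hp1 : p ≠ 1) (hpt : p ≠ D.t i) (ha : qa ∈ D.Q) (hb : qb ∈ D.Q) (hc : qc ∈ D.Q)
    (ha0 : D.vec qa i = 0) (hb0 : D.vec qb i = 0) (hc0 : D.vec qc i = 0)
    (hpa : Commute p qa) (hpb : Commute p qb) (hab : ¬ Commute qa qb) (hca : Commute qc qa) (hcb : Commute qc qb)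
    (hcZ : qc ∉ D.Zc) (fa : D.act g (D.vec qa) = D.vec qa) (fb : D.act g (D.vec qb) = D.vec qb)
    (fc : D.act g (D.vec qc) = D.vec qc) : ∀ v : V, v i = 0 → D.act g v = v := by
  classical
  have hpK := D.P2_le_K hp
  set va := D.vec qa
  set vb := D.vec qb
  set vc := D.vec qc
  -- the plane of the pair
  have hmv : ∀ q ∈ D.Q, Commute p q → ∀ l, mv (D.mat p l) (D.vec q l) = D.vec q l := fun q hq hpq l => by
    rw [← D.act_fixed_per hpK.1 hpK.2, ← D.vec_conj hpK.1 hq, hpq.eq, mul_inv_cancel_right]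
  obtain ⟨l, hl⟩ : ∃ l, pl (va l) (vb l) ≠ 0 := by
    by_contra hcon; push Not at hcon
    exact hab ((D.commute_iff ha hb).2 (Finset.sum_eq_zero fun l _ => hcon l))
  have hli : l ≠ i := fun e => by subst e; rw [ha0] at hl; simp [pl] at hl
  have hmat1 : D.mat p l = 1 := sl_fix_pair _ _ _ hl (hmv _ ha hpa l) (hmv _ hb hpb l)
  obtain ⟨o, hoi, hol, hall⟩ := fin3_other i l hli.symm
  have hpo : D.mat p o ≠ 1 := fun e => by
    rcases D.P2_kernel i hp fun m hm => by
        rcases hall m with rfl | rfl | rfl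
        exacts [absurd rfl hm, hmat1, e] with h | h
    exacts [hp1 h, hpt h]
  have hao : ∀ q ∈ D.Q, Commute p q → D.vec q o = 0 := fun q hq hpq => by
    by_contra hne
    have hfix := hmv q hq hpq o
    have h4 := D.mat_P2_four hp o
    exact hpo ((show ∀ (m : SL3) (u : ZMod 3 × ZMod 3), m ^ 4 = 1 → u ≠ 0 → mv m u = u → m = 1 by
      decide +kernel) _ _ h4 hne hfix)
  have ha1 : va = Pi.single l (va l) := funext fun m => by
    rcases hall m with rfl | rfl | rfl
    · rw [Pi.single_eq_of_ne hli.symm]; exact ha0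
    · rw [Pi.single_eq_same]
    · rw [Pi.single_eq_of_ne hol]; exact hao _ ha hpa
  have hb1 : vb = Pi.single l (vb l) := funext fun m => by
    rcases hall m with rfl | rfl | rfl
    · rw [Pi.single_eq_of_ne hli.symm]; exact hb0
    · rw [Pi.single_eq_same]
    · rw [Pi.single_eq_of_ne hol]; exact hao _ hb hpb
  have hperi : D.per g i = i := D.per_eq hg fun v => by
    rw [← D.act_t i, ← D.act_mul hg (D.t_z i), hgt.eq, D.act_mul (D.t_z i) hg, D.act_t]
  have hperl : D.per g l = l := by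
    by_contra hne
    have h1 := fa
    rw [ha1, D.act_single hg] at h1
    have h2 := congrFun h1 l
    rw [Pi.single_eq_of_ne (Ne.symm hne), Pi.single_eq_same] at h2
    rw [← h2] at hl; simp [pl] at hl
  have hpero : D.per g o = o := by
    have hinj := D.per_injective hg
    rcases hall (D.per g o) with e | e | e
    · exact absurd (hinj (e.trans hperi.symm)) hoi
    · exact absurd (hinj (e.trans hperl.symm)) hol
    · exact e
  have hK : g ∈ D.K := ⟨hg, fun m => by rcases hall m with rfl | rfl | rfl <;> assumption⟩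
  have hgv : ∀ v : V, D.act g v = v → ∀ m, mv (D.mat g m) (v m) = v m := fun v hv m => by
    rw [← D.act_fixed_per hg hK.2, hv]
  have hgl : D.mat g l = 1 := sl_fix_pair _ _ _ hl (hgv _ fa l) (hgv _ fb l)
  have hcl : vc l = 0 := by
    have e1 := (D.commute_iff hc ha).1 hca
    have e2 := (D.commute_iff hc hb).1 hcb
    change ω vc va = 0 at e1
    change ω vc vb = 0 at e2
    rw [ha1, ω_single_right] at e1
    rw [hb1, ω_single_right] at e2
    exact (show ∀ a b c : ZMod 3 × ZMod 3, pl a b ≠ 0 → pl c a = 0 → pl c b = 0 → c = 0 by decide +kernel) _ _ _ hl e1 e2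
  have hco : vc o ≠ 0 := fun e => hcZ ((D.mem_Zc_iff hc).2 (funext fun m => by
    rcases hall m with rfl | rfl | rfl
    exacts [hc0, hcl, e]))
  have ho3 : D.mat g o ^ 3 = 1 :=
    (show ∀ (m : SL3) (u : ZMod 3 × ZMod 3), u ≠ 0 → mv m u = u → m ^ 3 = 1 by decide +kernel) _ _ hco (hgv _ fc o)
  obtain ⟨σ, hσ, hσp⟩ := D.exists_sigma
  have h4 := D.diag_one hσ hσp (pow_mem hK 4) (fun m => by rw [D.mat_pow_K hK]; exact sl_fourth _) (l := l)
    (by rw [D.mat_pow_K hK, hgl, one_pow]) o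
  rw [D.mat_pow_K hK, pow_succ, ho3, one_mul] at h4
  intro v hv
  funext m
  rw [D.act_fixed_per hg hK.2]
  rcases hall m with rfl | rfl | rfl
  · rw [hv]; simp [mv]
  · rw [hgl, mv_one]
  · rw [h4, mv_one]

variable {i}

/-- In the quotient a Sylow subgroup for three is as small as possible. -/
theorem quot_isThree {h : G} (ht : Commute (D.t i) h) (hc : Commute (h * D.z * h⁻¹) D.z)
    (hn : h * D.z * h⁻¹ ∉ D.Zc) (T : Cfsg.Lib.U6Three.Setting (D.qdata ht hc hn)) : T.IsThree := by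
  intro g hg
  obtain ⟨gz, g1, g2⟩ := T.B.mem_Stab.1 g.2
  have g1b : ⁅(g : D.XQ i), T.B.b1⁆ ∈ (D.qdata ht hc hn).Zc := by
    have e := T.B.k1_spec g
    rwa [hg, zp_zero, inv_one, mul_one] at e
  obtain ⟨u, hu⟩ := QuotientGroup.mk'_surjective (D.Tz i) (g : D.XQ i)
  obtain ⟨a, haq, hae⟩ := T.B.ha1.1
  obtain ⟨b, hbq, hbe⟩ := T.B.hb1.1
  obtain ⟨c, hcq, hce⟩ := T.B.ha2.1
  obtain ⟨x, hx⟩ := T.S.s_mem
  set p := D.lift2 i x
  have hs : D.π i (D.inC i p) = T.S.s := hx
  have huz : Commute (u : G) D.z := (D.π_commute_z i (zC := D.zC i) rfl).1 (by rw [← hu] at gz; exact gz)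
  have liftZ : ∀ (q : D.Ct i), (q : G) ∈ D.Q → D.π i q ∈ (D.qdata ht hc hn).Zc → (q : G) ∈ D.Zc := fun q hq hqz => by
    obtain ⟨n, hn'⟩ := mem_zpowers_iff.1 hqz
    change (D.π i (D.zC i)) ^ n = D.π i q at hn'
    rw [← map_zpow] at hn'
    have e := D.π_eq_Q i (u := D.zC i ^ n) (v := q) (by
      rw [SubgroupClass.coe_zpow]; exact D.Q.zpow_mem D.z_mem n) hq hn'
    exact mem_zpowers_iff.2 ⟨n, congrArg Subtype.val e⟩
  have liftC : ∀ (w : D.Ct i), Commute (w : G) D.z → ∀ (q : D.Ct i), q ∈ D.QC i →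
      Commute (D.π i w) (D.π i q) → Commute (w : G) (q : G) := fun w hw q hq hcm => by
    have hm : w * q * w⁻¹ ∈ D.QC i := mem_subgroupOf.2 (D.norm_Q _ hw _ (mem_subgroupOf.1 hq))
    have e : D.π i (w * q * w⁻¹) = D.π i q := by
      rw [map_mul, map_mul, map_inv, hcm.eq, mul_inv_cancel_right]
    exact mul_inv_eq_iff_eq_mul.1 (congrArg Subtype.val (D.π_eq_Q i (mem_subgroupOf.1 hm) (mem_subgroupOf.1 hq) e))
  have fixv : ∀ q : D.Ct i, q ∈ D.QC i → ⁅(g : D.XQ i), D.π i q⁆ ∈ (D.qdata ht hc hn).Zc →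
      D.act u (D.vec q) = D.vec q := fun q hq hm => by
    rw [← hu, ← map_commutatorElement] at hm
    have hcomm := D.vec_comm huz (mem_subgroupOf.1 hq)
    have hZ := liftZ ⁅u, q⁆ hcomm.1 hm
    have h0 : D.vec ⁅(u : G), (q : G)⁆ = 0 := D.vec_Zc hZ
    rwa [hcomm.2, sub_eq_zero] at h0
  have hsne : T.S.s ≠ 1 := fun e => by
    have h27 := T.S.card₁
    have hle : (D.qdata ht hc hn).Q ≤ (D.qdata ht hc hn).fixC T.S.s := fun q hq => (D.qdata ht hc hn).mem_fixC.2 ⟨hq, by rw [e]; exact Commute.one_right q⟩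
    have := Subgroup.card_le_of_le hle
    rw [h27, (D.qdata ht hc hn).card_Q] at this
    omega
  have hp1 : (p : G) ≠ 1 := fun e => hsne (by
    rw [← hs, show D.inC i p = 1 from Subtype.ext e, map_one])
  have hpt : (p : G) ≠ D.t i := fun e => hsne (by
    rw [← hs, ← map_one (D.π i), eq_comm]
    exact (D.π_eq i).2 (Or.inr (by rw [Subgroup.coe_one, one_mul]; exact e)))
  have hpc : ∀ q : D.Ct i, q ∈ D.QC i → Commute (D.π i q) T.S.s → Commute (p : G) (q : G) := fun q hq hqs =>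
    liftC (D.inC i p) (D.P2_z _ p.2) q hq (by rw [hs]; exact hqs.symm)
  have haQ := mem_subgroupOf.1 haq
  have hbQ := mem_subgroupOf.1 hbq
  have hcQ := mem_subgroupOf.1 hcq
  have hab : ¬ Commute (a : G) (b : G) := fun hcm => T.B.notComm (by
    rw [← hae, ← hbe]
    exact (show Commute (D.π i b) (D.π i a) from (show Commute b a from Subtype.ext hcm.symm.eq).map _))
  have hcZ : (c : G) ∉ D.Zc := fun hZ => T.B.swap.a1_not_Zc (by
    show T.B.a2 ∈ (D.qdata ht hc hn).Zc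
    rw [← hce]
    obtain ⟨n, hn'⟩ := mem_zpowers_iff.1 hZ
    exact mem_zpowers_iff.2 ⟨n, by
      show (D.π i (D.zC i)) ^ n = _
      rw [← map_zpow]; congr 1; exact Subtype.ext (by rw [SubgroupClass.coe_zpow]; exact hn')⟩)
  have hca : Commute (c : G) (a : G) := liftC c (D.comm_z _ hcQ) a haq (by
    rw [hce, hae]; exact (T.S.comm12 T.B.ha1 T.B.ha2).symm)
  have hcb : Commute (c : G) (b : G) := liftC c (D.comm_z _ hcQ) b hbq (by
    rw [hce, hbe]; exact (T.S.comm12 T.B.hb1 T.B.ha2).symm)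
  have hflat := D.flat i huz (show Commute (u : G) (D.t i) from mem_centralizer_singleton_iff.1 u.2) p.2 hp1 hpt
    haQ hbQ hcQ (D.vec_QC i haq) (D.vec_QC i hbq) (D.vec_QC i hcq)
    (hpc a haq (by rw [hae]; exact ((D.qdata ht hc hn).mem_fixC.1 T.B.ha1).2))
    (hpc b hbq (by rw [hbe]; exact ((D.qdata ht hc hn).mem_fixC.1 T.B.hb1).2)) hab hca hcb hcZ
    (fixv a haq (hae ▸ g1)) (fixv b hbq (hbe ▸ g1b)) (fixv c hcq (hce ▸ g2))
  obtain ⟨d, hdq, hde⟩ := T.B.hb2.1
  have hdQ := mem_subgroupOf.1 hdq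
  refine T.B.swap.k1_eq _ ?_
  show ⁅(g : D.XQ i), T.B.b2⁆ * (zp T.B.a2 0)⁻¹ ∈ (D.qdata ht hc hn).Zc
  rw [zp_zero, inv_one, mul_one, ← hde, ← hu, ← map_commutatorElement]
  have hcomm := D.vec_comm huz hdQ
  have hZ : ⁅(u : G), (d : G)⁆ ∈ D.Zc := by
    rw [D.mem_Zc_iff hcomm.1, hcomm.2, hflat _ (D.vec_QC i hdq), sub_self]
  obtain ⟨n, hn'⟩ := mem_zpowers_iff.1 hZ
  exact mem_zpowers_iff.2 ⟨n, by
    show (D.π i (D.zC i)) ^ n = _
    rw [← map_zpow]; congr 1; exact Subtype.ext (by rw [SubgroupClass.coe_zpow]; exact hn')⟩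

/-- Some sign involution has quotient centraliser of type `U₆(2)`. -/
theorem exists_quot_concl : ∃ i, Cfsg.Lib.U6ThreeEnd.Concl (D.XQ i) := by
  obtain ⟨i, h, ht, hc, hn⟩ := D.exists_point_cent
  obtain ⟨T⟩ := (D.qdata ht hc hn).exists_setting
  exact ⟨i, Cfsg.Lib.U6Three.Setting.concl (D.quot_isThree ht hc hn T)⟩

end Data

end Cfsg.Lib.Fi22Three
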