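import Cfsg.Agent.Lib.Fi22Three.Shape

/-!
# Elementary abelian subgroups of order eight in the centraliser
-/

set_option autoImplicit false
set_option linter.unusedSectionVars false
set_option maxRecDepth 4000
set_option synthInstance.maxSize 2000

namespace Cfsg.Lib.Fi22Three

open Subgroup
open scoped commutatorElement
open Cfsg.Lib.U6Three (zp zp_zero zp_one zp_mem SL3 sl_quat)

/-- Sign changes on a set of planes. -/
def flips (ε : Fin 3 → Bool) (v : V) : V := fun j => if ε j then -v j else v j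

/-- The sum of two sets of planes. -/
def bx (ε ε' : Fin 3 → Bool) : Fin 3 → Bool := fun j => xor (ε j) (ε' j)

theorem flips_flips (ε ε' : Fin 3 → Bool) (v : V) : flips ε (flips ε' v) = flips (bx ε ε') v := by
  funext j; simp only [flips, bx]; by_cases h : ε j = true <;> by_cases h' : ε' j = true <;> simp [h, h']

theorem flips_zero (v : V) : flips (fun _ => false) v = v := by funext j; simp [flips]

theorem flips_one (v : V) : flips (fun _ => true) v = -v := by funext j; simp [flips]

theorem bx_self (ε : Fin 3 → Bool) : bx ε ε = fun _ => false := by funext j; simp [bx]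

theorem flip_eq_flips (i : Fin 3) (v : V) : flip i v = flips (fun j => decide (j = i)) v := by
  funext j; simp [flip, flips]

theorem fin3_inv_cycle : ∀ f h : Fin 3 → Fin 3, (∀ i, f (f (f i)) = i) → (∀ i, f i ≠ i) → (∀ i, h (h i) = i) →
    (∀ i, f (h i) = h (f i)) → ∀ i, h i = i := by
  decide +kernel

theorem fin3_inv_pair : ∀ f h : Fin 3 → Fin 3, (∀ i, f (f i) = i) → (∃ i, f i ≠ i) → (∀ i, h (h i) = i) →
    (∀ i, f (h i) = h (f i)) → (∀ i, h i = i) ∨ ∀ i, f (h i) = i := by
  decide +kernel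

theorem fin3_fixed_patterns : ∀ f : Fin 3 → Fin 3, (∀ i, f (f i) = i) → (∃ i, f i ≠ i) →
    (Finset.univ.filter fun p : Fin 3 → Bool => ∀ i, p (f i) = p i).card = 4 := by
  decide +kernel

namespace Data

variable {G : Type*} [Group G] [Finite G] (D : Data G)

/-- The product of the sign involutions of a set of planes. -/
noncomputable def tv (ε : Fin 3 → Bool) : G :=
  (if ε 0 then D.t 0 else 1) * (if ε 1 then D.t 1 else 1) * (if ε 2 then D.t 2 else 1)

theorem tv_mem (ε : Fin 3 → Bool) : D.tv ε ∈ D.P2 := by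
  refine mul_mem (mul_mem ?_ ?_) ?_ <;> split_ifs <;> first | exact D.t_mem _ | exact one_mem _

theorem tv_z (ε : Fin 3 → Bool) : Commute (D.tv ε) D.z := D.P2_z _ (D.tv_mem ε)

theorem act_tv (ε : Fin 3 → Bool) (v : V) : D.act (D.tv ε) v = flips ε v := by
  have h : ∀ i, Commute (if ε i then D.t i else 1) D.z ∧
      ∀ w, D.act (if ε i then D.t i else 1) w = flips (fun j => decide (j = i) && ε i) w := fun i => by
    cases hi : ε i with
    | false =>
      refine ⟨Commute.one_left _, fun w => ?_⟩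
      simp [D.act_one, flips_zero]
    | true =>
      refine ⟨D.t_z i, fun w => ?_⟩
      simp [D.act_t, flip_eq_flips]
  rw [tv, D.act_mul ((h 0).1.mul_left (h 1).1) (h 2).1, D.act_mul (h 0).1 (h 1).1, (h 0).2, (h 1).2, (h 2).2,
    flips_flips, flips_flips]
  congr 1
  funext j
  fin_cases j <;> simp [bx]

theorem tv_mul (ε ε' : Fin 3 → Bool) : D.tv ε * D.tv ε' = D.tv (bx ε ε') :=
  D.P2_ext (mul_mem (D.tv_mem ε) (D.tv_mem ε')) (D.tv_mem _) fun v => by
    rw [D.act_mul (D.tv_z ε) (D.tv_z ε'), D.act_tv, D.act_tv, D.act_tv, flips_flips]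

theorem tv_zero : D.tv (fun _ => false) = 1 := by simp [tv]

theorem tv_eq_one {ε : Fin 3 → Bool} (h : D.tv ε = 1) : ε = fun _ => false := by
  funext j
  have h2 := congrFun (D.act_tv ε (Pi.single j (1, 0))) j
  rw [h, D.act_one, Pi.single_eq_same] at h2
  cases hj : ε j with
  | false => rfl
  | true =>
    simp only [flips, hj, if_true, Pi.single_eq_same] at h2
    exact absurd (neg_eq_self h2.symm) (by decide)

/-- Conjugation moves the sign changes with the planes. -/
theorem act_flips {g : G} (hg : Commute g D.z) (ε : Fin 3 → Bool) (v : V) :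
    D.act g (flips ε v) = flips (fun j => ε (D.per g⁻¹ j)) (D.act g v) := by
  funext j
  obtain ⟨i, rfl⟩ := D.per_surjective hg j
  rw [D.act_apply hg]
  simp only [flips, D.per_inv_cancel hg]
  cases ε i <;> simp [D.act_apply hg, mv_neg]

/-- A conjugated copy of the group of sign involutions inside `C(z)`. -/
structure Eight (τ : (Fin 3 → Bool) → G) : Prop where
  comm_z : ∀ ε, Commute (τ ε) D.z
  mul : ∀ ε ε', τ ε * τ ε' = τ (bx ε ε')
  eq_one : ∀ ε, τ ε = 1 → ε = fun _ => false

theorem eight_conj {g : G} (hg : ∀ i, Commute (D.t i) (g * D.z * g⁻¹)) :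
    D.Eight fun ε => g⁻¹ * D.tv ε * g := by
  refine ⟨fun ε => ?_, fun ε ε' => by rw [← D.tv_mul]; group, fun ε h => D.tv_eq_one ?_⟩
  · have hc : Commute (D.tv ε) (g * D.z * g⁻¹) := by
      refine ((?_ : Commute _ _).mul_left ?_).mul_left ?_ <;> split_ifs <;>
        first | exact hg _ | exact Commute.one_left _
    have := (Commute.conj_iff g⁻¹).2 hc
    simpa [mul_assoc] using this
  · have := congrArg (fun u => g * u * g⁻¹) h
    simpa [mul_assoc] using this

variable {D}

theorem Eight.zero {τ : (Fin 3 → Bool) → G} (h : D.Eight τ) : τ (fun _ => false) = 1 := by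
  have := h.mul (fun _ => false) (fun _ => false)
  rw [bx_self] at this
  exact mul_eq_left.1 this

theorem Eight.sq {τ : (Fin 3 → Bool) → G} (h : D.Eight τ) (ε : Fin 3 → Bool) : τ ε * τ ε = 1 := by
  rw [h.mul, bx_self, h.zero]

theorem Eight.comm {τ : (Fin 3 → Bool) → G} (h : D.Eight τ) (ε ε' : Fin 3 → Bool) : Commute (τ ε) (τ ε') := by
  show _ = _
  rw [h.mul, h.mul]; congr 1; funext j; simp [bx, Bool.xor_comm]

theorem Eight.not_Q {τ : (Fin 3 → Bool) → G} (h : D.Eight τ) {ε : Fin 3 → Bool} (hQ : τ ε ∈ D.Q) : τ ε = 1 :=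
  Cfsg.Lib.U6Three.eq_one_of_coprime (by decide : Nat.Coprime 2 2187) (by rw [pow_two, h.sq]) (D.pow_Q hQ)

theorem Eight.per_sq {τ : (Fin 3 → Bool) → G} (h : D.Eight τ) (ε : Fin 3 → Bool) (i : Fin 3) :
    D.per (τ ε) (D.per (τ ε) i) = i := by
  rw [← D.per_mul (h.comm_z ε) (h.comm_z ε), h.sq, D.per_one]

theorem Eight.mat_sign {τ : (Fin 3 → Bool) → G} (h : D.Eight τ) {ε : Fin 3 → Bool} (hK : τ ε ∈ D.K) (i : Fin 3) :
    D.mat (τ ε) i = 1 ∨ D.mat (τ ε) i = -1 :=
  sl_quat.1 _ (by rw [pow_two, ← D.mat_mul_K hK hK, h.sq, D.mat_one])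

/-- The sign pattern determines the element. -/
theorem Eight.pattern_inj {τ : (Fin 3 → Bool) → G} (h : D.Eight τ) {ε ε' : Fin 3 → Bool} (hK : τ ε ∈ D.K)
    (hK' : τ ε' ∈ D.K) (he : ∀ i, decide (D.mat (τ ε) i = -1) = decide (D.mat (τ ε') i = -1)) : ε = ε' := by
  have hm : ∀ i, D.mat (τ ε) i = D.mat (τ ε') i := fun i => by
    have := he i
    rcases h.mat_sign hK i with a | a <;> rcases h.mat_sign hK' i with b | b <;> rw [a, b] at this ⊢
    all_goals exact absurd this (by decide +kernel)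
  have h1 : τ (bx ε ε') ∈ D.Q := D.mem_Q_iff.2 ⟨h.mul ε ε' ▸ mul_mem hK hK', fun i => by
    rw [← h.mul, D.mat_mul_K hK hK', hm]
    rcases h.mat_sign hK' i with b | b <;> simp [b]⟩
  have h2 := h.eq_one _ (h.not_Q h1)
  funext j
  have := congrFun h2 j
  simpa [bx] using this

/-- No permutation of order three of the planes centralises such a subgroup. -/
theorem Eight.no_cycle {τ : (Fin 3 → Bool) → G} (h : D.Eight τ) {y : G} (hy : Commute y D.z)
    (hc : ∀ ε, Commute y (τ ε)) {k : ℕ} (hk : y ^ 3 ^ k ∈ D.Q) : y ∈ D.K := by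
  refine ⟨hy, (fin3_cycle _ (D.per_cube hy hk)).resolve_right fun hcyc => ?_⟩
  have hK : ∀ ε, τ ε ∈ D.K := fun ε => ⟨h.comm_z ε, fin3_inv_cycle _ _ (D.per_cube hy hk) hcyc (h.per_sq ε)
    fun i => by rw [← D.per_mul hy (h.comm_z ε), (hc ε).eq, D.per_mul (h.comm_z ε) hy]⟩
  let P : (Fin 3 → Bool) → (Fin 3 → Bool) := fun ε i => decide (D.mat (τ ε) i = -1)
  have hP : Function.Injective P := fun ε ε' e => h.pattern_inj (hK ε) (hK ε') fun i => congrFun e i
  obtain ⟨ε, hε⟩ := (Finite.injective_iff_surjective.1 hP) fun j => decide (j = 0)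
  have h0 : ∀ i, D.mat (τ ε) i = if i = 0 then -1 else 1 := fun i => by
    have e : decide (D.mat (τ ε) i = -1) = decide (i = 0) := congrFun hε i
    rcases h.mat_sign (hK ε) i with a | a <;> rw [a] at e ⊢ <;> split_ifs with hi
    all_goals first | rfl | (exfalso; revert e; simp [hi] <;> decide +kernel)
  have e1 := D.mat_conj hy (hK ε) (i := 0)
  rw [(hc ε).eq, mul_inv_cancel_right, h0, h0, if_pos rfl, if_neg (hcyc 0)] at e1
  have e2 : (1 : SL3) = -1 := e1.trans (by rw [mul_neg, mul_one, neg_mul, mul_inv_cancel])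
  exact absurd e2 (by decide +kernel)

/-- Some element of such a subgroup inverts `Q` modulo its centre. -/
theorem Eight.exists_minus {τ : (Fin 3 → Bool) → G} (h : D.Eight τ) : ∃ ε, ∀ v, D.act (τ ε) v = -v := by
  classical
  have fin : ∀ ε, τ ε ∈ D.K → (∀ i, decide (D.mat (τ ε) i = -1) = true) → ∀ v, D.act (τ ε) v = -v :=
    fun ε hK hm v => funext fun i => by
      rw [D.act_fixed_per hK.1 hK.2, of_decide_eq_true (hm i), mv_neg_one]; rfl
  let P : (Fin 3 → Bool) → (Fin 3 → Bool) := fun ε i => decide (D.mat (τ ε) i = -1)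
  by_cases hall : ∀ ε, τ ε ∈ D.K
  · have hP : Function.Injective P := fun ε ε' e => h.pattern_inj (hall ε) (hall ε') fun i => congrFun e i
    obtain ⟨ε, hε⟩ := (Finite.injective_iff_surjective.1 hP) fun _ => true
    exact ⟨ε, fin ε (hall ε) fun i => congrFun hε i⟩
  push Not at hall
  obtain ⟨ε0, hε0⟩ := hall
  set f := D.per (τ ε0) with hf
  have hf2 : ∀ i, f (f i) = i := h.per_sq ε0
  have hfne : ∃ i, f i ≠ i := by
    by_contra hcon; push Not at hcon; exact hε0 ⟨h.comm_z ε0, hcon⟩
  have hstep : ∀ ε, τ ε ∉ D.K → τ (bx ε0 ε) ∈ D.K := fun ε hε => by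
    rw [← h.mul]
    refine ⟨(h.comm_z ε0).mul_left (h.comm_z ε), fun i => ?_⟩
    rcases fin3_inv_pair f (D.per (τ ε)) hf2 hfne (h.per_sq ε) (fun j => by
      rw [hf, ← D.per_mul (h.comm_z ε0) (h.comm_z ε), (h.comm ε0 ε).eq, D.per_mul (h.comm_z ε) (h.comm_z ε0)]) with e | e
    · exact absurd ⟨h.comm_z ε, e⟩ hε
    · rw [D.per_mul (h.comm_z ε0) (h.comm_z ε)]; exact e i
  let A := Finset.univ.filter fun ε => τ ε ∈ D.K
  have hA : 4 ≤ A.card := by
    have hc : (Finset.univ.filter fun ε => ¬ τ ε ∈ D.K).card ≤ A.card := by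
      refine Finset.card_le_card_of_injOn (bx ε0) (fun ε hε => ?_) (fun a _ b _ e => ?_)
      · have h' : τ ε ∉ D.K := by simpa using hε
        simpa [A] using hstep ε h'
      · funext j
        have := congrFun e j
        simpa [bx] using this
    have := Finset.card_filter_add_card_filter_not (s := (Finset.univ : Finset (Fin 3 → Bool))) (fun ε => τ ε ∈ D.K)
    simp only [Finset.card_univ, Fintype.card_fun, Fintype.card_bool, Fintype.card_fin] at this
    simp only [A] at hc ⊢
    omega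
  set B := Finset.univ.filter fun p : Fin 3 → Bool => ∀ i, p (f i) = p i with hB
  have hmap : Set.MapsTo P A B := fun ε hε => by
    have hK : τ ε ∈ D.K := by simpa [A] using hε
    simp only [hB, Finset.coe_filter, Finset.mem_univ, true_and, Set.mem_setOf_eq]
    intro i
    have e1 := D.mat_conj (h.comm_z ε0) hK (i := i)
    rw [(h.comm ε0 ε).eq, mul_inv_cancel_right, ← hf] at e1
    show decide _ = decide _
    rw [e1]
    rcases h.mat_sign hK i with a | a <;> simp [a]
  have hinj : Set.InjOn P A := fun ε hε ε' hε' e =>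
    h.pattern_inj (by simpa [A] using hε) (by simpa [A] using hε') fun i => congrFun e i
  have hone : (fun _ => true) ∈ B := by simp [hB]
  obtain ⟨ε, hε, he⟩ := Finset.surjOn_of_injOn_of_card_le P hmap hinj
    (by rw [hB, fin3_fixed_patterns f hf2 hfne]; exact hA) hone
  exact ⟨ε, fin ε (by simpa [A] using hε) fun i => congrFun he i⟩

end Data

end Cfsg.Lib.Fi22Three
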