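import Cfsg.Agent.Lib.Fi22Three.Eight

/-!
# Some conjugate of `z` lies in `Q` outside the centre
-/

set_option autoImplicit false
set_option linter.unusedSectionVars false
set_option maxRecDepth 4000
set_option synthInstance.maxSize 2000

namespace Cfsg.Lib.Fi22Three

open Subgroup
open scoped commutatorElement
open Cfsg.Lib.U6Three (zp zp_zero zp_one zp_mem SL3)

theorem fin3_some : ∀ c : Fin 3 → ZMod 3,
    (∃ i, c i = 0) ∨ (∃ i j, i ≠ j ∧ c i + c j = 0) ∨ c 0 + c 1 + c 2 = 0 := by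
  decide +kernel

namespace Data

variable {G : Type*} [Group G] [Finite G] (D : Data G)

/-- No conjugate of `z` lies in `Q` outside the centre. -/
def NoPt : Prop := ∀ g, g * D.z * g⁻¹ ∈ D.Q → g * D.z * g⁻¹ ∈ D.Zc

/-- A conjugate of `z` commuting with it outside `Q`. -/
def Out (g : G) : Prop := Commute (g * D.z * g⁻¹) D.z ∧ g * D.z * g⁻¹ ∉ D.Q

/-- The centraliser in `Q` of a conjugate of `z`. -/
noncomputable def C (g : G) : Subgroup G := D.Q ⊓ centralizer ({g * D.z * g⁻¹} : Set G)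

theorem mem_C {g q : G} : q ∈ D.C g ↔ q ∈ D.Q ∧ Commute q (g * D.z * g⁻¹) :=
  and_congr Iff.rfl mem_centralizer_singleton_iff

/-- The centraliser of a commuting element has index three in what it fixes modulo the centre. -/
theorem cent_index {x : G} (hx : Commute x D.z) (A : AddSubgroup V) (hA : ∀ v ∈ A, D.act x v = v) :
    Nat.card (D.lift A) ≤ 3 * Nat.card (D.lift A ⊓ centralizer ({x} : Set G) : Subgroup G) := by
  classical
  have hm : ∀ q ∈ D.lift A, ⁅x, q⁆ ∈ D.Zc := fun q hq => by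
    rw [D.mem_Zc_iff (D.vec_comm hx hq.1).1, (D.vec_comm hx hq.1).2, hA _ hq.2, sub_self]
  let φ : D.lift A →* Multiplicative (ZMod 3) := MonoidHom.mk'
    (fun n => Multiplicative.ofAdd (D.zlog ⁅x, (n : G)⁆)) fun a b => by
      rw [← ofAdd_add, ← D.zlog_mul (hm a a.2) (hm b b.2)]
      congr 2
      rw [Subgroup.coe_mul, show ⁅x, (a : G) * b⁆ = ⁅x, (a : G)⁆ * ((a : G) * ⁅x, (b : G)⁆ * (a : G)⁻¹) by
        simp only [commutatorElement_def]; group, D.conj_Zc (D.comm_z _ a.2.1) (hm b b.2)]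
  have h := Subgroup.card_eq_card_quotient_mul_card_subgroup φ.ker
  rw [h]
  refine Nat.mul_le_mul ?_ ?_
  · calc Nat.card (D.lift A ⧸ φ.ker) ≤ Nat.card (Multiplicative (ZMod 3)) :=
          Nat.card_le_card_of_injective _ (QuotientGroup.kerLift_injective φ)
      _ = 3 := by rw [Nat.card_congr Multiplicative.toAdd, Nat.card_zmod]
  · have hmap : ∀ n : φ.ker, ((n : D.lift A) : G) ∈ D.lift A ⊓ centralizer ({x} : Set G) := fun n => by
      refine mem_inf.2 ⟨(n : D.lift A).2, mem_centralizer_singleton_iff.2 ?_⟩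
      have hk : D.zlog ⁅x, ((n : D.lift A) : G)⁆ = 0 := congrArg Multiplicative.toAdd (MonoidHom.mem_ker.1 n.2)
      refine (commutatorElement_eq_one_iff_commute.1 ?_).symm.eq
      rw [D.zlog_spec (hm _ (n : D.lift A).2), hk, zp_zero]
    exact Nat.card_le_card_of_injective (fun n => (⟨_, hmap n⟩ : (D.lift A ⊓ centralizer ({x} : Set G) : Subgroup G)))
      fun n n' e => Subtype.ext (Subtype.ext (Subtype.ext_iff.1 e :))

/-- When some central commutator with `x` is nontrivial the central factor is absorbed by conjugation. -/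
theorem conj_all {x r c w : G} (hx : Commute x D.z) (hr : r ∈ D.Q) (hrx : ⁅r, x⁆ ∈ D.Zc) (hr1 : ⁅r, x⁆ ≠ 1)
    (hc : c ∈ D.Q) (hw : w ∈ D.Zc) : ∃ q ∈ D.Q, w * ⁅c, x⁆ * x = q * x * q⁻¹ := by
  have hpow : ∀ n : ℕ, ∃ r' ∈ D.Q, ⁅r', x⁆ = ⁅r, x⁆ ^ n := by
    intro n
    induction n with
    | zero => exact ⟨1, one_mem _, by simp [commutatorElement_def]⟩
    | succ n ih =>
      obtain ⟨r', hr', e⟩ := ih
      refine ⟨r * r', mul_mem hr hr', ?_⟩
      rw [show ⁅r * r', x⁆ = r * ⁅r', x⁆ * r⁻¹ * ⁅r, x⁆ by simp only [commutatorElement_def]; group, e,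
        D.conj_Zc (D.comm_z r hr) (pow_mem hrx n), pow_succ]
  obtain ⟨a, ha⟩ := D.exists_zp hrx
  obtain ⟨b, hb⟩ := D.exists_zp hw
  have ha0 : a ≠ 0 := fun e => hr1 (by rw [ha, e, zp_zero])
  obtain ⟨n, hn⟩ : ∃ n : Fin 3, (a.val * n.1) % 3 = b.val :=
    (show ∀ a b : ZMod 3, a ≠ 0 → ∃ n : Fin 3, (a.val * n.1) % 3 = b.val by decide) a b ha0
  obtain ⟨r', hr', e⟩ := hpow n.1
  have e' : ⁅r', x⁆ = w := by
    rw [e, ha, hb, zp, zp, ← pow_mul, pow_eq_pow_mod _ D.z_cube, hn]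
  refine ⟨c * r', mul_mem hc hr', ?_⟩
  rw [show c * r' * x * (c * r')⁻¹ = c * (⁅r', x⁆ * x) * c⁻¹ by simp only [commutatorElement_def]; group, e',
    show c * (w * x) * c⁻¹ = c * w * c⁻¹ * (c * x * c⁻¹) by group, D.conj_Zc (D.comm_z c hc) hw,
    commutatorElement_def]
  group

variable {D}

theorem Out.inv (hno : D.NoPt) {g : G} (h : D.Out g) : D.Out g⁻¹ := by
  unfold Out
  rw [inv_inv]
  refine ⟨?_, fun hQ => h.2 (D.Zc_le (D.Zc_conj_iff.1 ?_))⟩
  · have := (Commute.conj_iff g⁻¹).2 h.1.symm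
    rw [inv_inv] at this
    simpa [mul_assoc] using this
  · have := hno g⁻¹ (by rwa [inv_inv])
    rwa [inv_inv] at this

theorem C_comm (hno : D.NoPt) {g : G} (h : D.Out g) {a b : G} (ha : a ∈ D.C g) (hb : b ∈ D.C g) :
    Commute a b := by
  by_contra hne
  have ha' := D.mem_C.1 ha
  have hb' := D.mem_C.1 hb
  have h' := (h.inv hno).2
  rw [inv_inv] at h'
  exact h' (D.mem_of_pair ha'.1 hb'.1 hne ha'.2 hb'.2)

theorem Out.cube {g : G} (_h : D.Out g) : (g * D.z * g⁻¹) ^ 3 ^ 1 ∈ D.Q := by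
  rw [pow_one, conj_pow, D.z_cube]; simp

theorem Out.card_C (hno : D.NoPt) {g : G} (h : D.Out g) : Nat.card (D.C g) ≤ 81 :=
  D.card_abelian inf_le_left fun _ ha _ hb => C_comm hno h ha hb

/-- A translation of the point inside the conjugate of `Q` is trivial. -/
theorem Out.pull (hno : D.NoPt) {g d q : G} (h : D.Out g) (hd : d ∈ D.C g)
    (e : d * (g * D.z * g⁻¹) = q * (g * D.z * g⁻¹) * q⁻¹) (hdg : g⁻¹ * d * g ∈ D.Q) : d = 1 := by
  have hd' := D.mem_C.1 hd
  have he : g⁻¹ * d * g * D.z = g⁻¹ * q * g * D.z * (g⁻¹ * q * g)⁻¹ := by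
    calc g⁻¹ * d * g * D.z = g⁻¹ * (d * (g * D.z * g⁻¹)) * g := by group
      _ = g⁻¹ * (q * (g * D.z * g⁻¹) * q⁻¹) * g := by rw [e]
      _ = g⁻¹ * q * g * D.z * (g⁻¹ * q * g)⁻¹ := by group
  have hZ := hno (g⁻¹ * q * g) (by rw [← he]; exact mul_mem hdg D.z_mem)
  rw [← he] at hZ
  have hdZ : g⁻¹ * d * g ∈ D.Zc := by
    have := mul_mem hZ (inv_mem (mem_zpowers D.z))
    rwa [mul_inv_cancel_right] at this
  obtain ⟨n, hn⟩ := D.exists_zp hdZ
  have hdx : d = zp (g * D.z * g⁻¹) n := by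
    rw [zp, conj_pow, ← Cfsg.Lib.U6Three.zp, ← hn]; group
  by_contra hd1
  rcases (show ∀ c : ZMod 3, c = 0 ∨ c = 1 ∨ c = 2 by decide) n with rfl | rfl | rfl
  · exact hd1 (by rw [hdx, zp_zero])
  · rw [zp_one] at hdx; exact h.2 (hdx ▸ hd'.1)
  · refine h.2 ?_
    have := mul_mem hd'.1 hd'.1
    rw [hdx, zp, show ((2 : ZMod 3)).val = 2 from rfl] at this
    rwa [← pow_add, conj_pow, show D.z ^ (2 + 2) = D.z by rw [pow_succ, D.z_cube, one_mul]] at this

/-- A translation of the point gives a commuting conjugate outside `Q`. -/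
theorem Out.pull_out (hno : D.NoPt) {g d q : G} (h : D.Out g) (hd : d ∈ D.C g)
    (e : d * (g * D.z * g⁻¹) = q * (g * D.z * g⁻¹) * q⁻¹) (hd1 : d ≠ 1) :
    ∃ g', D.Out g' ∧ g' * D.z * g'⁻¹ = g⁻¹ * d * g * D.z := by
  have he : g⁻¹ * q * g * D.z * (g⁻¹ * q * g)⁻¹ = g⁻¹ * d * g * D.z := by
    calc g⁻¹ * q * g * D.z * (g⁻¹ * q * g)⁻¹ = g⁻¹ * (q * (g * D.z * g⁻¹) * q⁻¹) * g := by group
      _ = g⁻¹ * (d * (g * D.z * g⁻¹)) * g := by rw [e]
      _ = g⁻¹ * d * g * D.z := by group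
  have hc : Commute (g⁻¹ * d * g) D.z := by
    have := (Commute.conj_iff g⁻¹).2 (D.mem_C.1 hd).2
    simpa [mul_assoc] using this
  refine ⟨g⁻¹ * q * g, ⟨he ▸ hc.mul_left (Commute.refl _), fun hQ => hd1 (h.pull hno hd e ?_)⟩, he⟩
  rw [he] at hQ
  have := mul_mem hQ (inv_mem D.z_mem)
  rwa [mul_inv_cancel_right] at this

/-- A commuting conjugate is not a transvection of a single plane. -/
theorem Out.single_false (hno : D.NoPt) {g : G} (h : D.Out g) {u : V} {e : Fin 3 → ZMod 3}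
    (hT : D.Tr (g * D.z * g⁻¹) u e) {i : Fin 3} (hu : ∀ j, j ≠ i → u j = 0) : False := by
  have h1 := D.cent_index h.1 (lineSet u) fun v hv => hT.fixed_iff.2 hv
  have h2 : Nat.card (D.lift (lineSet u) ⊓ centralizer ({g * D.z * g⁻¹} : Set G) : Subgroup G) ≤ 81 :=
    (Subgroup.card_le_of_le (K := D.C g) (fun q (hq : q ∈ D.lift (lineSet u) ⊓ centralizer ({g * D.z * g⁻¹} : Set G)) =>
      D.mem_C.2 ⟨hq.1.1, mem_centralizer_singleton_iff.1 hq.2⟩)).trans
      (h.card_C hno)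
  have h3 : 243 ≤ Nat.card (lineSet u) := by
    rw [card_lineSet', Fin.prod_univ_three]
    fin_cases i <;> simp_all <;> split_ifs <;> norm_num
  rw [D.card_lift] at h1
  omega

/-- A large subgroup meeting `Q` trivially fixes every plane. -/
theorem large_in_K {B : Subgroup G} (hB : D.IsThreeMod B) (h27 : 27 ≤ Nat.card B) (h1 : ∀ b ∈ B, b ∈ D.Q → b = 1) :
    ∀ b ∈ B, b ∈ D.K := by
  classical
  by_contra hcon
  push Not at hcon
  obtain ⟨σ, hσ, hσK⟩ := hcon
  have hσp : ∀ i, D.per σ i ≠ i :=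
    (fin3_cycle _ (D.per_cube (hB σ hσ).1 (hB σ hσ).2.choose_spec)).resolve_left fun e => hσK ⟨(hB σ hσ).1, e⟩
  set N' : Subgroup G := B ⊓ D.K
  let r : Fin 3 → B := fun a => if hh : ∃ x : B, D.per x 0 = a then hh.choose else 1
  have hmem : ∀ x : B, (r (D.per x 0) : G)⁻¹ * (x : G) ∈ N' := by
    intro x
    have hr : D.per (r (D.per x 0)) 0 = D.per x 0 := by
      have hh : ∃ x' : B, D.per x' 0 = D.per x 0 := ⟨x, rfl⟩
      simp only [r, dif_pos hh]
      exact hh.choose_spec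
    have hm : (r (D.per x 0) : G)⁻¹ * (x : G) ∈ B := mul_mem (inv_mem (r (D.per x 0)).2) x.2
    have hz' := (hB _ (r (D.per x 0)).2).1
    refine mem_inf.2 ⟨hm, (hB _ hm).1, (fin3_cycle _ (D.per_cube (hB _ hm).1 (hB _ hm).2.choose_spec)).resolve_right
      fun hh => hh 0 ?_⟩
    rw [D.per_mul hz'.inv_left (hB _ x.2).1]
    exact (congrArg _ hr.symm).trans (D.per_inv_cancel hz' 0)
  have hf : Function.Injective fun x : B => ((D.per x 0, ⟨_, hmem x⟩) : Fin 3 × N') := fun x x' e => by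
    have h1 : D.per (x : G) 0 = D.per (x' : G) 0 := congrArg Prod.fst e
    have h2 : (r (D.per x 0) : G)⁻¹ * (x : G) = (r (D.per x' 0) : G)⁻¹ * (x' : G) := congrArg (fun p => (p.2 : G)) e
    rw [h1] at h2
    exact Subtype.ext (mul_left_cancel h2)
  have hle := Nat.card_le_card_of_injective _ hf
  rw [Nat.card_prod, Nat.card_fin] at hle
  obtain ⟨⟨a, ha⟩, ha1⟩ : ∃ a : N', a ≠ 1 := by
    by_contra hno; push Not at hno
    haveI : Subsingleton N' := ⟨fun a b => (hno a).trans (hno b).symm⟩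
    have := Finite.card_le_one_iff_subsingleton.2 (inferInstance : Subsingleton N')
    omega
  have haQ : a ∉ D.Q := fun hQ => ha1 (Subtype.ext (h1 a (mem_inf.1 ha).1 hQ))
  have hsub : ∀ k ∈ N', k ∈ ({1, a, a * a} : Finset G) := fun k hk => by
    have hk' := mem_inf.1 hk
    have ha' := mem_inf.1 ha
    simp only [Finset.mem_insert, Finset.mem_singleton]
    rcases D.diag_cyclic hB hσ hσp ha'.1 ha'.2 haQ hk'.1 hk'.2 with e | e | e
    · exact Or.inl (h1 k hk'.1 e)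
    · exact Or.inr (Or.inl (inv_mul_eq_one.1 (h1 _ (mul_mem (inv_mem ha'.1) hk'.1) e)).symm)
    · exact Or.inr (Or.inr (inv_mul_eq_one.1 (h1 _ (mul_mem (inv_mem (mul_mem ha'.1 ha'.1)) hk'.1) e)).symm)
  have h3 : Nat.card N' ≤ 3 := by
    refine (Nat.card_le_card_of_injective (fun k : N' => (⟨(k : G), hsub k k.2⟩ : ({1, a, a * a} : Finset G)))
      fun k k' e => Subtype.ext (by simpa using congrArg Subtype.val e)).trans ?_
    rw [Nat.card_eq_finsetCard]
    exact Finset.card_le_three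
  omega

/-- A large diagonal subgroup contains an element moving only the first plane. -/
theorem exists_one_plane {B : Subgroup G} (hB : D.IsThreeMod B) (hK : ∀ b ∈ B, b ∈ D.K) (h27 : 27 ≤ Nat.card B) :
    ∃ b ∈ B, b ≠ 1 ∧ ∀ j, j ≠ 0 → D.mat b j = 1 := by
  classical
  have h3 : ∀ b ∈ B, ∀ j, D.mat b j ^ 3 = 1 := fun b hb j => D.mat_cube (hK b hb) (hB b hb).2.choose_spec j
  let S : Fin 3 → Finset SL3 := fun j => Finset.univ.filter fun m => ∃ b ∈ B, D.mat b j = m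
  have hS : ∀ j, (S j).card ≤ 3 := fun j => by
    by_cases hh : ∀ m ∈ S j, m = 1
    · exact le_trans (Finset.card_le_one.2 fun m hm n hn => (hh m hm).trans (hh n hn).symm) (by norm_num)
    push Not at hh
    obtain ⟨m, hm, hm1⟩ := hh
    obtain ⟨b, hb, hbm⟩ : ∃ b ∈ B, D.mat b j = m := by simpa [S] using hm
    refine (Finset.card_le_card (t := {1, m, m * m}) fun n hn => ?_).trans Finset.card_le_three
    obtain ⟨c, hc, hcn⟩ : ∃ c ∈ B, D.mat c j = n := by simpa [S] using hn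
    simp only [Finset.mem_insert, Finset.mem_singleton]
    exact sl_three_cyclic m n (hbm ▸ h3 b hb j) hm1 (hcn ▸ h3 c hc j)
      (by rw [← hbm, ← hcn]; exact D.mat_comm_of_three hB hb (hK b hb) hc (hK c hc) j)
  by_contra hcon
  push Not at hcon
  let f : B → S 1 × S 2 := fun b => (⟨D.mat b 1, by simp [S]; exact ⟨b, b.2, rfl⟩⟩, ⟨D.mat b 2, by simp [S]; exact ⟨b, b.2, rfl⟩⟩)
  have hf : Function.Injective f := fun b b' e => by
    by_contra hne
    have h1 : D.mat (b : G) 1 = D.mat (b' : G) 1 := congrArg (fun p => (p.1 : SL3)) e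
    have h2 : D.mat (b : G) 2 = D.mat (b' : G) 2 := congrArg (fun p => (p.2 : SL3)) e
    obtain ⟨j, hj, hj1⟩ := hcon _ (mul_mem (inv_mem b.2) b'.2) fun e' => hne (Subtype.ext (inv_mul_eq_one.1 e'))
    refine hj1 ?_
    rw [D.mat_mul_K (inv_mem (hK _ b.2)) (hK _ b'.2), D.mat_inv_K (hK _ b.2), inv_mul_eq_one]
    rcases (show ∀ j : Fin 3, j ≠ 0 → j = 1 ∨ j = 2 by decide) j hj with rfl | rfl
    exacts [h1, h2]
  have := Nat.card_le_card_of_injective f hf
  rw [Nat.card_prod, Nat.card_eq_finsetCard, Nat.card_eq_finsetCard] at this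
  have := Nat.mul_le_mul (hS 1) (hS 2)
  omega

/-- A diagonal commuting conjugate moves all planes and centralises the three lines. -/
theorem Out.diag_spec (hno : D.NoPt) {g : G} (h : D.Out g) {u : V} {e : Fin 3 → ZMod 3}
    (hT : D.Tr (g * D.z * g⁻¹) u e) : (∀ i, u i ≠ 0) ∧ ∀ q ∈ D.lines u, Commute (g * D.z * g⁻¹) q := by
  classical
  set x := g * D.z * g⁻¹ with hx
  set F' := D.lift (lineSet u)
  set C' : Subgroup G := F' ⊓ centralizer ({x} : Set G)
  have hC' : C' ≤ D.C g := fun q hq => D.mem_C.2 ⟨hq.1.1, mem_centralizer_singleton_iff.1 hq.2⟩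
  have h1 : Nat.card F' ≤ 3 * Nat.card C' := D.cent_index h.1 (lineSet u) fun v hv => hT.fixed_iff.2 hv
  have h81 := (Subgroup.card_le_of_le hC').trans (h.card_C hno)
  have hF : Nat.card F' = 3 * ∏ i, if u i = 0 then 9 else 3 := by rw [D.card_lift, card_lineSet']
  have hR : Nat.card (D.lift (rangeSet u)) = 3 * ∏ i, if u i = 0 then 1 else 3 := by rw [D.card_lift, card_rangeSet]
  rw [Fin.prod_univ_three] at hF hR
  have hcases : (∀ i, u i ≠ 0) ∨ (Nat.card F' = 243 ∧ Nat.card (D.lift (rangeSet u)) = 27) := by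
    by_contra hcon
    push Not at hcon
    obtain ⟨⟨i, hi⟩, hne⟩ := hcon
    have hsingle : ∀ a b c : Fin 3, (∀ j, j = a ∨ j = b ∨ j = c) → u b = 0 → u c = 0 → False :=
      fun a b c hall hb hc => h.single_false hno hT (i := a) fun j hj => by
        rcases hall j with rfl | rfl | rfl
        exacts [absurd rfl hj, hb, hc]
    by_cases h0 : u 0 = 0 <;> by_cases h1' : u 1 = 0 <;> by_cases h2 : u 2 = 0
    all_goals first
      | exact hsingle 2 0 1 (by decide) h0 h1'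
      | exact hsingle 1 0 2 (by decide) h0 h2
      | exact hsingle 0 1 2 (by decide) h1' h2
      | (simp [h0, h1', h2] at hF hR; exact hne hF hR)
      | (fin_cases i <;> contradiction)
  by_cases hall : ∀ q ∈ F', Commute x q
  · rcases hcases with hu | ⟨h243, -⟩
    · exact ⟨hu, hall⟩
    · exfalso
      have hle : F' ≤ C' := fun q hq => mem_inf.2 ⟨hq, mem_centralizer_singleton_iff.2 (hall q hq).symm.eq⟩
      have := Subgroup.card_le_of_le hle
      omega
  push Not at hall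
  obtain ⟨r, hr, hrx⟩ := hall
  exfalso
  -- the translations
  have hrm : ⁅r, x⁆ ∈ D.Zc := by
    rw [← commutatorElement_inv x r, inv_mem_iff, D.mem_Zc_iff (D.vec_comm h.1 hr.1).1, (D.vec_comm h.1 hr.1).2,
      hT.fixed_iff.2 hr.2, sub_self]
  have hr1 : ⁅r, x⁆ ≠ 1 := fun e' => hrx (commutatorElement_eq_one_iff_commute.1 e').symm
  set L := D.lift (rangeSet u) ⊓ centralizer ({x} : Set G)
  have hL : 27 ≤ Nat.card L := by
    rcases hcases with hu | ⟨h243, h27⟩
    · have he : D.lift (rangeSet u) = F' := by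
        refine eq_of_le_of_card_ge (fun q hq => ⟨hq.1, rangeSet_le u hq.2⟩) ?_
        rw [hF, hR, if_neg (hu 0), if_neg (hu 1), if_neg (hu 2), if_neg (hu 0), if_neg (hu 1), if_neg (hu 2)]
      rw [if_neg (hu 0), if_neg (hu 1), if_neg (hu 2)] at hF
      have : L = C' := by simp only [L, C', he]
      rw [this]
      omega
    · have hcom : ∀ a ∈ C', ∀ b ∈ D.lift (rangeSet u), Commute a b := fun a ha b hb =>
        ((D.commute_iff hb.1 ha.1.1).2 (ω_range_line hb.2 ha.1.2)).symm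
      have hab : ∀ a ∈ C' ⊔ D.lift (rangeSet u), ∀ b ∈ C' ⊔ D.lift (rangeSet u), Commute a b := by
        have hself : ∀ a ∈ D.lift (rangeSet u), ∀ b ∈ D.lift (rangeSet u), Commute a b := fun a ha b hb =>
          (D.commute_iff ha.1 hb.1).2 (ω_range_line ha.2 (rangeSet_le u hb.2))
        have hle : C' ⊔ D.lift (rangeSet u) ≤ centralizer ((C' ⊔ D.lift (rangeSet u) : Subgroup G) : Set G) := by
          refine sup_le ?_ ?_ <;> rw [le_centralizer_iff] <;> refine sup_le ?_ ?_ <;> intro b hb <;>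
            rw [mem_centralizer_iff] <;> intro a ha
          · exact (C_comm hno h (hC' ha) (hC' hb)).eq
          · exact (hcom a ha b hb).eq
          · exact (hcom b hb a ha).symm.eq
          · exact (hself a ha b hb).eq
        exact fun a ha b hb => (mem_centralizer_iff.1 (hle hb) a ha)
      have hQ : C' ⊔ D.lift (rangeSet u) ≤ D.Q := sup_le (fun q hq => hq.1.1) fun q hq => hq.1
      have h4 := D.card_abelian hQ hab
      have hCeq := eq_of_le_of_card_ge (le_sup_left : C' ≤ C' ⊔ D.lift (rangeSet u)) (by omega)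
      have : L = D.lift (rangeSet u) := inf_eq_left.2 fun q hq => ((hCeq.symm ▸ mem_sup_right hq : q ∈ C')).2
      rw [this]; omega
  have hconj : ∀ d ∈ L, ∃ q ∈ D.Q, d * x = q * x * q⁻¹ := fun d hd => by
    obtain ⟨c, hc, w, hw, rfl⟩ := hT.exists_comm hd.1.1 hd.1.2
    exact D.conj_all h.1 hr.1 hrm hr1 hc hw
  have hLC : ∀ d ∈ L, d ∈ D.C g := fun d hd => D.mem_C.2 ⟨hd.1.1, mem_centralizer_singleton_iff.1 hd.2⟩
  set L' := L.map (MulAut.conj g⁻¹).toMonoidHom with hL'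
  have hmem : ∀ b ∈ L', ∃ d ∈ L, b = g⁻¹ * d * g := by
    rintro _ ⟨d, hd, rfl⟩; exact ⟨d, hd, by simp [mul_assoc]⟩
  have hthree : D.IsThreeMod L' := D.isThreeMod_of_pGroup
    ((D.Q_pgroup.to_le (fun d hd => hd.1.1 : L ≤ D.Q)).map _) fun b hb => by
    obtain ⟨d, hd, rfl⟩ := hmem b hb
    have := (Commute.conj_iff g⁻¹).2 (mem_centralizer_singleton_iff.1 hd.2 : Commute d x)
    simpa [hx, mul_assoc] using this
  have h27' : 27 ≤ Nat.card L' := by rwa [hL', card_map_of_injective (MulAut.conj g⁻¹).injective]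
  have hQ1 : ∀ b ∈ L', b ∈ D.Q → b = 1 := by
    intro b hb hbQ
    obtain ⟨d, hd, rfl⟩ := hmem b hb
    obtain ⟨q, -, hq⟩ := hconj d hd
    rw [h.pull hno (hLC d hd) hq hbQ, mul_one, inv_mul_cancel]
  have hK := large_in_K hthree h27' hQ1
  obtain ⟨b, hb, hb1, hbm⟩ := exists_one_plane hthree hK h27'
  obtain ⟨d, hd, rfl⟩ := hmem b hb
  obtain ⟨q, -, hq⟩ := hconj d hd
  obtain ⟨g', hg', hval⟩ := h.pull_out hno (hLC d hd) hq fun e' => hb1 (by rw [e', mul_one, inv_mul_cancel])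
  have hxK : g' * D.z * g'⁻¹ ∈ D.K := by
    rw [hval]; exact mul_mem (hK _ hb) (D.Q_le_K D.z_mem)
  obtain ⟨u', e', hT'⟩ := D.exists_Tr hxK hg'.cube
  refine hg'.single_false hno hT' (i := 0) fun j hj => ?_
  have hm : D.mat (g' * D.z * g'⁻¹) j = 1 := by
    rw [hval, D.mat_mul_K (hK _ hb) (D.Q_le_K D.z_mem), hbm j hj, D.mat_Q D.z_mem, one_mul]
  by_contra hne
  obtain ⟨f, hf⟩ := exists_pl_one _ hne
  have h2 := hT'.eq j f
  rw [hm, mv_one, hf, mul_one, left_eq_add, smul_eq_zero] at h2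
  rcases h2 with h2 | h2
  exacts [hT'.e_ne j h2, hne h2]

/-- No commuting conjugate is diagonal. -/
theorem Out.diag_false (hno : D.NoPt) {g0 : G} (h0 : D.Out g0) (hK0 : g0 * D.z * g0⁻¹ ∈ D.K) : False := by
  classical
  obtain ⟨u, e, hT0⟩ := D.exists_Tr hK0 h0.cube
  obtain ⟨hu, hc⟩ := h0.diag_spec hno hT0
  obtain ⟨q, hq, hfix⟩ := hT0.exists_fixed hu hc
  set g := q * g0 with hg
  have hxe : g * D.z * g⁻¹ = q * (g0 * D.z * g0⁻¹) * q⁻¹ := by rw [hg]; group
  have hqz := D.comm_z q hq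
  have hqK := D.Q_le_K hq
  have h : D.Out g := by
    refine ⟨hxe ▸ (hqz.mul_left h0.1).mul_left hqz.inv_left, fun hQ => h0.2 ?_⟩
    have := mul_mem (mul_mem (inv_mem hq) hQ) hq
    rwa [hxe, show q⁻¹ * (q * (g0 * D.z * g0⁻¹) * q⁻¹) * q = g0 * D.z * g0⁻¹ by group] at this
  have hT : D.Tr (g * D.z * g⁻¹) u e := by
    refine ⟨h.1, hxe ▸ mul_mem (mul_mem hqK hK0) (inv_mem hqK), hT0.e_ne, fun i w => ?_⟩
    rw [hxe, D.mat_mul_K (mul_mem hqK hK0) (inv_mem hqK), D.mat_mul_K hqK hK0, D.mat_Q hq, D.mat_Q (inv_mem hq),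
      one_mul, mul_one, hT0.eq]
  obtain ⟨-, hc⟩ := h.diag_spec hno hT
  have hfix' : ∀ i, Commute (D.t i) (g * D.z * g⁻¹) := fun i => hxe ▸ hfix i
  have h8 := D.eight_conj hfix'
  -- the other conjugate is diagonal as well
  have hz' := h.inv hno
  have hz'K : g⁻¹ * D.z * g⁻¹⁻¹ ∈ D.K := h8.no_cycle hz'.1 (fun ε => by
    have := (Commute.conj_iff g⁻¹).2 (D.tv_z ε).symm
    simpa [mul_assoc] using this) hz'.cube
  obtain ⟨u', e', hT'⟩ := D.exists_Tr hz'K hz'.cube
  obtain ⟨hu', hc'⟩ := hz'.diag_spec hno hT'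
  have hM81 : 81 ≤ Nat.card (D.M g) := by
    have hle : (D.lines u').map (MulAut.conj g).toMonoidHom ≤ D.M g := by
      rintro _ ⟨l, hl, rfl⟩
      refine D.mem_M.2 ⟨by simpa [mul_assoc] using hl.1, ?_⟩
      have := (Commute.conj_iff g).2 (hc' l hl).symm
      simpa [mul_assoc] using this
    have := Subgroup.card_le_of_le hle
    rwa [card_map_of_injective (MulAut.conj g).injective, D.card_lines hu'] at this
  have hMcomm : ∀ a ∈ D.M g, ∀ b ∈ D.M g, Commute a b := fun a ha b hb => by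
    have hm : ∀ m ∈ D.M g, g⁻¹ * m * g ∈ D.C g⁻¹ := fun m hm => D.mem_C.2 ⟨(D.mem_M.1 hm).1, by
      have := (Commute.conj_iff g⁻¹).2 (D.mem_M.1 hm).2
      simpa [mul_assoc] using this⟩
    have := (Commute.conj_iff g).2 (C_comm hno hz' (hm a ha) (hm b hb))
    simpa [mul_assoc] using this
  have hxM : g * D.z * g⁻¹ ∈ D.M g := D.mem_M.2 ⟨by simpa [mul_assoc] using D.z_mem, h.1⟩
  obtain ⟨ε, hε⟩ := h8.exists_minus
  set θ := D.tv ε with hθ
  -- the part inside `Q`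
  have hsplit : ∀ m ∈ D.M g, ∃ a : ZMod 3, (zp (g * D.z * g⁻¹) a)⁻¹ * m ∈ D.E0 g := by
    intro m hm
    have hmQ := (D.mem_M.1 hm).1
    have hmz := (D.mem_M.1 hm).2
    set τ := g⁻¹ * θ * g with hτ
    have hτz : Commute τ D.z := h8.comm_z ε
    have hv : D.vec (τ * (g⁻¹ * m * g) * τ⁻¹) = D.vec (g⁻¹ * m * g)⁻¹ := by
      rw [D.vec_conj hτz hmQ, hε, D.vec_inv hmQ]
    obtain ⟨j, hj⟩ := D.exists_zp (D.div_mem_Zc (D.norm_Q τ hτz _ hmQ) (inv_mem hmQ) hv)
    set c := θ * m * θ⁻¹ * m⁻¹ with hcdef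
    have hc_eq : c = zp (g * D.z * g⁻¹) j * m⁻¹ * m⁻¹ := by
      rw [zp, conj_pow, ← Cfsg.Lib.U6Three.zp, ← hj, hτ, hcdef]; group
    have hcM : c ∈ D.M g := by
      rw [hc_eq]; exact mul_mem (mul_mem (zp_mem hxM _) (inv_mem hm)) (inv_mem hm)
    have hcQ : c ∈ D.Q := by
      have hcz : Commute c D.z := (D.mem_M.1 hcM).2
      have hact : ∀ v, D.act c v = flips (bx ε fun k => ε (D.per m⁻¹ k)) v := fun v => by
        rw [show c = θ * (m * θ⁻¹ * m⁻¹) by rw [hcdef]; group,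
          show θ⁻¹ = θ from inv_eq_of_mul_eq_one_right (by rw [hθ, D.tv_mul, bx_self, D.tv_zero]),
          D.act_mul (D.tv_z ε) ((hmz.mul_left (D.tv_z ε)).mul_left hmz.inv_left),
          D.act_mul (hmz.mul_left (D.tv_z ε)) hmz.inv_left, D.act_mul hmz (D.tv_z ε), D.act_tv, D.act_tv,
          D.act_flips hmz, D.act_cancel_inv hmz, flips_flips]
      have h2 : c * c ∈ D.Q := D.mem_Q_of_act (hcz.mul_left hcz) fun v => by
        rw [D.act_mul hcz hcz, hact, hact, flips_flips, bx_self, flips_zero]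
      have h3 : c ^ 2187 = 1 := by
        have := D.pow_Q (D.mem_M.1 hcM).1
        rw [show g⁻¹ * c * g = g⁻¹ * c * g⁻¹⁻¹ by rw [inv_inv], conj_pow, inv_inv] at this
        have := congrArg (fun w => g * w * g⁻¹) this
        simpa [mul_assoc] using this
      have : c = (c * c) ^ 1094 := by
        rw [← pow_two, ← pow_mul, show 2 * 1094 = 2187 + 1 by norm_num, pow_succ, h3, one_mul]
      rw [this]; exact pow_mem h2 _
    -- the cube of `m` is a power of the point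
    obtain ⟨a, ha⟩ := D.exists_zp (D.cube_Q _ hmQ)
    have hm3 : m ^ 3 = zp (g * D.z * g⁻¹) a := by
      rw [zp, conj_pow, ← Cfsg.Lib.U6Three.zp, ← ha,
        show g⁻¹ * m * g = g⁻¹ * m * g⁻¹⁻¹ by rw [inv_inv], conj_pow, inv_inv]
      group
    refine ⟨a - j, mem_inf.2 ⟨mul_mem (inv_mem (zp_mem hxM _)) hm, ?_⟩⟩
    have hx3 : (g * D.z * g⁻¹) ^ 3 = 1 := by rw [conj_pow, D.z_cube]; simp
    have e1 : (zp (g * D.z * g⁻¹) (a - j))⁻¹ * m = c := by
      rw [hc_eq, Cfsg.Lib.U6Three.zp_inv hx3, neg_sub, sub_eq_add_neg, Cfsg.Lib.U6Three.zp_add hx3,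
        ← Cfsg.Lib.U6Three.zp_inv hx3 a, ← hm3]
      group
    rwa [e1]
  have hxQ : ∀ n : ZMod 3, zp (g * D.z * g⁻¹) n ∈ D.Q → n = 0 := fun n hn => by
    rcases (show ∀ c : ZMod 3, c = 0 ∨ c = 1 ∨ c = 2 by decide) n with rfl | rfl | rfl
    · rfl
    · exact absurd (by rwa [zp_one] at hn) h.2
    · exfalso; refine h.2 ?_
      have := mul_mem hn hn
      rwa [zp, show ((2 : ZMod 3)).val = 2 from rfl,
        ← pow_add, conj_pow, show D.z ^ (2 + 2) = D.z by rw [pow_succ, D.z_cube, one_mul]] at this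
  choose a ha using hsplit
  have hJ27 : 27 ≤ Nat.card (D.E0 g) := by
    have := Nat.card_le_card_of_injective (fun m : D.M g => ((a m m.2, ⟨_, ha m m.2⟩) : ZMod 3 × D.E0 g))
      fun m m' e => by
        have h1 : a (m : G) m.2 = a (m' : G) m'.2 := congrArg Prod.fst e
        have h2 : (zp (g * D.z * g⁻¹) (a (m : G) m.2))⁻¹ * (m : G) =
            (zp (g * D.z * g⁻¹) (a (m' : G) m'.2))⁻¹ * (m' : G) := congrArg (fun p => (p.2 : G)) e
        rw [h1] at h2
        exact Subtype.ext (mul_left_cancel h2)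
    rw [Nat.card_prod, Nat.card_zmod] at this
    omega
  have hJlines : ∀ d ∈ D.E0 g, d ∈ D.lines u := fun d hd => by
    refine ⟨hd.2, ?_⟩
    have hcx : Commute d (g * D.z * g⁻¹) := hMcomm _ hd.1 _ hxM
    have : D.act (g * D.z * g⁻¹) (D.vec d) = D.vec d := by
      rw [← D.vec_conj h.1 hd.2, hcx.symm.eq, mul_inv_cancel_right]
    exact hT.fixed_iff.1 this
  have hdec : ∀ l ∈ D.lines u, ∃ c : ZMod 3, ∃ d ∈ D.E0 g, l = zp D.z c * d := by
    intro l hl
    let f : ZMod 3 × D.E0 g → D.lines u := fun p =>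
      ⟨zp D.z p.1 * p.2, mul_mem ⟨D.Zc_le (zp_mem (mem_zpowers _) _), by
        rw [D.vec_Zc (zp_mem (mem_zpowers _) _)]; exact (lineSet u).zero_mem⟩ (hJlines _ p.2.2)⟩
    have hinj : Function.Injective f := fun p p' e => by
      have e' : zp D.z p.1 * (p.2 : G) = zp D.z p'.1 * (p'.2 : G) := congrArg Subtype.val e
      have hd : (p'.2 : G) * (p.2 : G)⁻¹ = zp D.z (p.1 - p'.1) := by
        rw [sub_eq_add_neg, add_comm, Cfsg.Lib.U6Three.zp_add D.z_cube, ← Cfsg.Lib.U6Three.zp_inv D.z_cube]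
        have e2 : zp D.z p.1 = zp D.z p'.1 * (p'.2 : G) * (p.2 : G)⁻¹ := eq_mul_inv_of_mul_eq e'
        rw [e2]; group
      have hz1 : p.1 - p'.1 = 0 := by
        by_contra hne
        have hm := (mul_mem p'.2.2 (inv_mem p.2.2) : (p'.2 : G) * (p.2 : G)⁻¹ ∈ D.E0 g).1
        rw [hd] at hm
        have hQm := (D.mem_M.1 hm).1
        have hzQ : g⁻¹ * D.z * g ∈ D.Q := by
          rcases (show ∀ c : ZMod 3, c ≠ 0 → c = 1 ∨ c = 2 by decide) _ hne with e3 | e3 <;> rw [e3] at hQm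
          · rwa [zp_one] at hQm
          · have := mul_mem hQm hQm
            rwa [zp, show ((2 : ZMod 3)).val = 2 from rfl,
              show g⁻¹ * D.z ^ 2 * g * (g⁻¹ * D.z ^ 2 * g) = g⁻¹ * (D.z ^ 3 * D.z) * g by group, D.z_cube, one_mul] at this
        exact hz'.2 (by rwa [inv_inv])
      rw [hz1, zp_zero, mul_inv_eq_one] at hd
      exact Prod.ext (sub_eq_zero.1 hz1) (Subtype.ext hd.symm)
    have hbij := (Nat.bijective_iff_injective_and_card f).2 ⟨hinj, by
      have h4 := Nat.card_le_card_of_injective f hinj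
      rw [Nat.card_prod, Nat.card_zmod, D.card_lines hu] at h4 ⊢
      omega⟩
    obtain ⟨p, hp⟩ := hbij.2 ⟨l, hl⟩
    exact ⟨p.1, p.2, p.2.2, (congrArg Subtype.val hp).symm⟩
  -- commutators of plane elements with the point
  let P : G → ZMod 3 → Prop := fun q c => q ∈ D.Q ∧ ∃ d ∈ D.E0 g, ⁅q, g * D.z * g⁻¹⁆ = zp D.z c * d
  choose f hf using fun i => exists_pl_one (u i) (hu i)
  have hone : ∀ i, ∃ c, P (D.elp i (f i)) c := fun i => by
    have hqi : D.elp i (f i) ∈ D.Q := D.Qp_le _ (D.elp_mem _ _)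
    have hmem : ⁅D.elp i (f i), g * D.z * g⁻¹⁆ ∈ D.lines u := by
      rw [← commutatorElement_inv]
      refine inv_mem ⟨(D.vec_comm h.1 hqi).1, ?_⟩
      rw [(D.vec_comm h.1 hqi).2]
      exact rangeSet_le u (hT.comm_range _)
    obtain ⟨c, d, hd, e'⟩ := hdec _ hmem
    exact ⟨c, hqi, d, hd, e'⟩
  choose c hc1 using hone
  have hadd : ∀ q q' c c', P q c → P q' c' → ω (D.vec q) (D.act (g * D.z * g⁻¹) (D.vec q') - D.vec q') = 0 →
      P (q * q') (c + c') := by
    rintro q q' c c' ⟨hq, d, hd, e⟩ ⟨hq', d', hd', e'⟩ horth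
    refine ⟨mul_mem hq hq', d' * d, mul_mem hd' hd, ?_⟩
    have hcom : Commute q ⁅q', g * D.z * g⁻¹⁆ := by
      rw [← commutatorElement_inv]
      refine Commute.inv_right ?_
      rw [D.commute_iff hq (D.vec_comm h.1 hq').1, (D.vec_comm h.1 hq').2]
      exact horth
    have hdz : Commute d' (zp D.z c) := D.comm_Zc (D.mem_M.1 hd'.1).2 (zp_mem (mem_zpowers _) _)
    rw [show ⁅q * q', g * D.z * g⁻¹⁆ = q * ⁅q', g * D.z * g⁻¹⁆ * q⁻¹ * ⁅q, g * D.z * g⁻¹⁆ by
      simp only [commutatorElement_def]; group, hcom.eq, mul_inv_cancel_right, e, e', add_comm,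
      Cfsg.Lib.U6Three.zp_add D.z_cube, mul_assoc, ← mul_assoc d', hdz.eq]
    group
  have horth : ∀ i j, i ≠ j →
      ω (D.vec (D.elp i (f i))) (D.act (g * D.z * g⁻¹) (D.vec (D.elp j (f j))) - D.vec (D.elp j (f j))) = 0 := by
    intro i j hij
    rw [D.vec_elp, D.vec_elp, ω_single_left, Pi.sub_apply, hT.act_eq, Pi.single_eq_of_ne hij]
    simp [pl]
  obtain ⟨q', ⟨hq', d, hd, hqd⟩, hne⟩ : ∃ q', P q' 0 ∧ D.vec q' ∉ lineSet u := by
    rcases fin3_some c with ⟨i, hi⟩ | ⟨i, j, hij, hcij⟩ | hsum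
    · refine ⟨_, hi ▸ hc1 i, fun hl => ?_⟩
      have := hl i
      rw [D.vec_elp, Pi.single_eq_same, hf] at this
      exact absurd this (by decide)
    · refine ⟨_, hcij ▸ hadd _ _ _ _ (hc1 i) (hc1 j) (horth i j hij), fun hl => ?_⟩
      have := hl i
      rw [D.vec_mul (hc1 i).1 (hc1 j).1, D.vec_elp, D.vec_elp, Pi.add_apply, Pi.single_eq_same,
        Pi.single_eq_of_ne hij, add_zero, hf] at this
      exact absurd this (by decide)
    · refine ⟨_, hsum ▸ hadd _ _ _ _ (hadd _ _ _ _ (hc1 0) (hc1 1) (horth 0 1 (by decide))) (hc1 2) ?_, fun hl => ?_⟩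
      · have := hl 2
        rw [D.vec_mul (mul_mem (hc1 0).1 (hc1 1).1) (hc1 2).1, D.vec_mul (hc1 0).1 (hc1 1).1, D.vec_elp, D.vec_elp,
          D.vec_elp, Pi.add_apply, Pi.add_apply, Pi.single_eq_same, Pi.single_eq_of_ne (by decide : (2 : Fin 3) ≠ 0),
          Pi.single_eq_of_ne (by decide : (2 : Fin 3) ≠ 1), zero_add, zero_add, hf] at this
        exact absurd this (by decide)
      · rw [D.vec_mul (hc1 0).1 (hc1 1).1, ω_add_left, horth 0 2 (by decide), horth 1 2 (by decide), add_zero]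
  rw [zp_zero, one_mul] at hqd
  have hdC : d ∈ D.C g := D.mem_C.2 ⟨hd.2, hMcomm _ hd.1 _ hxM⟩
  have hd1 : d = 1 := h.pull hno hdC (q := q') (by rw [← hqd, commutatorElement_def]; group) (D.mem_M.1 hd.1).1
  refine hne (hT.fixed_iff.1 ?_)
  have hcm : Commute q' (g * D.z * g⁻¹) := commutatorElement_eq_one_iff_commute.1 (hqd.trans hd1)
  rw [← D.vec_conj h.1 hq', hcm.symm.eq, mul_inv_cancel_right]

/-- No commuting conjugate permutes the planes. -/
theorem Out.cycle_false (hno : D.NoPt) {g : G} (h : D.Out g) : False := by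
  classical
  set x := g * D.z * g⁻¹ with hx
  by_cases hK : x ∈ D.K
  · exact h.diag_false hno hK
  have hxz : Commute x D.z := h.1
  have hcyc : ∀ i, D.per x i ≠ i :=
    (fin3_cycle _ (D.per_cube hxz h.cube)).resolve_left fun e => hK ⟨hxz, e⟩
  have hx3 : x * (x * x) = 1 := by
    rw [← mul_assoc, show x * x * x = x ^ 3 by rw [pow_succ, pow_two], hx, conj_pow, D.z_cube]; simp
  have hA3 : ∀ v, D.act x (D.act x (D.act x v)) = v := fun v => by
    rw [← D.act_mul hxz hxz, ← D.act_mul (hxz.mul_left hxz) hxz, mul_assoc, hx3, D.act_one]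
  -- fixed vectors from the first plane
  let w0 : ZMod 3 × ZMod 3 →+ V := AddMonoidHom.single (fun _ : Fin 3 => ZMod 3 × ZMod 3) 0
  let A : V →+ V := D.actHom hxz
  let F : ZMod 3 × ZMod 3 →+ V := w0 + A.comp w0 + (A.comp A).comp w0
  let ψ : ZMod 3 × ZMod 3 →+ V := (A.comp A).comp w0 - A.comp w0
  have hFv : ∀ w, F w = w0 w + D.act x (w0 w) + D.act x (D.act x (w0 w)) := fun _ => rfl
  have hψv : ∀ w, ψ w = D.act x (D.act x (w0 w)) - D.act x (w0 w) := fun _ => rfl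
  have hFfix : ∀ w, D.act x (F w) = F w := fun w => by
    rw [hFv, D.act_add hxz, D.act_add hxz, hA3]; abel
  have hψ : ∀ w, D.act x (ψ w) - ψ w = F w := fun w => by
    rw [hψv, D.act_sub hxz, hA3, hFv]
    funext i
    simp only [Pi.sub_apply, Pi.add_apply]
    exact (show ∀ a b c : ZMod 3 × ZMod 3, a - c - (c - b) = a + b + c by decide +kernel) _ _ _
  have hperp : ∀ w w', ω (ψ w) (F w') = 0 := fun w w' => by
    have e : ∀ v, ω (D.act x v) (F w') = ω v (F w') := fun v => by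
      conv_lhs => rw [← hFfix w']
      exact D.act_form hxz _ _
    rw [hψv, ω_sub_left, e (D.act x (w0 w)), sub_self]
  have hF0 : ∀ w, F w 0 = w := fun w => by
    have h1 : D.act x (w0 w) = Pi.single (D.per x 0) (mv (D.mat x 0) w) := D.act_single hxz 0 w
    have hne : D.per x (D.per x 0) ≠ 0 := fun e => hcyc 0 (by
      have := D.per_cube hxz h.cube 0
      rwa [e] at this)
    rw [hFv, h1, D.act_single hxz]
    simp [w0, Pi.single_eq_of_ne (hcyc 0).symm, Pi.single_eq_of_ne hne.symm]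
  have hFinj : Function.Injective F := fun a b e => by rw [← hF0 a, e, hF0]
  set Fs : AddSubgroup V := F.range
  have hcardF : Nat.card (D.lift Fs) = 27 := by
    rw [D.card_lift, ← Nat.card_congr (AddMonoidHom.ofInjective hFinj).toEquiv, Nat.card_prod, Nat.card_zmod]
  set C' : Subgroup G := D.lift Fs ⊓ centralizer ({x} : Set G) with hC'
  have hC'C : ∀ d ∈ C', d ∈ D.C g := fun d hd => D.mem_C.2 ⟨hd.1.1, mem_centralizer_singleton_iff.1 hd.2⟩
  have hFs : ∀ v ∈ Fs, D.act x v = v := by rintro _ ⟨w, rfl⟩; exact hFfix w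
  have hci := D.cent_index hxz Fs hFs
  -- the commutators
  set φ : ZMod 3 × ZMod 3 → G := fun w => ⁅D.el (ψ w), x⁆ with hφ
  have hφQ : ∀ w, φ w ∈ D.Q := fun w => by
    rw [hφ]; show ⁅_, _⁆ ∈ _
    rw [← commutatorElement_inv x]; exact inv_mem (D.vec_comm hxz (D.el_mem _)).1
  have hφv : ∀ w, D.vec (φ w) = F (-w) := fun w => by
    show D.vec ⁅D.el (ψ w), x⁆ = _
    rw [← commutatorElement_inv x, D.vec_inv (D.vec_comm hxz (D.el_mem _)).1, (D.vec_comm hxz (D.el_mem _)).2,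
      D.vec_el, hψ, map_neg]
  have hφF : ∀ w, φ w ∈ D.lift Fs := fun w => ⟨hφQ w, -w, (hφv w).symm⟩
  obtain ⟨D0, hD0C, h9, hconj⟩ : ∃ D0 : Subgroup G, D0 ≤ C' ∧ 4 ≤ Nat.card D0 ∧
      ∀ d ∈ D0, ∃ q ∈ D.Q, d * x = q * x * q⁻¹ := by
    by_cases hall : ∀ q ∈ D.lift Fs, Commute x q
    · have hφC : ∀ w, φ w ∈ C' := fun w =>
        mem_inf.2 ⟨hφF w, mem_centralizer_singleton_iff.2 (hall _ (hφF w)).symm.eq⟩
      have hmul : ∀ a b, φ (a + b) = φ a * φ b := fun a b => by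
        obtain ⟨w1, hw1, e1⟩ := D.exists_el (mul_mem (D.el_mem (ψ a)) (D.el_mem (ψ b)))
        rw [D.vec_mul (D.el_mem _) (D.el_mem _), D.vec_el, D.vec_el, ← map_add] at e1
        have e2 : D.el (ψ (a + b)) = w1⁻¹ * (D.el (ψ a) * D.el (ψ b)) := by rw [e1, inv_mul_cancel_left]
        have hm : Commute w1⁻¹ x := (D.comm_Zc hxz (inv_mem hw1)).symm
        have e3 : ⁅D.el (ψ (a + b)), x⁆ = ⁅D.el (ψ a) * D.el (ψ b), x⁆ := by
          rw [e2]
          generalize hW : D.el (ψ a) * D.el (ψ b) = W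
          have hWQ : W ∈ D.Q := hW ▸ mul_mem (D.el_mem _) (D.el_mem _)
          have hz : ∀ y, Commute y D.z → w1⁻¹ * y * w1⁻¹⁻¹ = y := fun y hy => by
            rw [← (D.comm_Zc hy (inv_mem hw1)).eq, mul_inv_cancel_right]
          rw [show ⁅w1⁻¹ * W, x⁆ = w1⁻¹ * ⁅W, x⁆ * w1⁻¹⁻¹ * ⁅w1⁻¹, x⁆ by
            simp only [commutatorElement_def]; group, commutatorElement_eq_one_iff_commute.2 hm, mul_one]
          refine hz _ ?_
          rw [commutatorElement_def]
          exact (((D.comm_z W hWQ).mul_left hxz).mul_left (D.comm_z W hWQ).inv_left).mul_left hxz.inv_left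
        have hc : Commute (D.el (ψ a)) (φ b) :=
          (D.commute_iff (D.el_mem _) (hφQ b)).2 (by rw [D.vec_el, hφv]; exact hperp a (-b))
        show ⁅_, x⁆ = _
        rw [e3, show ⁅D.el (ψ a) * D.el (ψ b), x⁆ = D.el (ψ a) * φ b * (D.el (ψ a))⁻¹ * φ a by
          simp only [hφ, commutatorElement_def]; group, hc.eq, mul_inv_cancel_right]
        exact (C_comm hno h (hC'C _ (hφC b)) (hC'C _ (hφC a))).eq
      let Φ : Multiplicative (ZMod 3 × ZMod 3) →* G := MonoidHom.mk' (fun w => φ (Multiplicative.toAdd w))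
        fun a b => hmul _ _
      have hΦ : Function.Injective Φ := fun a b e => by
        have e' := congrArg D.vec (show φ (Multiplicative.toAdd a) = φ (Multiplicative.toAdd b) from e)
        rw [hφv, hφv] at e'
        exact Multiplicative.toAdd.injective (neg_injective (hFinj e'))
      refine ⟨Φ.range, by rintro _ ⟨w, rfl⟩; exact hφC _, ?_, ?_⟩
      · rw [Nat.card_congr (MonoidHom.ofInjective hΦ).symm.toEquiv, Nat.card_congr Multiplicative.toAdd,
          Nat.card_prod, Nat.card_zmod]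
        norm_num
      · rintro _ ⟨w, rfl⟩
        refine ⟨D.el (ψ (Multiplicative.toAdd w)), D.el_mem _, ?_⟩
        show φ (Multiplicative.toAdd w) * x = _
        simp only [hφ, commutatorElement_def]; group
    · push Not at hall
      obtain ⟨r, hr, hrx⟩ := hall
      have hrm : ⁅r, x⁆ ∈ D.Zc := by
        rw [← commutatorElement_inv x r, inv_mem_iff, D.mem_Zc_iff (D.vec_comm hxz hr.1).1, (D.vec_comm hxz hr.1).2,
          hFs _ hr.2, sub_self]
      have hr1 : ⁅r, x⁆ ≠ 1 := fun e' => hrx (commutatorElement_eq_one_iff_commute.1 e').symm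
      refine ⟨C', le_rfl, by rw [← hC'] at hci; omega, fun d hd => ?_⟩
      obtain ⟨w, hw⟩ := hd.1.2
      have hv : D.vec d = D.vec (φ (-w)) := by rw [hφv, neg_neg, hw]
      obtain ⟨q, hq, e'⟩ := D.conj_all hxz hr.1 hrm hr1 (D.el_mem (ψ (-w)))
        (D.div_mem_Zc hd.1.1 (hφQ (-w)) hv)
      exact ⟨q, hq, by rw [← e']; simp only [hφ]; group⟩
  -- two elements with the same permutation
  have hz' := h.inv hno
  have hdz : ∀ d : D0, Commute (g⁻¹ * (d : G) * g) D.z := fun d => by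
    have := (Commute.conj_iff g⁻¹).2 (mem_centralizer_singleton_iff.1 (hD0C d.2).2 : Commute (d : G) x)
    simpa [hx, mul_assoc] using this
  haveI : Fintype D0 := Fintype.ofFinite _
  obtain ⟨d1, d2, hne, hper⟩ := Fintype.exists_ne_map_eq_of_card_lt
    (fun d : D0 => D.per (g⁻¹ * (d : G) * g) 0) (by simp only [← Nat.card_eq_fintype_card, Nat.card_fin]; omega)
  set d := (d1 : G)⁻¹ * (d2 : G) with hd
  have hdD0 : d ∈ D0 := mul_mem (inv_mem d1.2) d2.2
  have hd1 : d ≠ 1 := fun e => hne (Subtype.ext (inv_mul_eq_one.1 e))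
  obtain ⟨q, -, hq⟩ := hconj d hdD0
  obtain ⟨g', hg', hval⟩ := h.pull_out hno (hC'C _ (hD0C hdD0)) hq hd1
  refine hg'.diag_false hno ?_
  rw [hval]
  refine mul_mem ?_ (D.Q_le_K D.z_mem)
  have hd3 : (g⁻¹ * d * g) ^ 3 ^ 7 ∈ D.Q := by
    rw [show g⁻¹ * d * g = g⁻¹ * d * g⁻¹⁻¹ by rw [inv_inv], conj_pow, show 3 ^ 7 = 2187 by norm_num,
      D.pow_Q (hD0C hdD0).1.1]
    simp
  have hdz' := hdz ⟨d, hdD0⟩
  refine ⟨hdz', (fin3_cycle _ (D.per_cube hdz' hd3)).resolve_right fun hc => hc 0 ?_⟩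
  rw [show g⁻¹ * d * g = (g⁻¹ * (d1 : G) * g)⁻¹ * (g⁻¹ * (d2 : G) * g) by rw [hd]; group,
    D.per_mul (hdz d1).inv_left (hdz d2), ← hper, D.per_inv_cancel (hdz d1)]

variable (D)

/-- Some conjugate of `z` lies in `Q` outside the centre. -/
theorem exists_pt : ∃ g, D.IsPt g := by
  by_contra hcon
  push Not at hcon
  have hno : D.NoPt := fun g hg => by
    by_contra hn; exact hcon g ⟨hg, hn⟩
  obtain ⟨g, hc, hn⟩ := D.nwc
  exact Out.cycle_false hno ⟨hc, fun hQ => hn (hno g hQ)⟩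

end Data

end Cfsg.Lib.Fi22Three
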