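import Cfsg.Agent.Lib.Fischer.FromCent.Setup

/-!
# The transpositions in an inner half of an involution centraliser

`A0` has the structure of the centraliser of a transposition of Fi₂₂ and holds the conjugates of `d` commuting
with `d`; the twenty-two transpositions of the base come from conjugates of `d` up to `d`.
-/

set_option autoImplicit false
set_option linter.unusedSectionVars false
set_option maxRecDepth 100000

namespace Cfsg.Lib.Fi22Three.Local

open Cfsg Cfsg.Lib.CosetEnum Cfsg.Lib.Fischer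
open Cfsg.Lib.CosetEnum.Fi22Norm (Fi22Tab)
open Cfsg.Lib.CosetEnum.Fi22Cent (cen d6 seventh d6_mem d6_mem_cen base_le_cen involution_into_base base_unique)
open Cfsg.Lib.CosetEnum.Fi22Two (base gen ev basisIdx basis_spec vec)

variable {H : Type*} [Group H] [Finite H] {D₀ : Set H} (T : Fi22Tab H D₀)

theorem base_le_of_gen {S : Subgroup H} (h : ∀ j < 22, gen T j ∈ S) : base T ≤ S := by
  rintro _ ⟨v, -, rfl⟩
  suffices hk : ∀ k ≤ 10, ev T k v ∈ S from hk 10 le_rfl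
  intro k hk
  induction k with
  | zero => exact one_mem S
  | succ k ih =>
    show ev T k v * (if v.testBit k then gen T (basisIdx.getD k 0) else 1) ∈ S
    refine mul_mem (ih (by omega)) ?_
    split_ifs
    · exact h _ (basis_spec (by omega)).1
    · exact one_mem S

theorem gen_ne {j : ℕ} (hj : j < 22) (hne : j ≠ seventh) : gen T j ≠ d6 T := by
  intro h
  rw [d6, (Fi22Two.ev_vec T hj).2, (Fi22Two.ev_vec T (show seventh < 22 by decide)).2] at h
  have := Fi22Two.ev_inj T (Fi22Two.ev_vec T hj).1 (Fi22Two.ev_vec T (show seventh < 22 by decide)).1 h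
  exact hne ((show ∀ j < 22, vec.getD j 0 = vec.getD seventh 0 → j = seventh by decide +kernel) j hj this)

theorem gen_cen {j : ℕ} (hj : j < 22) : gen T j ∈ cen T := base_le_cen T (Fi22Two.gen_mem T hj)

/-- A transposition commuting with the seventh one commutes with an element of order five of its centraliser. -/
theorem exists_five {F : Type} [Field F] [Fintype F] {hF : Fintype.card F = 2 ^ 2} {H' : Type} [Group H'] [Finite H']
    {D' : Set H'} {T' : Fi22Tab H' D'} (M : FromCent.Model D' (d6 T') hF) (h5 : 5 ∣ Nat.card (cen T')) {b : H'}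
    (hb : b ∈ perp D' (d6 T')) : ∃ y ∈ cen T', orderOf y = 5 ∧ Commute b y := by
  classical
  haveI : Fact (Nat.Prime 5) := ⟨by norm_num⟩
  letI : MulAction (cen T') H' := MulAction.compHom H' (ConjAct.toConjAct.toMonoidHom.comp (cen T').subtype)
  have hsmul : ∀ (c : cen T') (x : H'), c • x = (c : H') * x * (c : H')⁻¹ := fun c x => rfl
  have horb : MulAction.orbit (cen T') b = perp D' (d6 T') := by
    ext x
    constructor
    · rintro ⟨c, rfl⟩
      show c • b ∈ _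
      rw [hsmul]
      have hc : (c : H') * d6 T' * (c : H')⁻¹ = d6 T' :=
        mul_inv_eq_iff_eq_mul.2 (Subgroup.mem_centralizer_singleton_iff.1 c.2)
      exact hc ▸ conj_perp M.m22.fischer (c : H') (d6 T') hb
    · intro hx
      obtain ⟨g, hg, e⟩ := Fischer.perp_transitive M.m22.fischer M.mem hb hx
      have hle : Subgroup.closure (perp D' (d6 T')) ≤ cen T' :=
        (Subgroup.closure_le _).2 fun y hy => Subgroup.mem_centralizer_singleton_iff.2 hy.2.2.eq.symm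
      exact ⟨⟨g, hle hg⟩, e⟩
  have hcard := (MulAction.stabilizer (cen T') b).card_mul_index
  rw [MulAction.index_stabilizer, horb, M.card_perp] at hcard
  have h5' : 5 ∣ Nat.card (MulAction.stabilizer (cen T') b) :=
    (Nat.Coprime.dvd_mul_right (by norm_num : Nat.Coprime 5 693)).1 (hcard ▸ h5)
  obtain ⟨y, hy⟩ := exists_prime_orderOf_dvd_card' 5 h5'
  refine ⟨((y : cen T') : H'), (y : cen T').2, by rw [Subgroup.orderOf_coe, Subgroup.orderOf_coe, hy], ?_⟩
  have h : (y : cen T') • b = b := y.2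
  rw [hsmul] at h
  exact (mul_inv_eq_iff_eq_mul.1 h).symm

variable {G : Type*} [Group G] [Finite G] {d : G} (A0 : Subgroup G)

/-- The conjugates of the involution in the inner half are the transpositions. -/
theorem class_iff (hD : Cfsg.IsThreeTranspositionSet D₀) (hd : d * d = 1) (hdA : d ∈ A0)
    (hA : ∀ x ∈ A0, Commute x d) (e : A0 ≃* cen T) (hed : ((e ⟨d, hdA⟩ : cen T) : H) = d6 T)
    (hsq : ∀ g : G, g * g ≠ d) (hin : ∀ x, Commute x d → IsConj d x → x ∈ A0)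
    (hgen : ∀ j (hj : j < 22), IsConj d (e.symm ⟨gen T j, gen_cen T hj⟩ : G) ∨
      IsConj d ((e.symm ⟨gen T j, gen_cen T hj⟩ : G) * d))
    (hother : ∃ x ∈ A0, IsConj d x ∧ x ≠ d) :
    ∀ x : A0, IsConj d (x : G) ↔ ((e x : cen T) : H) ∈ D₀ := by
  let g : cen T →* G := A0.subtype.comp e.symm.toMonoidHom
  have hginj : Function.Injective g := A0.subtype_injective.comp e.symm.injective
  have hgd : g ⟨d6 T, d6_mem_cen T⟩ = d := by
    show ((e.symm ⟨d6 T, d6_mem_cen T⟩ : A0) : G) = d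
    rw [show (⟨d6 T, d6_mem_cen T⟩ : cen T) = e ⟨d, hdA⟩ from Subtype.ext hed.symm, MulEquiv.symm_apply_apply]
  obtain ⟨A, hAg⟩ : ∃ A, A = ((base T).subgroupOf (cen T)).map g := ⟨_, rfl⟩
  have hEA : Cfsg.IsElementaryAbelian 2 A := hAg ▸ Lib.Thompson.isEA_map g
    (Lib.Thompson.isEA_subgroupOf (Fi22Two.base_elementary T) _)
  have hcard : Nat.card A = 1024 := by
    rw [hAg, Subgroup.card_map_of_injective hginj,
      Nat.card_congr (Subgroup.subgroupOfEquivOfLe (base_le_cen T)).toEquiv, Fi22Two.card_base]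
  have hdA' : d ∈ A := hAg ▸ ⟨⟨d6 T, d6_mem_cen T⟩, d6_mem T, hgd⟩
  have hgA : ∀ j (hj : j < 22), g ⟨gen T j, gen_cen T hj⟩ ∈ A := fun j hj =>
    hAg ▸ ⟨_, Fi22Two.gen_mem T hj, rfl⟩
  -- every conjugate in `A` comes from `d` under the normaliser
  have hnorm : ∀ x ∈ A, IsConj d x → ∃ n ∈ Subgroup.normalizer (A : Set G), n * d * n⁻¹ = x := by
    intro x hx hdx
    obtain ⟨k, hk⟩ := isConj_iff.1 hdx
    have hone : ∀ u ∈ A, IsConj d u → k⁻¹ * u * k ∈ A0 := fun u hu hdu => by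
      refine hin _ ((Commute.conj_iff k).1 ?_) (hdu.trans (isConj_iff.2 ⟨k⁻¹, by rw [inv_inv]⟩))
      rw [hk, show k * (k⁻¹ * u * k) * k⁻¹ = u by group]
      exact Lib.Thompson.isEA_commute hEA hu hx
    have hEC : A.map (MulAut.conj k⁻¹).toMonoidHom ≤ A0 := by
      have hd0 := hone d hdA' (IsConj.refl d)
      have hb : base T ≤ ((A0.map (MulAut.conj k).toMonoidHom).comap g).map (cen T).subtype := by
        refine base_le_of_gen T fun j hj => ⟨⟨gen T j, gen_cen T hj⟩, ?_, rfl⟩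
        refine Subgroup.mem_comap.2 ⟨k⁻¹ * g ⟨gen T j, gen_cen T hj⟩ * k, ?_, by simp [mul_assoc]⟩
        have hdec : ∀ u : G, k⁻¹ * (u * d) * k ∈ A0 → k⁻¹ * u * k ∈ A0 := fun u hu => by
          have := mul_mem hu (inv_mem hd0)
          rwa [show k⁻¹ * (u * d) * k * (k⁻¹ * d * k)⁻¹ = k⁻¹ * u * k by group] at this
        rcases hgen j hj with h | h
        · exact hone _ (hgA j hj) h
        · exact hdec _ (hone _ (mul_mem (hgA j hj) hdA') h)
      rintro _ ⟨a, ha, rfl⟩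
      rw [hAg] at ha
      obtain ⟨c, hc, rfl⟩ := ha
      obtain ⟨c', hc', hce⟩ := hb hc
      obtain rfl : c' = c := Subtype.ext hce
      obtain ⟨w, hw, hwe⟩ := Subgroup.mem_comap.1 hc'
      show k⁻¹ * g c' * k⁻¹⁻¹ ∈ A0
      rw [← hwe]
      simpa [mul_assoc] using hw
    obtain ⟨c, hc, hmap⟩ := base_unique T
      (E := ((A.map (MulAut.conj k⁻¹).toMonoidHom).subgroupOf A0).map ((cen T).subtype.comp e.toMonoidHom))
      (Lib.Thompson.isEA_map _ (Lib.Thompson.isEA_subgroupOf (Lib.Thompson.isEA_map _ hEA) A0))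
      (by rintro _ ⟨x, -, rfl⟩; exact (e x).2)
      (by rw [Subgroup.card_map_of_injective (show Function.Injective ((cen T).subtype.comp e.toMonoidHom) from
        (cen T).subtype_injective.comp e.injective),
        Nat.card_congr (Subgroup.subgroupOfEquivOfLe hEC).toEquiv,
        Subgroup.card_map_of_injective (f := (MulAut.conj k⁻¹).toMonoidHom) (MulAut.conj k⁻¹).injective, hcard])
    obtain ⟨c', hc'⟩ : ∃ c', c' = g ⟨c, hc⟩ := ⟨_, rfl⟩
    have hinto : ∀ a ∈ A, c' * (k⁻¹ * a * k⁻¹⁻¹) * c'⁻¹ ∈ A := fun a ha => by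
      have hm : k⁻¹ * a * k⁻¹⁻¹ ∈ A.map (MulAut.conj k⁻¹).toMonoidHom := ⟨a, ha, rfl⟩
      have hb : c * ((e ⟨_, hEC hm⟩ : cen T) : H) * c⁻¹ ∈ base T := by
        rw [← hmap]
        exact ⟨_, ⟨⟨_, hEC hm⟩, hm, rfl⟩, rfl⟩
      rw [hAg]
      refine ⟨⟨c, hc⟩ * e ⟨_, hEC hm⟩ * ⟨c, hc⟩⁻¹, hb, ?_⟩
      rw [map_mul, map_mul, map_inv, ← hc']
      show _ * ((e.symm (e ⟨_, hEC hm⟩) : A0) : G) * _ = _
      rw [MulEquiv.symm_apply_apply]
    have hmapn : A.map (MulAut.conj (c' * k⁻¹)).toMonoidHom = A := by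
      refine Subgroup.eq_of_le_of_card_ge ?_ (le_of_eq (Subgroup.card_map_of_injective
        (f := (MulAut.conj (c' * k⁻¹)).toMonoidHom) (MulAut.conj (c' * k⁻¹)).injective).symm)
      rintro _ ⟨a, ha, rfl⟩
      show c' * k⁻¹ * a * (c' * k⁻¹)⁻¹ ∈ A
      rw [show c' * k⁻¹ * a * (c' * k⁻¹)⁻¹ = c' * (k⁻¹ * a * k⁻¹⁻¹) * c'⁻¹ by group]
      exact hinto a ha
    refine ⟨(c' * k⁻¹)⁻¹, inv_mem (Subgroup.mem_normalizer_iff.2 fun a => ?_), ?_⟩
    · conv_rhs => rw [← hmapn]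
      exact ⟨fun ha => ⟨a, ha, rfl⟩, fun ⟨b, hb, hbe⟩ => by
        rwa [show b = a from (MulAut.conj (c' * k⁻¹)).injective hbe] at hb⟩
    · have hcd : Commute c'⁻¹ d := (hA _ (hc' ▸ (e.symm ⟨c, hc⟩).2)).inv_left
      calc (c' * k⁻¹)⁻¹ * d * (c' * k⁻¹)⁻¹⁻¹ = k * (c'⁻¹ * d) * (c' * k⁻¹) := by group
        _ = k * d * k⁻¹ := by rw [hcd.eq]; group
        _ = x := hk
  -- count in the model
  let Q : H → Prop := fun y => ∃ h : y ∈ cen T, IsConj d (g ⟨y, h⟩)
  have hQiff : ∀ y (h : y ∈ cen T), Q y ↔ IsConj d (g ⟨y, h⟩) := fun y h => ⟨fun ⟨_, hc⟩ => hc, fun hc => ⟨h, hc⟩⟩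
  have hconj : ∀ c ∈ cen T, ∀ x ∈ cen T, Q x → Q (c * x * c⁻¹) := by
    rintro c hc x hx ⟨h, hdx⟩
    refine (hQiff _ (mul_mem (mul_mem hc h) (inv_mem hc))).2 (hdx.trans ?_)
    exact isConj_iff.2 ⟨g ⟨c, hc⟩, by rw [← map_inv, ← map_mul, ← map_mul]; rfl⟩
  have hsqQ : ∀ y ∈ cen T, ¬ Q (y * y) := by
    rintro y hy ⟨h, hdy⟩
    obtain ⟨k, hk⟩ := isConj_iff.1 hdy
    refine hsq (k⁻¹ * g ⟨y, hy⟩ * k) ?_
    have e1 : g ⟨y, hy⟩ * g ⟨y, hy⟩ = k * d * k⁻¹ := by rw [hk, ← map_mul]; rfl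
    calc k⁻¹ * g ⟨y, hy⟩ * k * (k⁻¹ * g ⟨y, hy⟩ * k) = k⁻¹ * (g ⟨y, hy⟩ * g ⟨y, hy⟩) * k := by group
      _ = d := by rw [e1]; group
  let α : base T ≃* A := ((Subgroup.subgroupOfEquivOfLe (base_le_cen T)).symm.trans
    (((base T).subgroupOf (cen T)).equivMapOfInjective g hginj)).trans (MulEquiv.subgroupCongr hAg.symm)
  have hα : ∀ z : base T, (α z : G) = g ⟨z, base_le_cen T z.2⟩ := fun z => rfl
  have hinvQ : ∀ x ∈ cen T, Q x → x * x = 1 := by
    rintro x hx ⟨h, hdx⟩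
    obtain ⟨k, hk⟩ := isConj_iff.1 hdx
    have : g (⟨x, h⟩ * ⟨x, h⟩) = g 1 := by
      rw [map_mul, map_one, ← hk]
      calc k * d * k⁻¹ * (k * d * k⁻¹) = k * (d * d) * k⁻¹ := by group
        _ = 1 := by rw [hd, mul_one, mul_inv_cancel]
    exact congrArg Subtype.val (hginj this)
  have hcount : Set.ncard {x : H | x ∈ base T ∧ Q x} = 22 := by
    refine Fi22Cent.ncard_eq T Q hconj hD ((hQiff _ (d6_mem_cen T)).2 (hgd.symm ▸ IsConj.refl d)) hsqQ hinvQ ?_ ?_
    · obtain ⟨x, hx, hdx, hne⟩ := hother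
      refine ⟨e ⟨x, hx⟩, (e ⟨x, hx⟩).2, (hQiff _ (e ⟨x, hx⟩).2).2 ?_, fun h => hne ?_⟩
      · show IsConj d ((e.symm (e ⟨x, hx⟩) : A0) : G)
        rw [MulEquiv.symm_apply_apply]; exact hdx
      · exact congrArg Subtype.val (e.injective (Subtype.ext (h.trans hed.symm)))
    · intro y hy hQy
      have hxA : (α ⟨y, hy⟩ : G) ∈ A := (α _).2
      obtain ⟨n, hn, hnd⟩ := hnorm _ hxA (by rw [hα]; exact (hQiff y (base_le_cen T hy)).1 hQy)
      have hmapn : A.map (MulAut.conj n).toMonoidHom = A := by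
        refine Subgroup.eq_of_le_of_card_ge ?_ (le_of_eq (Subgroup.card_map_of_injective
          (f := (MulAut.conj n).toMonoidHom) (MulAut.conj n).injective).symm)
        rintro _ ⟨a, ha, rfl⟩
        exact (Subgroup.mem_normalizer_iff.1 hn a).1 ha
      let κ : A ≃* A := ((MulAut.conj n).subgroupMap A).trans (MulEquiv.subgroupCongr hmapn)
      let φ : base T ≃* base T := (α.trans κ).trans α.symm
      have hφ : ∀ z : base T, (α (φ z) : G) = n * (α z : G) * n⁻¹ := fun z => by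
        show ((α (α.symm (κ (α z))) : A) : G) = _
        rw [MulEquiv.apply_symm_apply]
        rfl
      refine ⟨φ, ?_, fun z => ?_⟩
      · have : α (φ ⟨d6 T, d6_mem T⟩) = α ⟨y, hy⟩ := Subtype.ext (by rw [hφ, hα, hgd, hnd])
        exact congrArg Subtype.val (α.injective this)
      · rw [hQiff _ (base_le_cen T z.2), hQiff _ (base_le_cen T (φ z).2), ← hα, ← hα, hφ]
        exact ⟨fun h => h.trans (isConj_iff.2 ⟨n, rfl⟩), fun h => h.trans (isConj_iff.2 ⟨n, rfl⟩).symm⟩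
  intro x
  obtain ⟨y, hy⟩ : ∃ y, y = e x := ⟨_, rfl⟩
  have hxy : g y = (x : G) := by
    show ((e.symm y : A0) : G) = x
    rw [hy, MulEquiv.symm_apply_apply]
  rw [← hxy, ← hy, ← hQiff (y : H) y.2]
  by_cases h2 : (y : H) * y = 1
  · obtain ⟨c, hc, hcb⟩ := involution_into_base T hD y.2 h2
    have hb := FromCent.base_members T Q hconj hsqQ hD hcount hcb
    have hD' : c * (y : H) * c⁻¹ ∈ D₀ ↔ (y : H) ∈ D₀ := by
      rw [← Set.ext_iff.1 T.class_eq, ← Set.ext_iff.1 T.class_eq]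
      exact ⟨fun h => h.trans (isConj_iff.2 ⟨c, rfl⟩).symm, fun h => h.trans (isConj_iff.2 ⟨c, rfl⟩)⟩
    rw [← hD', ← hb]
    refine ⟨hconj c hc _ y.2, fun h => ?_⟩
    have := hconj c⁻¹ (inv_mem hc) _ (base_le_cen T hcb) h
    simpa [mul_assoc] using this
  · exact ⟨fun h => absurd (hinvQ _ y.2 h) h2, fun h => absurd (by rw [← pow_two, ← hD.1 _ h, pow_orderOf_eq_one]) h2⟩

end Cfsg.Lib.Fi22Three.Local
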