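import Cfsg.Agent.Lib.Fi22Three.Inside
import Cfsg.Agent.Lib.Fi22Three.Local
import Cfsg.Agent.Lib.Fischer.FromCent.Class

/-!
# The class of a sign involution satisfies the hypotheses of the Fi₂₂ class
-/

set_option autoImplicit false
set_option linter.unusedSectionVars false
set_option linter.style.haveILetI false
set_option maxRecDepth 100000
set_option synthInstance.maxSize 4000

namespace Cfsg.Lib.Fi22Three.Base

open Subgroup
open Cfsg Cfsg.Lib.CosetEnum Cfsg.Lib.Fischer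
open Cfsg.Lib.CosetEnum.Fi22Cent (cen d6 seventh d6_mem_cen base_le_cen)
open Cfsg.Lib.CosetEnum.Fi22Two (gen)
open Cfsg.Lib.Fischer.Fi22Recog
open Cfsg.Lib.Fischer.Relations
open Model (U6)

variable {G : Type*} [Group G] [Finite G] {D : Data G} (B : Base D)

theorem orderOf_t : orderOf (D.t B.i) = 2 :=
  orderOf_eq_prime (by rw [pow_two, D.t_sq]) (D.t_ne_one _)

theorem U6_simple : IsSimpleGroup U6 :=
  Cfsg.Lib.Linear.Herm.psu_simple (q := 2) Model.hF (by norm_num)

theorem U6_center : center U6 = ⊥ := by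
  haveI := U6_simple
  refine ((inferInstance : (center U6).Normal).eq_bot_or_eq_top).resolve_right fun h => ?_
  letI : CommGroup U6 := { (inferInstance : Group U6) with mul_comm := fun a b => mem_center_iff.1 (h ▸ mem_top b) a }
  haveI := finite_U6
  have hp := IsSimpleGroup.prime_card (α := U6)
  rw [GF4.card_psu.1] at hp
  exact absurd hp (by norm_num)

/-- The inner half is perfect. -/
theorem perfect : commutator B.C0 = ⊤ := by
  haveI := U6_simple
  have hmap : (commutator B.C0).map B.p = ⊤ := by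
    rw [map_commutator_eq]
    have hr : B.p.range = ⊤ := MonoidHom.range_eq_top.2 B.surj
    rw [hr, ← commutator_def]
    refine ((inferInstance : Subgroup.Normal (commutator U6)).eq_bot_or_eq_top).resolve_left fun h => ?_
    rw [commutator_def, commutator_eq_bot_iff_le_centralizer, coe_top, centralizer_univ, U6_center] at h
    haveI := finite_U6
    have := Subgroup.card_le_of_le h
    rw [Subgroup.card_top, Subgroup.card_bot, GF4.card_psu.1] at this
    omega
  -- squares are commutators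
  have hdec : ∀ x : B.C0, ∃ c ∈ commutator B.C0, (x : G) = c ∨ (x : G) = c * D.t B.i := fun x => by
    obtain ⟨c, hc, hcx⟩ := (hmap ▸ mem_top (B.p x) : B.p x ∈ (commutator B.C0).map B.p)
    exact ⟨c, hc, B.eq_of_p hcx⟩
  have hsq : ∀ x : B.C0, x * x ∈ commutator B.C0 := fun x => by
    obtain ⟨c, hc, e⟩ := hdec x
    have hx : ((x * x : B.C0) : G) = ((c * c : B.C0) : G) := by
      rw [Subgroup.coe_mul, Subgroup.coe_mul]
      rcases e with e | e <;> rw [e]
      rw [mul_assoc, ← mul_assoc (D.t B.i), ← (B.cmem c.2).eq, mul_assoc (c : G) (D.t B.i), D.t_sq, mul_one]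
    rw [Subtype.ext hx]
    exact mul_mem hc hc
  obtain ⟨a, ha, b, hb, c, hc, e⟩ := D.t_squares B.i
  have hP := B.half.2.1
  have ht : (⟨D.t B.i, B.t_mem⟩ : B.C0) ∈ commutator B.C0 := by
    rw [show (⟨D.t B.i, B.t_mem⟩ : B.C0) = ⟨c, hP c hc⟩ * ⟨c, hP c hc⟩ * (⟨a, hP a ha⟩ * ⟨a, hP a ha⟩) *
      (⟨b, hP b hb⟩ * ⟨b, hP b hb⟩) from Subtype.ext e]
    exact mul_mem (mul_mem (hsq _) (hsq _)) (hsq _)
  refine eq_top_iff.2 fun x _ => ?_
  obtain ⟨c', hc', e'⟩ := hdec x
  rcases e' with e' | e'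
  · rwa [Subtype.ext e']
  · rw [show x = c' * ⟨D.t B.i, B.t_mem⟩ from Subtype.ext e']
    exact mul_mem hc' ht

theorem center_eq : center B.C0 = B.p.ker := by
  refine le_antisymm (fun x hx => ?_) fun x hx => mem_center_iff.2 fun g => Subtype.ext ?_
  · rw [MonoidHom.mem_ker, ← mem_bot, ← U6_center]
    refine mem_center_iff.2 fun u => ?_
    obtain ⟨y, rfl⟩ := B.surj u
    rw [← map_mul, ← map_mul, mem_center_iff.1 hx y]
  · rcases (B.ker x).1 hx with e | e <;> simp only [Subgroup.coe_mul, e]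
    · rw [one_mul, mul_one]
    · exact (B.cmem g.2).eq

theorem quasisimple : Cfsg.IsQuasisimple ↥B.C0 := by
  haveI := U6_simple
  refine ⟨Group.isPerfect_def.2 B.perfect, ?_⟩
  exact MulEquiv.isSimpleGroup ((QuotientGroup.quotientMulEquivOfEq B.center_eq).trans
    (QuotientGroup.quotientKerEquivOfSurjective B.p B.surj))

theorem eq_or_eq {w : G} (hw : Commute w (D.t B.i)) (h : ∀ x ∈ B.C0, Commute w x) : w = 1 ∨ w = D.t B.i := by
  refine B.faithful ⟨w, mem_centralizer_singleton_iff.2 hw.eq⟩ (MulEquiv.ext fun u => ?_)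
  obtain ⟨x, rfl⟩ := B.surj u
  rw [B.act_p]
  show B.p _ = B.p x
  congr 1
  exact Subtype.ext (mul_inv_eq_iff_eq_mul.2 (h x x.2).eq)

include B in
/-- The conjugates of the sign involution satisfy the hypotheses. -/
theorem exists_datum : ∃ (D₀ : Set Cfsg.Spor.Fi22) (a₀ : Cfsg.Spor.Fi22) (F : Type) (_ : Field F) (_ : Fintype F)
    (_ : Finite Cfsg.Spor.Fi22) (hF : Fintype.card F = 2 ^ 2),
    FromCent.Datum (conjugatesOf (D.t B.i)) D₀ a₀ hF := by
  classical
  haveI : Fact (Nat.Prime 5) := ⟨by norm_num⟩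
  obtain ⟨d, hd⟩ : ∃ d, d = D.t B.i := ⟨_, rfl⟩
  have hd2 : d * d = 1 := hd ▸ D.t_sq _
  have hd1 : d ≠ 1 := hd ▸ D.t_ne_one _
  have hdA : d ∈ B.C0 := hd ▸ B.t_mem
  have hA : ∀ x ∈ B.C0, Commute x d := fun x hx => hd ▸ B.cmem hx
  have hkerp : B.p.ker = Subgroup.zpowers (⟨d, hdA⟩ : B.C0) := by
    refine le_antisymm (fun x hx => ?_) (zpowers_le.2 (MonoidHom.mem_ker.2 ((B.ker _).2 (Or.inr hd))))
    rcases (B.ker x).1 hx with e | e
    · exact (Subtype.ext e : x = 1) ▸ one_mem _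
    · exact (Subtype.ext (e.trans hd.symm) : x = ⟨d, hdA⟩) ▸ mem_zpowers _
  obtain ⟨T₀, e₀, he₀⟩ := U62Double.exists_equiv_centralizer (F := GF4) rfl (d := (⟨d, hdA⟩ : B.C0)) B.p B.surj hkerp
    (mem_center_iff.2 fun u => Subtype.ext (hA u u.2).eq)
    (by rw [← Subgroup.orderOf_coe]; exact hd ▸ B.orderOf_t) B.perfect
  have hfin : Finite Cfsg.Spor.Fi22 := Nat.finite_of_card_ne_zero (by rw [T₀.card]; positivity)
  obtain ⟨T, hT⟩ := Fi22Cent.exists_seventh T₀
  obtain ⟨D₀, hD₀, hcls, hprim, htype⟩ := Fi22Type.fi22_type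
  subst hD₀
  let e₁ : B.C0 ≃* cen T := e₀.trans (MulEquiv.subgroupCongr (by rw [cen, hT]))
  have he₁ : ((e₁ ⟨d, hdA⟩ : cen T) : Cfsg.Spor.Fi22) = d6 T := he₀.trans hT.symm
  have hT₀ := trans_of_class hcls
  obtain ⟨F, i1, i2, hF, hS⟩ := m22_of_type ⟨hcls.1, hT₀.conj, hcls.2.2⟩ hprim htype
  obtain ⟨F', j1, j2, hF', c, ⟨C⟩⟩ := m22_coord hT₀ hprim htype
  have ha₀ := Fi22Cent.d6_mem_class T
  obtain ⟨h, hh⟩ := hT₀.trans c C.mem (d6 T) ha₀
  have himg : ∀ x, MulAut.conj h '' perp (conjugatesOf (Fi22Pres.numbering.gens Spor.Fi22.extra 0)) x =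
      perp (conjugatesOf (Fi22Pres.numbering.gens Spor.Fi22.extra 0)) (h * x * h⁻¹) := by
    intro x
    ext y
    constructor
    · rintro ⟨z, hz, rfl⟩
      exact conj_perp hS.fischer h x hz
    · intro hy
      refine ⟨h⁻¹ * y * h, ?_, by simp [mul_assoc]⟩
      have := conj_perp hS.fischer h⁻¹ _ hy
      simpa [mul_assoc] using this
  have hmodel : FromCent.Model (conjugatesOf (Fi22Pres.numbering.gens Spor.Fi22.extra 0)) (d6 T) hF := by
    refine ⟨hS, ha₀, ?_, fun s hs => ?_⟩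
    · rw [← hh, ← himg, Set.ncard_image_of_injective _ (MulAut.conj h).injective, ← Nat.card_coe_set_eq]
      exact C.card_perp
    · rw [← hh, ← himg] at hs
      obtain ⟨t, ht, rfl⟩ := hs
      rw [← hh, MulAut.conj_apply, ← himg, ← himg, ← Set.image_inter (MulAut.conj h).injective,
        Set.ncard_image_of_injective _ (MulAut.conj h).injective]
      have := C.card_common ht
      rwa [Nat.card_coe_set_eq] at this
  have h5 : 5 ∣ Nat.card (cen T) := by
    rw [← Nat.card_congr e₁.toEquiv, B.card_C0]; norm_num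
  have hgen : ∀ j (hj : j < 22), IsConj d (e₁.symm ⟨gen T j, Local.gen_cen T hj⟩ : G) ∨
      IsConj d ((e₁.symm ⟨gen T j, Local.gen_cen T hj⟩ : G) * d) := by
    intro j hj
    obtain ⟨u, hu⟩ : ∃ u, u = e₁.symm ⟨gen T j, Local.gen_cen T hj⟩ := ⟨_, rfl⟩
    rw [← hu]
    have hue : ((e₁ u : cen T) : Cfsg.Spor.Fi22) = gen T j := by rw [hu, MulEquiv.apply_symm_apply]
    by_cases hjs : j = seventh
    · refine Or.inl ?_
      rw [show u = ⟨d, hdA⟩ from e₁.injective (Subtype.ext (hue.trans (by rw [he₁, hjs]; rfl)))]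
    have hne := Local.gen_ne T hj hjs
    obtain ⟨y, hy, hy5, hby⟩ := Local.exists_five hmodel h5 (b := gen T j)
      ⟨FromCent.gen_mem_class T hj, hne,
        (Subgroup.mem_centralizer_singleton_iff.1 (Local.gen_cen T hj) : _ = _).symm⟩
    obtain ⟨w, hw⟩ := e₁.surjective ⟨y, hy⟩
    have hwu : Commute (u : G) w := by
      refine congrArg Subtype.val (e₁.injective (a₁ := u * w) (a₂ := w * u) (Subtype.ext ?_))
      rw [map_mul, map_mul, Subgroup.coe_mul, Subgroup.coe_mul, hue, hw]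
      exact hby.eq
    have hu2 : (u : G) * u = 1 := by
      refine congrArg Subtype.val (e₁.injective (a₁ := u * u) (a₂ := 1) (Subtype.ext ?_))
      rw [map_mul, map_one, Subgroup.coe_mul, hue, Fi22Two.gen_sq]; rfl
    have hw5 : orderOf (w : G) = 5 := by
      rw [Subgroup.orderOf_coe, ← e₁.orderOf_eq, hw, ← Subgroup.orderOf_coe, hy5]
    have hu1 : (u : G) ≠ 1 := fun e => by
      have : u = 1 := Subtype.ext e
      rw [this, map_one] at hue
      have h2 := hcls.1.1 _ (FromCent.gen_mem_class T hj)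
      rw [← hue, Subgroup.coe_one, orderOf_one] at h2
      omega
    rw [hd]
    exact B.lift_D u.2 hu2 hu1 (fun e => hne (by
      rw [← hue, show u = ⟨d, hdA⟩ from Subtype.ext (e.trans hd.symm), he₁])) (B.le w.2) hw5 hwu
  have hiff := Local.class_iff T B.C0 hcls.1 hd2 hdA hA e₁ he₁
    (fun g hg => B.sq_ne (c := g) (Subgroup.mem_centralizer_singleton_iff.2 (by
      rw [← hd, ← hg]; exact mul_assoc g g g ▸ rfl)) (hg.trans hd))
    (fun x hx hdx => B.mem_of_conj (Subgroup.mem_centralizer_singleton_iff.2 (hd ▸ hx.eq)) (hd ▸ hdx))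
    hgen ⟨D.t B.j, B.half.1 _, hd ▸ D.t_conj _ _, fun e => by
      have h' := congrFun (congrArg D.mat (e.trans hd)) B.i
      rw [D.mat_t, D.mat_t, if_pos rfl, if_neg B.ji.symm] at h'
      exact absurd h' (by decide +kernel)⟩
  let φ : G → Cfsg.Spor.Fi22 := fun x => if hx : x ∈ B.C0 then ((e₁ ⟨x, hx⟩ : cen T) : Cfsg.Spor.Fi22) else 1
  have hφ : ∀ x (hx : x ∈ B.C0), φ x = ((e₁ ⟨x, hx⟩ : cen T) : Cfsg.Spor.Fi22) := fun x hx => dif_pos hx
  rw [← hd]
  refine ⟨_, d6 T, F, i1, i2, hfin, hF, ⟨hmodel, ⟨d, mem_conjugatesOf_self⟩, fun a ha => ?_, fun a ha => ?_,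
    fun g a ha => ha.trans (isConj_iff.2 ⟨g, rfl⟩), fun a ha b hb => isConj_iff.1 ((IsConj.symm ha).trans hb),
    fun a ha => ?_⟩⟩
  · obtain ⟨g, rfl⟩ := isConj_iff.1 ha
    rw [conj_sq, hd2, mul_one, mul_inv_cancel]
  · obtain ⟨g, rfl⟩ := isConj_iff.1 ha
    exact fun h => hd1 (conj_eq_one_iff.1 h)
  obtain ⟨g, rfl⟩ := isConj_iff.1 ha
  obtain ⟨A, hAdef⟩ : ∃ A, A = B.C0.map (MulAut.conj g).toMonoidHom := ⟨_, rfl⟩
  have hmem : ∀ x, x ∈ A ↔ g⁻¹ * x * g ∈ B.C0 := fun x => by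
    rw [hAdef, Subgroup.mem_map_equiv, MulAut.conj_symm_apply]
  have hback : ∀ x, Commute (g⁻¹ * x * g) d ↔ Commute x (g * d * g⁻¹) := fun x => by
    rw [← Commute.conj_iff (a := g⁻¹ * x * g) g, show g * (g⁻¹ * x * g) * g⁻¹ = x by group]
  let L : FromCent.Loc (conjugatesOf d) _ (d6 T) (g * d * g⁻¹) A :=
    { φ := fun x => φ (g⁻¹ * x * g)
      le := fun x hx => (hback x).1 (hA _ ((hmem x).1 hx))
      self_mem := (hmem _).2 (by rw [show g⁻¹ * (g * d * g⁻¹) * g = d by group]; exact hdA)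
      perp_le := fun x hxD hx => (hmem x).2 (B.mem_of_conj
        (Subgroup.mem_centralizer_singleton_iff.2 (hd ▸ ((hback x).2 hx).eq))
        (hd ▸ (IsConj.trans hxD (isConj_iff.2 ⟨g⁻¹, by group⟩) : IsConj d (g⁻¹ * x * g))))
      map_mul := fun x y hx hy => by
        show φ (g⁻¹ * (x * y) * g) = φ (g⁻¹ * x * g) * φ (g⁻¹ * y * g)
        have hx' := (hmem x).1 hx
        have hy' := (hmem y).1 hy
        rw [show g⁻¹ * (x * y) * g = (g⁻¹ * x * g) * (g⁻¹ * y * g) by group,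
          hφ _ (mul_mem hx' hy'), hφ _ hx', hφ _ hy', ← Subgroup.coe_mul, ← map_mul]
        rfl
      inj := fun x y hx hy hxy => by
        simp only [hφ _ ((hmem x).1 hx), hφ _ ((hmem y).1 hy)] at hxy
        have := congrArg Subtype.val (e₁.injective (Subtype.ext hxy))
        exact mul_left_cancel (mul_right_cancel this)
      mem := fun x hx => by
        simp only [hφ _ ((hmem x).1 hx)]
        exact Subgroup.mem_centralizer_singleton_iff.1 (e₁ _).2
      surj := fun y hy => by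
        obtain ⟨z, hz⟩ := e₁.surjective ⟨y, Subgroup.mem_centralizer_singleton_iff.2 hy⟩
        have hz' : g⁻¹ * (g * (z : G) * g⁻¹) * g = z := by group
        refine ⟨g * z * g⁻¹, (hmem _).2 (by rw [hz']; exact z.2), ?_⟩
        show φ (g⁻¹ * (g * z * g⁻¹) * g) = y
        rw [hz', hφ _ z.2]
        exact congrArg Subtype.val hz
      base := by
        show φ (g⁻¹ * (g * d * g⁻¹) * g) = d6 T
        rw [show g⁻¹ * (g * d * g⁻¹) * g = d by group, hφ d hdA]
        exact he₁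
      class_iff := fun x hx => by
        have h1 := hiff ⟨g⁻¹ * x * g, (hmem x).1 hx⟩
        show IsConj d x ↔ φ (g⁻¹ * x * g) ∈ _
        rw [hφ _ ((hmem x).1 hx)]
        refine Iff.trans ⟨fun h => h.trans (isConj_iff.2 ⟨g⁻¹, by group⟩),
          fun h => h.trans (isConj_iff.2 ⟨g, by group⟩)⟩ h1 }
  refine ⟨A, Cfsg.Lib.Core.quasisimple_congr B.quasisimple
    (((MulAut.conj g).subgroupMap _).trans (MulEquiv.subgroupCongr hAdef.symm)), fun z hz hc => ?_, ⟨L⟩⟩
  rcases B.eq_or_eq (w := g⁻¹ * z * g) (hd ▸ (hback z).2 hz) fun x hx => by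
      have := (Commute.conj_iff g⁻¹).2 (hc (g * x * g⁻¹)
        ((hmem _).2 (by rw [show g⁻¹ * (g * x * g⁻¹) * g = x by group]; exact hx)))
      simpa [mul_assoc] using this with e | e
  · left; rw [show z = g * (g⁻¹ * z * g) * g⁻¹ by group, e]; group
  · right; rw [show z = g * (g⁻¹ * z * g) * g⁻¹ by group, e, hd]

end Cfsg.Lib.Fi22Three.Base
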