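import Cfsg.Agent.Lib.Fi22Three.Base

/-!
# The conjugates of a sign involution in its centraliser lie in the inner half
-/

set_option autoImplicit false
set_option linter.unusedSectionVars false
set_option linter.style.haveILetI false
set_option maxRecDepth 4000
set_option synthInstance.maxSize 4000

namespace Cfsg.Lib.Fi22Three

open Subgroup
open Model (U6 Central3)

theorem conj_sq {G : Type*} [Group G] (a x : G) : a * x * a⁻¹ * (a * x * a⁻¹) = a * (x * x) * a⁻¹ := by group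

namespace Base

variable {G : Type*} [Group G] [Finite G] {D : Data G} (B : Base D)

/-- The sign involution. -/
local notation "τ" => D.t B.i

/-- An element outside the inner half commuting with `z` exchanges two planes. -/
theorem outer_swap {c : G} (hc : c ∈ D.Ct B.i) (hc0 : c ∉ B.C0) (hcz : Commute c D.z) :
    ∃ j k, j ≠ B.i ∧ k ≠ B.i ∧ j ≠ k ∧ D.per c j = k := by
  have hct : Commute c τ := mem_centralizer_singleton_iff.1 hc
  have hi := D.per_of_commute hcz hct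
  by_contra hcon
  push Not at hcon
  refine hc0 (B.half.2.2.2 c ⟨hcz, fun l => ?_⟩ hct)
  rcases eq_or_ne l B.i with rfl | hl
  · exact hi
  · by_contra hne
    exact hcon l (D.per c l) hl (fun e => hl (D.per_injective hcz (e.trans hi.symm))) (Ne.symm hne) rfl

theorem not_conj_outer {c : G} (hc : c ∈ D.Ct B.i) (hc0 : c ∉ B.C0) (hcz : Commute c D.z) (h2 : c * c = 1) :
    ¬ IsConj τ c := by
  obtain ⟨j, k, hj, hk, hjk, e⟩ := B.outer_swap hc hc0 hcz
  exact D.not_conj_swap hcz h2 hjk hj.symm hk.symm e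

theorem sq_outer {c : G} (hc : c ∈ D.Ct B.i) (hc0 : c ∉ B.C0) (hcz : Commute c D.z) : c * c ≠ τ := fun h => by
  obtain ⟨j, k, hj, hk, hjk, e⟩ := B.outer_swap hc hc0 hcz
  exact D.not_swap_sq hcz h hj hk hjk e

theorem act_t : B.act ⟨τ, B.le B.t_mem⟩ = 1 := by
  rw [show (⟨τ, B.le B.t_mem⟩ : D.Ct B.i) = ⟨((⟨τ, B.t_mem⟩ : B.C0) : G), B.le B.t_mem⟩ from rfl, B.act_inner,
    (B.ker _).2 (Or.inr rfl), map_one]

theorem act_sq_one {c : D.Ct B.i} (h : (c : G) * c = 1 ∨ (c : G) * c = τ) : B.act c * B.act c = 1 := by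
  rw [← map_mul]
  rcases h with h | h
  · rw [show c * c = 1 from Subtype.ext h, map_one]
  · rw [show c * c = ⟨τ, B.le B.t_mem⟩ from Subtype.ext h, B.act_t]

/-- What fixes the image of an element of odd order commutes with it. -/
theorem commute_of_fix {c : D.Ct B.i} {x : B.C0} {n : ℕ} (hn : Odd n) (hx : (x : G) ^ n = 1)
    (h : B.act c (B.p x) = B.p x) : Commute (c : G) x := by
  rw [B.act_p] at h
  have := B.odd_unique h hn (by show ((c : G) * x * (c : G)⁻¹) ^ n = 1; rw [conj_pow, hx, mul_one, mul_inv_cancel]) hx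
  exact mul_inv_eq_iff_eq_mul.1 (congrArg Subtype.val this)

/-- A central element of order three is conjugate to `z` up to inversion. -/
theorem central_conj {r : U6} (hr : Central3 r) :
    ∃ x : B.C0, B.p x = r ∧ (x : G) ^ 3 = 1 ∧ ∃ a ∈ B.C0, a * x * a⁻¹ = D.z ∨ a * x * a⁻¹ = D.z⁻¹ := by
  classical
  haveI : Fact (Nat.Prime 3) := ⟨Nat.prime_three⟩
  haveI := finite_U6
  have hr3 : r ^ 3 = 1 := hr.1 ▸ pow_orderOf_eq_one r
  obtain ⟨x, hx, hx3⟩ := B.odd_lift r (by decide : Odd 3) hr3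
  refine ⟨x, hx, hx3, ?_⟩
  obtain ⟨P, hP⟩ := Sylow.exists_subgroup_card_pow_prime (G := centralizer ({r} : Set U6)) 3 (n := 6)
    (by rw [show (3 : ℕ) ^ 6 = 729 from rfl]; exact hr.2)
  obtain ⟨M, hM⟩ : ∃ M, M = (P.map (centralizer ({r} : Set U6)).subtype).comap B.p := ⟨_, rfl⟩
  have hMc : ∀ m ∈ M, ∀ k : ℕ, (m : G) ^ 3 ^ k = 1 → Commute (m : G) x := by
    intro m hm k _
    obtain ⟨w, -, hw⟩ := (mem_comap.1 (hM ▸ hm) : B.p m ∈ _)
    refine B.commute_of_fix (c := ⟨m, B.le m.2⟩) (by decide : Odd 3) hx3 ?_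
    rw [B.act_inner, MulAut.conj_apply, hx, ← hw]
    exact mul_inv_eq_iff_eq_mul.2 (mem_centralizer_singleton_iff.1 w.2)
  obtain ⟨S⟩ : Nonempty (Sylow 3 M) := inferInstance
  have hMcard : 729 ∣ Nat.card M := by
    have hsurj : Function.Surjective ((B.p.comp M.subtype).codRestrict (P.map (centralizer ({r} : Set U6)).subtype)
        fun m => mem_comap.1 (hM ▸ m.2)) := fun y => by
      obtain ⟨v, hv⟩ := B.surj y
      exact ⟨⟨v, by rw [hM, mem_comap, hv]; exact y.2⟩, Subtype.ext hv⟩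
    have h := Subgroup.card_dvd_of_surjective _ hsurj
    rwa [card_map_of_injective (centralizer ({r} : Set U6)).subtype_injective, hP] at h
  obtain ⟨T, hT, hle, hTc⟩ := B.exists_top
  have hT0 : CentTop B.C0 D.z T :=
    ⟨hT.three, hle, hT.le_cent, hT.order, hT.mem, hT.centre, fun T' hp h1 h2 h3 => hT.max T' hp h1 (h2.trans B.le) h3⟩
  obtain ⟨P₀, hP₀⟩ := hT0.sylow
  let N : Subgroup B.C0 := (S : Subgroup M).map M.subtype
  have hN : IsPGroup 3 N := S.isPGroup'.map _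
  have hxz : IsPGroup 3 (zpowers x) := fun w => by
    obtain ⟨n, hn⟩ := mem_zpowers_iff.1 w.2
    refine ⟨1, Subtype.ext ?_⟩
    rw [SubmonoidClass.coe_pow, pow_one, ← hn, ← zpow_natCast, ← zpow_mul, mul_comm, zpow_mul, zpow_natCast,
      show x ^ 3 = 1 from Subtype.ext hx3, one_zpow]
    rfl
  have hcomm : ∀ m ∈ N, Commute m x := by
    rintro _ ⟨m, hm, rfl⟩
    obtain ⟨k, hk⟩ := S.isPGroup' ⟨m, hm⟩
    exact Subtype.ext (hMc m m.2 k (congrArg (fun w : (S : Subgroup M) => (((w : M) : B.C0) : G)) hk))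
  have hnorm : zpowers x ≤ normalizer (N : Set B.C0) := by
    rw [zpowers_le, mem_normalizer_iff]
    intro m
    constructor
    · intro hm; rw [← (hcomm m hm).eq, mul_inv_cancel_right]; exact hm
    · intro hm
      have h := hcomm _ hm
      have h2 : x * m * x⁻¹ = m := by
        have e : x⁻¹ * (x * m * x⁻¹) * x = x * m * x⁻¹ := by rw [mul_assoc, h.eq, inv_mul_cancel_left]
        rw [← e]; group
      rwa [h2] at hm
  obtain ⟨R, hR⟩ := (hN.to_sup_of_normal_left' hxz hnorm).exists_le_sylow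
  have hRc : Nat.card R = 729 := by
    rw [Sylow.card_eq_multiplicity, ← P₀.card_eq_multiplicity, hP₀, Nat.card_congr (subgroupOfEquivOfLe hle).toEquiv, hTc]
  have hNc : 729 ≤ Nat.card N := by
    rw [card_map_of_injective M.subtype_injective]
    exact Nat.le_of_dvd Nat.card_pos (S.pow_dvd_card_of_pow_dvd_card (n := 6) hMcard)
  have hRN : N = R := Subgroup.eq_of_le_of_card_ge (le_sup_left.trans hR) (by rw [hRc]; exact hNc)
  have hxN : x ∈ N := by rw [hRN]; exact hR (mem_sup_right (mem_zpowers x))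
  obtain ⟨a, ha⟩ := MulAction.exists_smul_eq B.C0 R P₀
  have hconj : ∀ m : B.C0, m ∈ (R : Subgroup B.C0) ↔ ((a * m * a⁻¹ : B.C0) : G) ∈ T := fun m => by
    rw [← mem_subgroupOf (K := B.C0), ← hP₀, ← ha, Sylow.coe_subgroup_smul,
      Subgroup.mem_pointwise_smul_iff_inv_smul_mem]
    simp [MulAut.inv_apply, mul_assoc]
  refine ⟨a, a.2, eq_or_inv hT.order (hT.centre _ ((hconj x).1 (hRN ▸ hxN)) fun y hy => ?_) fun e => ?_⟩
  · have hm : (a⁻¹ * ⟨y, hle hy⟩ * a : B.C0) ∈ N := by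
      rw [hRN, hconj, show a * (a⁻¹ * ⟨y, hle hy⟩ * a) * a⁻¹ = (⟨y, hle hy⟩ : B.C0) by group]
      exact hy
    have := (Commute.conj_iff a).2 (hcomm _ hm)
    rw [show a * (a⁻¹ * ⟨y, hle hy⟩ * a) * a⁻¹ = (⟨y, hle hy⟩ : B.C0) by group] at this
    exact (congrArg Subtype.val this.eq).symm
  · have : r = 1 := by
      rw [← hx, show x = 1 from Subtype.ext (conj_eq_one_iff.1 e), map_one]
    simpa [this] using hr.1

/-- An outer element fixing a central element of order three has a conjugate commuting with `z`. -/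
theorem to_z {c : D.Ct B.i} (hc0 : (c : G) ∉ B.C0) {r : U6} (hr : Central3 r) (h : B.act c r = r) :
    ∃ a ∈ B.C0, a * c * a⁻¹ ∈ D.Ct B.i ∧ a * c * a⁻¹ ∉ B.C0 ∧ Commute (a * c * a⁻¹) D.z := by
  obtain ⟨x, rfl, hx3, a, ha, e⟩ := B.central_conj hr
  refine ⟨a, ha, mul_mem (mul_mem (B.le ha) c.2) (inv_mem (B.le ha)), fun hm => hc0 ?_, ?_⟩
  · have := B.norm _ (inv_mem (B.le ha)) _ hm
    simpa [mul_assoc] using this
  · have h1 := (Commute.conj_iff a).2 (B.commute_of_fix (by decide : Odd 3) hx3 h)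
    rcases e with e | e <;> rw [e] at h1
    · exact h1
    · exact inv_inv D.z ▸ h1.inv_right

theorem conj_t {a : G} (ha : a ∈ D.Ct B.i) : a * τ * a⁻¹ = τ := by
  rw [(show Commute a τ from mem_centralizer_singleton_iff.1 ha).eq, mul_inv_cancel_right]

theorem five_image {y : G} (hy : y ∈ D.Ct B.i) (h5 : orderOf y = 5) :
    orderOf (B.p ⟨y * y, B.sq_mem hy⟩) = 5 := by
  haveI : Fact (Nat.Prime 5) := ⟨by norm_num⟩
  have h : y ^ 5 = 1 := h5 ▸ pow_orderOf_eq_one y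
  refine orderOf_eq_prime ?_ fun e => ?_
  · rw [← map_pow, ← map_one B.p]
    congr 1
    refine Subtype.ext ?_
    show (y * y) ^ 5 = 1
    rw [(Commute.refl y).mul_pow, h, one_mul]
  · have h4 : y ^ 4 = 1 := by
      rw [show (4 : ℕ) = 2 * 2 from rfl, pow_mul, pow_two y, pow_two]
      rcases (B.ker _).1 e with e' | e' <;> change y * y = _ at e' <;> rw [e']
      · exact one_mul 1
      · exact D.t_sq _
    have := orderOf_dvd_of_pow_eq_one h4
    rw [h5] at this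
    norm_num at this

theorem p_invol {x : B.C0} (hx : (x : G) * x = 1) : B.p x * B.p x = 1 := by
  rw [← map_mul, show x * x = 1 from Subtype.ext hx, map_one]

/-- An involution commuting with an element of order five is a lift of a transvection. -/
theorem trans_lift {x y : G} (hx : x ∈ B.C0) (hx2 : x * x = 1) (hx1 : x ≠ 1) (hxt : x ≠ τ) (hy : y ∈ D.Ct B.i)
    (h5 : orderOf y = 5) (hxy : Commute x y) :
    ∃ a ∈ B.C0, a * x * a⁻¹ = D.t B.j ∨ a * x * a⁻¹ = D.t B.j * τ := by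
  have htj := B.half.1 B.j
  obtain ⟨w, hw5, hwc⟩ := B.five
  have hwj : (D.inC B.i ⟨D.t B.j, D.t_mem B.j⟩ : D.Ct B.i) = ⟨D.t B.j, B.le htj⟩ := rfl
  rw [hwj, show (⟨D.t B.j, B.le htj⟩ : D.Ct B.i) = ⟨((⟨D.t B.j, htj⟩ : B.C0) : G), B.le htj⟩ from rfl,
    B.act_inner] at hwc
  have hw2 : B.act w * B.act w = MulAut.conj (B.p ⟨(w : G) * w, B.sq_mem w.2⟩) := by
    rw [← map_mul]; exact B.act_inner ⟨(w : G) * w, B.sq_mem w.2⟩
  have hw5' : orderOf (B.p ⟨(w : G) * w, B.sq_mem w.2⟩) = 5 := by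
    rw [← orderOf_injective MulAut.conj B.conj_injective, ← hw2, ← pow_two, Nat.Coprime.orderOf_pow (by rw [hw5]; norm_num), hw5]
  have hjc : Commute (B.p ⟨D.t B.j, htj⟩) (B.p ⟨(w : G) * w, B.sq_mem w.2⟩) := by
    refine B.conj_injective ?_
    rw [map_mul, map_mul, ← hw2]
    exact (hwc.symm.mul_right hwc.symm).eq
  have hne : ∀ (z : B.C0), (z : G) ≠ 1 → (z : G) ≠ τ → B.p z ≠ 1 := fun z h1 h2 e =>
    ((B.ker z).1 e).elim h1 h2
  have hj1 : B.p ⟨D.t B.j, htj⟩ ≠ 1 := hne _ (D.t_ne_one _) fun e => by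
    have := congrFun (congrArg D.mat (show D.t B.j = τ from e)) B.i
    rw [D.mat_t, D.mat_t, if_pos rfl, if_neg B.ji.symm] at this
    exact absurd this (by decide +kernel)
  obtain ⟨u, hu⟩ := isConj_iff.1 (Model.five_conj (a := B.p ⟨x, hx⟩) (b := B.p ⟨D.t B.j, htj⟩) (B.five_image hy h5) hw5'
    (B.p_invol hx2) (hne _ hx1 hxt) (B.p_invol (D.t_sq _)) hj1
    ((show Commute (⟨x, hx⟩ : B.C0) ⟨y * y, B.sq_mem hy⟩ from Subtype.ext (hxy.mul_right hxy).eq).map B.p) hjc)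
  obtain ⟨a, rfl⟩ := B.surj u
  refine ⟨a, a.2, ?_⟩
  rw [← map_inv, ← map_mul, ← map_mul] at hu
  rcases B.eq_of_p hu.symm with e | e
  · exact Or.inl e
  · exact Or.inr e

theorem not_both {x : G} (hx : x ∈ B.C0) (hx2 : x * x = 1) (hx1 : x ≠ 1) (hxt : x ≠ τ) {y : G} (hy : y ∈ D.Ct B.i)
    (h5 : orderOf y = 5) (hxy : Commute x y) (h1 : IsConj τ x) (h2 : IsConj τ (x * τ)) : False := by
  obtain ⟨a, ha, e | e⟩ := B.trans_lift hx hx2 hx1 hxt hy h5 hxy
  · refine D.not_conj_pair (i := B.j) (j := B.i) (k := B.i) B.ji (h2.trans (isConj_iff.2 ⟨a, ?_⟩))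
    rw [show a * (x * τ) * a⁻¹ = a * x * a⁻¹ * (a * τ * a⁻¹) by group, e, B.conj_t (B.le ha)]
  · exact D.not_conj_pair (i := B.j) (j := B.i) (k := B.i) B.ji (h1.trans (isConj_iff.2 ⟨a, e⟩))

theorem lift_D {x : G} (hx : x ∈ B.C0) (hx2 : x * x = 1) (hx1 : x ≠ 1) (hxt : x ≠ τ) {y : G} (hy : y ∈ D.Ct B.i)
    (h5 : orderOf y = 5) (hxy : Commute x y) : IsConj τ x ∨ IsConj τ (x * τ) := by
  obtain ⟨a, ha, e | e⟩ := B.trans_lift hx hx2 hx1 hxt hy h5 hxy
  · exact Or.inl ((D.t_conj B.i B.j).trans (isConj_iff.2 ⟨a, e⟩).symm)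
  · refine Or.inr ((D.t_conj B.i B.j).trans (isConj_iff.2 ⟨a, ?_⟩).symm)
    rw [show a * (x * τ) * a⁻¹ = a * x * a⁻¹ * (a * τ * a⁻¹) by group, e, B.conj_t (B.le ha), mul_assoc, D.t_sq,
      mul_one]

/-- The lift in the class of a transvection with the element of order five. -/
theorem exists_lift_trans {T y : U6} (hT : T * T = 1) (hT1 : T ≠ 1) (hy : orderOf y = 5) (hTy : Commute T y) :
    ∃ (d e : B.C0), B.p d = T ∧ B.p e = y ∧ (d : G) * d = 1 ∧ orderOf (e : G) = 5 ∧ IsConj τ (d : G) ∧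
      Commute (d : G) e ∧ ∀ c : D.Ct B.i, (B.act c T = T → Commute (c : G) d) ∧ (B.act c y = y → Commute (c : G) e) := by
  obtain ⟨d, rfl⟩ := B.surj T
  have hd2 : (d : G) * d = 1 := B.lift_invol d hT
  obtain ⟨e, rfl, he⟩ := B.odd_lift y (by decide : Odd 5) (hy ▸ pow_orderOf_eq_one y)
  haveI : Fact (Nat.Prime 5) := ⟨by norm_num⟩
  have he5 : orderOf (e : G) = 5 := orderOf_eq_prime he fun h => by
    rw [show e = 1 from Subtype.ext h, map_one, orderOf_one] at hy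
    omega
  have hde : Commute (d : G) e := by
    refine B.commute_of_fix (c := ⟨d, B.le d.2⟩) (by decide : Odd 5) he ?_
    rw [B.act_inner, MulAut.conj_apply, hTy.eq, mul_inv_cancel_right]
  have hd1 : (d : G) ≠ 1 := fun h => hT1 ((B.ker d).2 (Or.inl h))
  have hdt : (d : G) ≠ τ := fun h => hT1 ((B.ker d).2 (Or.inr h))
  have hdt' : Commute τ (e : G) := (B.cmem e.2).symm
  obtain ⟨d', hd'p, hd'2, hd'c, hd'e⟩ : ∃ d' : B.C0, B.p d' = B.p d ∧ (d' : G) * d' = 1 ∧ IsConj τ (d' : G) ∧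
      Commute (d' : G) e := by
    rcases B.lift_D d.2 hd2 hd1 hdt (B.le e.2) he5 hde with h | h
    · exact ⟨d, rfl, hd2, h, hde⟩
    · refine ⟨d * ⟨τ, B.t_mem⟩, by rw [map_mul, (B.ker ⟨τ, B.t_mem⟩).2 (Or.inr rfl), mul_one], ?_, h, hde.mul_left hdt'⟩
      show (d : G) * τ * ((d : G) * τ) = 1
      rw [mul_assoc, ← mul_assoc τ, ← (B.cmem d.2).eq, mul_assoc, D.t_sq, mul_one, hd2]
  refine ⟨d', e, hd'p, rfl, hd'2, he5, hd'c, hd'e, fun c => ⟨fun h => ?_, B.commute_of_fix (by decide : Odd 5) he⟩⟩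
  rw [← hd'p, B.act_p] at h
  rcases B.eq_of_p h.symm with h' | h'
  · exact mul_inv_eq_iff_eq_mul.1 h'
  · exfalso
    refine B.not_both d'.2 hd'2 (fun h1 => hT1 (hd'p ▸ (B.ker d').2 (Or.inl h1)))
      (fun h1 => hT1 (hd'p ▸ (B.ker d').2 (Or.inr h1))) (B.le e.2) he5 hd'e hd'c ?_
    rw [← show (c : G) * d' * (c : G)⁻¹ = (d' : G) * τ from h']
    exact hd'c.trans (isConj_iff.2 ⟨c, rfl⟩)

theorem outer_not_inner {c : D.Ct B.i} (h : (c : G) ∉ B.C0) : ∀ x : U6, MulAut.conj x ≠ B.act c :=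
  fun x hx => h ((B.mem_iff c).2 ⟨x, hx⟩)

theorem act_fix_mul {c : D.Ct B.i} {d : B.C0} {r : U6} (hT : B.p d * B.p d = 1)
    (hr : B.act c r = B.p d * r * B.p d) : B.act (⟨d, B.le d.2⟩ * c) r = r := by
  rw [map_mul, MulAut.mul_apply, hr, B.act_inner, MulAut.conj_apply, inv_eq_of_mul_eq_one_right hT,
    show B.p d * (B.p d * r * B.p d) * B.p d = B.p d * B.p d * r * (B.p d * B.p d) by simp only [mul_assoc], hT, one_mul,
    mul_one]

/-- The sign involution is no square. -/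
theorem sq_ne {c : G} (hc : c ∈ D.Ct B.i) : c * c ≠ τ := by
  intro h
  by_cases hc0 : c ∈ B.C0
  · have hp : B.p ⟨c, hc0⟩ * B.p ⟨c, hc0⟩ = 1 := by rw [← map_mul]; exact (B.ker _).2 (Or.inr h)
    exact D.t_ne_one _ (h.symm.trans (B.lift_invol ⟨c, hc0⟩ hp))
  obtain ⟨C, rfl⟩ : ∃ C : D.Ct B.i, (C : G) = c := ⟨⟨c, hc⟩, rfl⟩
  have fin : ∀ (b : D.Ct B.i), (b : G) ∉ B.C0 → (b : G) * b = τ → ∀ r, Central3 r → B.act b r = r → False := by
    intro b hb hb2 r hr hfix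
    obtain ⟨a, ha, hac, hac0, hacz⟩ := B.to_z hb hr hfix
    exact B.sq_outer hac hac0 hacz (by rw [conj_sq, hb2, B.conj_t (B.le ha)])
  rcases Model.outer_cases (B.act C) (B.act_sq_one (Or.inr h)) (B.outer_not_inner hc0) with
    ⟨r, hr, hfix⟩ | ⟨T, y, r, hT, hT1, hy, hTy, hcT, -, hr, hcr⟩
  · exact fin C hc0 h r hr hfix
  · obtain ⟨d, e, rfl, -, hd2, -, -, -, hcomm⟩ := B.exists_lift_trans hT hT1 hy hTy
    have hdc : Commute (C : G) d := (hcomm C).1 hcT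
    refine fin (⟨d, B.le d.2⟩ * C) (fun hm => hc0 ?_) ?_ r hr (B.act_fix_mul hT hcr)
    · have := mul_mem (inv_mem d.2) hm
      simpa using this
    · show (d : G) * C * ((d : G) * C) = τ
      rw [hdc.mul_mul_mul_comm, hd2, one_mul, h]

/-- A conjugate of the sign involution commuting with it lies in the inner half. -/
theorem mem_of_conj {x : G} (hx : x ∈ D.Ct B.i) (hd : IsConj τ x) : x ∈ B.C0 := by
  by_contra hx0
  obtain ⟨g, hg⟩ := isConj_iff.1 hd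
  have hx2 : x * x = 1 := by rw [← hg, conj_sq, D.t_sq, mul_one, mul_inv_cancel]
  obtain ⟨X, rfl⟩ : ∃ X : D.Ct B.i, (X : G) = x := ⟨⟨x, hx⟩, rfl⟩
  have fin : ∀ (b : D.Ct B.i), (b : G) ∉ B.C0 → (b : G) * b = 1 → ∀ r, Central3 r → B.act b r = r →
      ¬ IsConj τ (b : G) := by
    intro b hb hb2 r hr hfix hdb
    obtain ⟨a, ha, hac, hac0, hacz⟩ := B.to_z hb hr hfix
    exact B.not_conj_outer hac hac0 hacz (by rw [conj_sq, hb2, mul_one, mul_inv_cancel])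
      (hdb.trans (isConj_iff.2 ⟨a, rfl⟩))
  rcases Model.outer_cases (B.act X) (B.act_sq_one (Or.inl hx2)) (B.outer_not_inner hx0) with
    ⟨r, hr, hfix⟩ | ⟨T, y, r, hT, hT1, hy, hTy, hxT, hxy, hr, hxr⟩
  · exact fin X hx0 hx2 r hr hfix hd
  obtain ⟨d, e, rfl, rfl, hd2, he5, hdD, hde, hcomm⟩ := B.exists_lift_trans hT hT1 hy hTy
  have hXd : Commute (X : G) d := (hcomm X).1 hxT
  have hXe : Commute (X : G) e := (hcomm X).2 hxy
  have hXt : Commute (X : G) τ := mem_centralizer_singleton_iff.1 X.2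
  have hdt : Commute (d : G) τ := B.cmem d.2
  have het : Commute (e : G) τ := B.cmem e.2
  have hd1 : (d : G) ≠ 1 := fun h => hT1 ((B.ker d).2 (Or.inl h))
  have hdne : (d : G) ≠ τ := fun h => hT1 ((B.ker d).2 (Or.inr h))
  have hdx : ¬ IsConj τ ((d : G) * τ * X) := by
    refine fin (⟨d, B.le d.2⟩ * ⟨τ, B.le B.t_mem⟩ * X) (fun hm => hx0 ?_) ?_ r hr ?_
    · have := mul_mem (inv_mem (mul_mem d.2 B.t_mem)) hm
      simpa [mul_assoc] using this
    · show (d : G) * τ * X * ((d : G) * τ * X) = 1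
      rw [(hXd.mul_right hXt).mul_mul_mul_comm, hx2, mul_one, hdt.symm.mul_mul_mul_comm, hd2, D.t_sq, one_mul]
    · rw [map_mul, map_mul, B.act_t, mul_one, ← map_mul]
      exact B.act_fix_mul hT hxr
  -- pull back along `g`
  obtain ⟨t', ht'⟩ : ∃ t', t' = g⁻¹ * τ * g := ⟨_, rfl⟩
  obtain ⟨u', hu'⟩ : ∃ u', u' = g⁻¹ * d * g := ⟨_, rfl⟩
  obtain ⟨y', hy'⟩ : ∃ y', y' = g⁻¹ * e * g := ⟨_, rfl⟩
  have pull : ∀ w : G, Commute w (X : G) → g⁻¹ * w * g ∈ D.Ct B.i := fun w hw => by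
    refine mem_centralizer_singleton_iff.2 ((Commute.conj_iff g).1 ?_).eq
    rw [hg, show g * (g⁻¹ * w * g) * g⁻¹ = w by group]
    exact hw
  have cpull : ∀ v w : G, Commute v w → Commute (g⁻¹ * v * g) (g⁻¹ * w * g) := fun v w h => by
    simpa using (Commute.conj_iff g⁻¹).2 h
  have ht'C : t' ∈ D.Ct B.i := ht' ▸ pull _ hXt.symm
  have hu'C : u' ∈ D.Ct B.i := hu' ▸ pull _ hXd.symm
  have hy'C : y' ∈ D.Ct B.i := hy' ▸ pull _ hXe.symm
  have hy'5 : orderOf y' = 5 := by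
    have h := MulEquiv.orderOf_eq (MulAut.conj g⁻¹) (e : G)
    rw [MulAut.conj_apply, inv_inv] at h
    rw [hy', h, he5]
  have ht'2 : t' * t' = 1 := by
    rw [ht', show g⁻¹ * τ * g * (g⁻¹ * τ * g) = g⁻¹ * (τ * τ) * g by group, D.t_sq]; group
  have hu'2 : u' * u' = 1 := by
    rw [hu', show g⁻¹ * (d : G) * g * (g⁻¹ * (d : G) * g) = g⁻¹ * ((d : G) * d) * g by group, hd2]; group
  have hconjD : ∀ w, IsConj τ w → IsConj τ (g⁻¹ * w * g) := fun w hw =>
    hw.trans (isConj_iff.2 ⟨g⁻¹, by rw [inv_inv]⟩)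
  have hback : ∀ {w v : G}, g⁻¹ * w * g = v → w = g * v * g⁻¹ := fun h => by rw [← h]; group
  have hxne : (X : G) ≠ τ := fun h => hx0 (h ▸ B.t_mem)
  obtain ⟨s, -, hsj, k, hki, hsi⟩ := D.exists_shift B.ji
  have hkne : D.t k ≠ 1 ∧ D.t k ≠ τ := ⟨D.t_ne_one k, fun h => by
    have h' := congrFun (congrArg D.mat h) B.i
    rw [D.mat_t, D.mat_t, if_pos rfl, if_neg hki.symm] at h'
    exact absurd h' (by decide +kernel)⟩
  have getj : ∀ {w a : G}, a ∈ B.C0 → IsConj τ w → (a * w * a⁻¹ = D.t B.j ∨ a * w * a⁻¹ = D.t B.j * τ) →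
      a * w * a⁻¹ = D.t B.j := fun ha hw he' => he'.resolve_right fun e' =>
    D.not_conj_pair (i := B.j) (j := B.i) (k := B.i) B.ji (hw.trans (isConj_iff.2 ⟨_, e'⟩))
  by_cases ht0 : t' ∈ B.C0
  · obtain ⟨a, ha, hae⟩ := B.trans_lift ht0 ht'2 (fun h => D.t_ne_one B.i (by rw [hback (ht'.symm.trans h)]; group))
      (fun h => hxne (by rw [hback (ht'.symm.trans h), hg])) hy'C hy'5 (by rw [ht', hy']; exact cpull _ _ het.symm)
    have hj := getj ha (ht' ▸ hconjD _ (IsConj.refl _)) hae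
    have hat := B.conj_t (B.le ha)
    obtain ⟨h, hh⟩ : ∃ h, h = s * a * g⁻¹ := ⟨_, rfl⟩
    have h1 : h * τ * h⁻¹ = τ := by
      rw [hh, show s * a * g⁻¹ * τ * (s * a * g⁻¹)⁻¹ = s * (a * (g⁻¹ * τ * g) * a⁻¹) * s⁻¹ by group, ← ht', hj, hsj]
    have h2 : h * X * h⁻¹ = D.t k := by
      rw [hh, show s * a * g⁻¹ * X * (s * a * g⁻¹)⁻¹ = s * (a * (g⁻¹ * X * g) * a⁻¹) * s⁻¹ by group,
        show g⁻¹ * (X : G) * g = τ by rw [← hg]; group, hat, hsi]
    refine hx0 ?_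
    have hhC : h ∈ D.Ct B.i := mem_centralizer_singleton_iff.2 (mul_inv_eq_iff_eq_mul.1 h1)
    have := B.norm _ (inv_mem hhC) _ (B.half.1 k)
    rwa [← h2, inv_inv, show h⁻¹ * (h * X * h⁻¹) * h = (X : G) by group] at this
  by_cases hu0 : u' ∈ B.C0
  · obtain ⟨a, ha, hae⟩ := B.trans_lift hu0 hu'2 (fun h => hd1 (by rw [hback (hu'.symm.trans h)]; group))
      (fun h => hx0 (by rw [show (X : G) = d by rw [hback (hu'.symm.trans h), hg]]; exact d.2)) hy'C hy'5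
      (by rw [hu', hy']; exact cpull _ _ hde)
    have hj := getj ha (hu' ▸ hconjD _ hdD) hae
    obtain ⟨a2, ha2, hae2⟩ := B.trans_lift d.2 hd2 hd1 hdne (B.le e.2) he5 hde
    have hj2 := getj ha2 hdD hae2
    obtain ⟨h1, hh1⟩ : ∃ h, h = s * a * g⁻¹ := ⟨_, rfl⟩
    obtain ⟨h2, hh2⟩ : ∃ h, h = s * a2 := ⟨_, rfl⟩
    have h1d : h1 * d * h1⁻¹ = τ := by
      rw [hh1, show s * a * g⁻¹ * (d : G) * (s * a * g⁻¹)⁻¹ = s * (a * (g⁻¹ * d * g) * a⁻¹) * s⁻¹ by group, ← hu', hj, hsj]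
    have h1x : h1 * X * h1⁻¹ = D.t k := by
      rw [hh1, show s * a * g⁻¹ * X * (s * a * g⁻¹)⁻¹ = s * (a * (g⁻¹ * X * g) * a⁻¹) * s⁻¹ by group,
        show g⁻¹ * (X : G) * g = τ by rw [← hg]; group, B.conj_t (B.le ha), hsi]
    have h2d : h2 * d * h2⁻¹ = τ := by
      rw [hh2, show s * a2 * (d : G) * (s * a2)⁻¹ = s * (a2 * d * a2⁻¹) * s⁻¹ by group, hj2, hsj]
    have h2t : h2 * τ * h2⁻¹ = D.t k := by
      rw [hh2, show s * a2 * τ * (s * a2)⁻¹ = s * (a2 * τ * a2⁻¹) * s⁻¹ by group, B.conj_t (B.le ha2), hsi]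
    have hh : h1 * h2⁻¹ ∈ D.Ct B.i := by
      refine mem_centralizer_singleton_iff.2 (mul_inv_eq_iff_eq_mul.1 ?_)
      rw [show h1 * h2⁻¹ * τ * (h1 * h2⁻¹)⁻¹ = h1 * (h2⁻¹ * τ * h2) * h1⁻¹ by group,
        show h2⁻¹ * τ * h2 = d by rw [← h2d]; group, h1d]
    obtain ⟨t'', ht''⟩ : ∃ w, w = h1 * τ * h1⁻¹ := ⟨_, rfl⟩
    have ht''0 : t'' ∈ B.C0 := by
      have := B.norm _ hh _ (B.half.1 k)
      rwa [← h2t, show h1 * h2⁻¹ * (h2 * τ * h2⁻¹) * (h1 * h2⁻¹)⁻¹ = h1 * τ * h1⁻¹ by group, ← ht''] at this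
    have ht''2 : t'' * t'' = 1 := by rw [ht'', conj_sq, D.t_sq, mul_one, mul_inv_cancel]
    have hyC : h1 * e * h1⁻¹ ∈ D.Ct B.i := by
      refine mem_centralizer_singleton_iff.2 ?_
      have := (Commute.conj_iff h1).2 hde.symm
      rw [h1d] at this
      exact this.eq
    have hy5 : orderOf (h1 * (e : G) * h1⁻¹) = 5 := by
      rw [← MulAut.conj_apply, MulEquiv.orderOf_eq, he5]
    have hc1 : Commute t'' (h1 * e * h1⁻¹) := ht'' ▸ (Commute.conj_iff h1).2 het.symm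
    have hc2 : Commute (D.t k) (h1 * e * h1⁻¹) := h1x ▸ (Commute.conj_iff h1).2 hXe
    have hc3 : Commute t'' (D.t k) := by rw [ht'', ← h1x]; exact (Commute.conj_iff h1).2 hXt.symm
    have hp1 : B.p ⟨t'', ht''0⟩ ≠ 1 := fun h => by
      rcases (B.ker _).1 h with h' | h' <;> change t'' = _ at h'
      · exact D.t_ne_one B.i (conj_eq_one_iff.1 (ht'' ▸ h'))
      · exact hdne (mul_left_cancel (mul_right_cancel ((ht''.symm.trans h').trans h1d.symm))).symm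
    have hp2 : B.p ⟨D.t k, B.half.1 k⟩ ≠ 1 := fun h => by
      rcases (B.ker _).1 h with h' | h'
      exacts [hkne.1 h', hkne.2 h']
    have heq := (Model.rigid_five (B.five_image hyC hy5) (B.p_invol (x := ⟨t'', ht''0⟩) ht''2) hp1
      (B.p_invol (x := ⟨D.t k, B.half.1 k⟩) (D.t_sq k)) hp2
      ((show Commute (⟨t'', ht''0⟩ : B.C0) ⟨_, B.sq_mem hyC⟩ from Subtype.ext (hc1.mul_right hc1).eq).map B.p)
      ((show Commute (⟨D.t k, B.half.1 k⟩ : B.C0) ⟨_, B.sq_mem hyC⟩ from Subtype.ext (hc2.mul_right hc2).eq).map B.p)).1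
      ((show Commute (⟨t'', ht''0⟩ : B.C0) ⟨D.t k, B.half.1 k⟩ from Subtype.ext hc3.eq).map B.p).eq
    rcases B.eq_of_p heq with h' | h'
    · change D.t k = t'' at h'
      rw [← h1x, ht''] at h'
      exact hxne (mul_left_cancel (mul_right_cancel h'))
    · change D.t k = t'' * τ at h'
      have hcb : t'' = D.t k * τ := by rw [h', mul_assoc, D.t_sq, mul_one]
      exact D.not_conj_pair (i := k) (j := B.i) (k := B.i) hki (hcb ▸ (isConj_iff.2 ⟨h1, ht''.symm⟩ : IsConj τ t''))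
  have htd : τ * (d : G) ∈ B.C0 := mul_mem B.t_mem d.2
  have hw0 := B.mul_mem_of_not ht'C hu'C ht0 hu0
  have hwc : Commute t' u' := by rw [ht', hu']; exact cpull _ _ hdt.symm
  have hw2 : t' * u' * (t' * u') = 1 := by rw [hwc.symm.mul_mul_mul_comm, ht'2, hu'2, one_mul]
  have hwe : t' * u' = g⁻¹ * (τ * d) * g := by rw [ht', hu']; group
  obtain ⟨a, ha, hae⟩ := B.trans_lift hw0 hw2 (fun h => hdne (by
      have h' := hback (hwe.symm.trans h)
      rw [mul_one, mul_inv_cancel, mul_eq_one_iff_eq_inv] at h'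
      exact (inv_eq_iff_eq_inv.2 h').symm.trans (D.t_inv B.i)))
    (fun h => hx0 (by rw [← hg, ← hback (hwe.symm.trans h)]; exact htd))
    hy'C hy'5 (by rw [hwe, hy']; exact cpull _ _ (het.symm.mul_left hde))
  have hdt2 : IsConj τ (g * (a⁻¹ * D.t B.j * a) * g⁻¹) :=
    (D.t_conj B.i B.j).trans ((isConj_iff.2 ⟨a⁻¹, by rw [inv_inv]⟩).trans (isConj_iff.2 ⟨g, rfl⟩))
  have hat := B.conj_t (B.le ha)
  rcases hae with h | h
  · rw [← h, show g * (a⁻¹ * (a * (t' * u') * a⁻¹) * a) * g⁻¹ = g * (t' * u') * g⁻¹ by group, ← hback hwe.symm] at hdt2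
    exact B.not_both d.2 hd2 hd1 hdne (B.le e.2) he5 hde hdD (hdt.eq ▸ hdt2)
  · have hj : D.t B.j = a * (t' * u' * τ) * a⁻¹ := by
      rw [show a * (t' * u' * τ) * a⁻¹ = a * (t' * u') * a⁻¹ * (a * τ * a⁻¹) by group, h, hat, mul_assoc, D.t_sq,
        mul_one]
    rw [hj, show g * (a⁻¹ * (a * (t' * u' * τ) * a⁻¹) * a) * g⁻¹ = g * (t' * u') * g⁻¹ * (g * τ * g⁻¹) by group,
      ← hback hwe.symm, hg, ← hdt.eq] at hdt2
    exact hdx hdt2

end Base

end Cfsg.Lib.Fi22Three
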