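import Cfsg.Agent.Lib.Fi22Three.Point

/-!
# Abelian subgroups of the extraspecial group, centralisers of its elements and the product of three lines
-/

set_option autoImplicit false
set_option linter.unusedSectionVars false
set_option maxRecDepth 4000
set_option synthInstance.maxSize 2000

namespace Cfsg.Lib.Fi22Three

open Subgroup
open scoped commutatorElement
open Cfsg.Lib.U6Three (zp zp_zero zp_one zp_mem SL3)

theorem ω_add_right (v w w' : V) : ω v (w + w') = ω v w + ω v w' := by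
  rw [ω_swap, ω_add_left, ω_swap v w, ω_swap v w']; ring

theorem ω_smul_left (c : ZMod 3) (v w : V) : ω (c • v) w = c * ω v w := by
  simp only [ω, Finset.mul_sum]
  exact Finset.sum_congr rfl fun i _ => by simp only [pl, Pi.smul_apply, Prod.smul_fst, Prod.smul_snd, smul_eq_mul]; ring

theorem ω_smul_right (c : ZMod 3) (v w : V) : ω v (c • w) = c * ω v w := by
  rw [ω_swap, ω_smul_left, ω_swap v w]; ring

theorem pl_add_right (u w w' : ZMod 3 × ZMod 3) : pl u (w + w') = pl u w + pl u w' := by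
  simp only [pl, Prod.fst_add, Prod.snd_add]; ring

theorem pl_neg_right (u w : ZMod 3 × ZMod 3) : pl u (-w) = -pl u w := by
  simp only [pl, Prod.fst_neg, Prod.snd_neg]; ring

theorem pl_zero_iff : ∀ u w : ZMod 3 × ZMod 3, u ≠ 0 → (pl u w = 0 ↔ ∃ c : ZMod 3, w = c • u) := by decide +kernel

theorem pl_line : ∀ u a b : ZMod 3 × ZMod 3, u ≠ 0 → pl u a = 0 → pl u b = 0 → pl a b = 0 := by decide +kernel

theorem card_line : ∀ u : ZMod 3 × ZMod 3, u ≠ 0 → (Finset.univ.filter fun w => pl u w = 0).card = 3 := by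
  decide +kernel

theorem card_V : Nat.card V = 729 := by simp [V, Nat.card_pi, Nat.card_prod]

theorem finrank_V : Module.finrank (ZMod 3) V = 6 := by
  have h := Module.natCard_eq_pow_finrank (K := ZMod 3) (V := V)
  rw [card_V, Nat.card_zmod] at h
  exact (Nat.pow_right_injective (by norm_num : 2 ≤ 3) (show 3 ^ 6 = 3 ^ Module.finrank (ZMod 3) V by rw [← h])).symm

/-- The symplectic form as a bilinear form. -/
def ωB : LinearMap.BilinForm (ZMod 3) V :=
  LinearMap.mk₂ (ZMod 3) ω ω_add_left ω_smul_left ω_add_right ω_smul_right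

theorem ωB_apply (v w : V) : ωB v w = ω v w := rfl

theorem ωB_refl : ωB.IsRefl := fun v w h => by
  rw [ωB_apply] at h ⊢
  rw [ω_swap, h, neg_zero]

theorem ωB_nondeg : ωB.Nondegenerate :=
  (LinearMap.IsRefl.nondegenerate_iff_separatingLeft ωB_refl).2 fun _ h => ω_eq_zero h

/-- An isotropic subgroup has at most 27 elements. -/
theorem card_isotropic (A : AddSubgroup V) (h : ∀ a ∈ A, ∀ b ∈ A, ω a b = 0) : Nat.card A ≤ 27 := by
  set W := AddSubgroup.toZModSubmodule 3 A
  have hle : W ≤ ωB.orthogonal W := fun b hb a ha => h a ha b hb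
  have h1 := Submodule.finrank_mono hle
  rw [LinearMap.BilinForm.finrank_orthogonal ωB_nondeg, finrank_V] at h1
  calc Nat.card A = Nat.card W := rfl
    _ = 3 ^ Module.finrank (ZMod 3) W := by rw [Module.natCard_eq_pow_finrank (K := ZMod 3), Nat.card_zmod]
    _ ≤ 3 ^ 3 := Nat.pow_le_pow_right (by norm_num) (by omega)

namespace Data

variable {G : Type*} [Group G] [Finite G] (D : Data G)

/-- The subgroup of `Q` with coordinates in an additive subgroup. -/
noncomputable def lift (A : AddSubgroup V) : Subgroup G where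
  carrier := {q | q ∈ D.Q ∧ D.vec q ∈ A}
  one_mem' := ⟨D.Q.one_mem, by rw [D.vec_one]; exact A.zero_mem⟩
  mul_mem' := fun ha hb => ⟨mul_mem ha.1 hb.1, by rw [D.vec_mul ha.1 hb.1]; exact A.add_mem ha.2 hb.2⟩
  inv_mem' := fun ha => ⟨inv_mem ha.1, by rw [D.vec_inv ha.1]; exact A.neg_mem ha.2⟩

theorem card_lift (A : AddSubgroup V) : Nat.card (D.lift A) = 3 * Nat.card A := by
  classical
  let f : D.Zc × A → D.lift A := fun p => ⟨p.1 * D.el p.2, mul_mem (D.Zc_le p.1.2) (D.el_mem _), by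
    rw [D.vec_mul (D.Zc_le p.1.2) (D.el_mem _), D.vec_Zc p.1.2, zero_add, D.vec_el]; exact p.2.2⟩
  have hf : Function.Bijective f := by
    constructor
    · intro p p' e
      have e' : (p.1 : G) * D.el p.2 = p'.1 * D.el p'.2 := congrArg Subtype.val e
      have hv := congrArg D.vec e'
      rw [D.vec_mul (D.Zc_le p.1.2) (D.el_mem _), D.vec_mul (D.Zc_le p'.1.2) (D.el_mem _),
        D.vec_Zc p.1.2, D.vec_Zc p'.1.2, zero_add, zero_add, D.vec_el, D.vec_el] at hv
      rw [hv] at e'
      exact Prod.ext (Subtype.ext (mul_right_cancel e')) (Subtype.ext hv)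
    · rintro ⟨q, hq, hv⟩
      obtain ⟨w, hw, e⟩ := D.exists_el hq
      exact ⟨(⟨w, hw⟩, ⟨D.vec q, hv⟩), Subtype.ext e.symm⟩
  rw [← Nat.card_congr (Equiv.ofBijective f hf), Nat.card_prod, D.card_Zc]

/-- The coordinates of a subgroup of `Q`. -/
noncomputable def img (B : Subgroup G) (hB : B ≤ D.Q) : AddSubgroup V where
  carrier := D.vec '' (B : Set G)
  zero_mem' := ⟨1, B.one_mem, D.vec_one⟩
  add_mem' := by
    rintro _ _ ⟨a, ha, rfl⟩ ⟨b, hb, rfl⟩
    exact ⟨a * b, B.mul_mem ha hb, D.vec_mul (hB ha) (hB hb)⟩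
  neg_mem' := by
    rintro _ ⟨a, ha, rfl⟩
    exact ⟨a⁻¹, B.inv_mem ha, D.vec_inv (hB ha)⟩

/-- An abelian subgroup of `Q` has order at most 81. -/
theorem card_abelian {B : Subgroup G} (hB : B ≤ D.Q) (hc : ∀ a ∈ B, ∀ b ∈ B, Commute a b) : Nat.card B ≤ 81 := by
  have hle : B ≤ D.lift (D.img B hB) := fun q hq => ⟨hB hq, q, hq, rfl⟩
  have h27 : Nat.card (D.img B hB) ≤ 27 := card_isotropic _ (by
    rintro _ ⟨a, ha, rfl⟩ _ ⟨b, hb, rfl⟩
    exact (D.commute_iff (hB ha) (hB hb)).1 (hc a ha b hb))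
  calc Nat.card B ≤ Nat.card (D.lift (D.img B hB)) := Subgroup.card_le_of_le hle
    _ = 3 * Nat.card (D.img B hB) := D.card_lift _
    _ ≤ 81 := by omega

/-- The centraliser in `Q` of a noncentral element has index three. -/
theorem card_cent {w : G} (hw : w ∈ D.Q) (hn : w ∉ D.Zc) :
    Nat.card (D.Q ⊓ centralizer ({w} : Set G) : Subgroup G) = 729 := by
  set v := D.vec w
  have hv : v ≠ 0 := fun h => hn ((D.mem_Zc_iff hw).2 h)
  let φ : V →+ ZMod 3 := AddMonoidHom.mk' (fun u => ω u v) fun a b => ω_add_left a b v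
  have heq : (D.Q ⊓ centralizer ({w} : Set G) : Subgroup G) = D.lift φ.ker := by
    ext q
    constructor
    · rintro ⟨hq, hc⟩
      exact ⟨hq, (D.commute_iff hq hw).1 (mem_centralizer_singleton_iff.1 hc)⟩
    · rintro ⟨hq, hc⟩
      exact ⟨hq, mem_centralizer_singleton_iff.2 ((D.commute_iff hq hw).2 hc).eq⟩
  have hsurj : Function.Surjective φ := by
    obtain ⟨u, hu⟩ : ∃ u, ω u v ≠ 0 := by
      by_contra hcon; push Not at hcon
      exact hv (ω_eq_zero fun u => by rw [ω_swap, hcon, neg_zero])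
    intro c
    refine ⟨(c * (ω u v)⁻¹) • u, ?_⟩
    show ω _ v = c
    rw [ω_smul_left, mul_assoc, inv_mul_cancel₀ hu, mul_one]
  have h := AddSubgroup.card_eq_card_quotient_mul_card_addSubgroup φ.ker
  rw [Nat.card_congr (QuotientAddGroup.quotientKerEquivOfSurjective φ hsurj).toEquiv, Nat.card_zmod, card_V] at h
  rw [heq, D.card_lift]
  omega

/-- The additive subgroup of three lines. -/
def lineSet (v : V) : AddSubgroup V where
  carrier := {w | ∀ i, pl (v i) (w i) = 0}
  zero_mem' := fun i => by simp [pl]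
  add_mem' := fun ha hb i => by rw [Pi.add_apply, pl_add_right, ha i, hb i, add_zero]
  neg_mem' := fun ha i => by rw [Pi.neg_apply, pl_neg_right, ha i, neg_zero]

/-- The preimage of three lines. -/
noncomputable def lines (v : V) : Subgroup G := D.lift (lineSet v)

theorem mem_lines {v : V} {q : G} : q ∈ D.lines v ↔ q ∈ D.Q ∧ ∀ i, pl (v i) (D.vec q i) = 0 := Iff.rfl

theorem lines_le (v : V) : D.lines v ≤ D.Q := fun _ h => h.1

theorem card_lineSet {v : V} (hv : ∀ i, v i ≠ 0) : Nat.card (lineSet v) = 27 := by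
  classical
  let e : lineSet v ≃ (∀ i, {w : ZMod 3 × ZMod 3 // pl (v i) w = 0}) :=
    { toFun := fun w i => ⟨w.1 i, w.2 i⟩
      invFun := fun f => ⟨fun i => (f i).1, fun i => (f i).2⟩
      left_inv := fun _ => rfl
      right_inv := fun _ => rfl }
  rw [Nat.card_congr e, Nat.card_pi]
  have h3 : ∀ i, Nat.card {w : ZMod 3 × ZMod 3 // pl (v i) w = 0} = 3 := fun i => by
    rw [Nat.card_eq_fintype_card, Fintype.card_subtype, card_line _ (hv i)]
  rw [Finset.prod_congr rfl fun i _ => h3 i]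
  simp

theorem card_lines {v : V} (hv : ∀ i, v i ≠ 0) : Nat.card (D.lines v) = 81 := by
  rw [lines, D.card_lift, card_lineSet hv]

theorem lines_comm {v : V} (hv : ∀ i, v i ≠ 0) {a b : G} (ha : a ∈ D.lines v) (hb : b ∈ D.lines v) :
    Commute a b := by
  rw [D.commute_iff ha.1 hb.1]
  exact Finset.sum_eq_zero fun i _ => pl_line _ _ _ (hv i) (ha.2 i) (hb.2 i)

/-- The three lines are their own centraliser in `Q`. -/
theorem mem_lines_of_comm {v : V} (hv : ∀ i, v i ≠ 0) {q : G} (hq : q ∈ D.Q)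
    (h : ∀ l ∈ D.lines v, Commute q l) : q ∈ D.lines v := by
  refine ⟨hq, fun i => ?_⟩
  have hl : D.elp i (v i) ∈ D.lines v := ⟨D.Qp_le _ (D.elp_mem _ _), fun j => by
    rw [D.vec_elp]
    by_cases hj : j = i
    · subst hj; rw [Pi.single_eq_same, pl_self]
    · rw [Pi.single_eq_of_ne hj]; simp [pl]⟩
  have h2 := (D.commute_iff hq hl.1).1 (h _ hl)
  rw [D.vec_elp, ω_single_right] at h2
  simp only [pl] at h2 ⊢
  linear_combination -h2

end Data

end Cfsg.Lib.Fi22Three
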