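import Cfsg.Agent.Lib.Fi22Three.Iso

/-!
# The centraliser of `z` in the conjugate subgroup of a point
-/

set_option autoImplicit false
set_option linter.unusedSectionVars false
set_option maxRecDepth 4000
set_option synthInstance.maxSize 2000

namespace Cfsg.Lib.Fi22Three

open Subgroup
open scoped commutatorElement
open Cfsg.Lib.U6Three (zp zp_zero zp_one zp_mem SL3)

theorem sl_fix : ∀ (m : SL3) (u : ZMod 3 × ZMod 3), u ≠ 0 → mv m u = u →
    ∃ e : ZMod 3, ∀ w, mv m w = w + (e * pl u w) • u := by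
  decide +kernel

theorem smul_cancel : ∀ (c d : ZMod 3) (u : ZMod 3 × ZMod 3), u ≠ 0 → c • u = d • u → c = d := by decide +kernel

theorem mv_neg (m : SL3) (u : ZMod 3 × ZMod 3) : mv m (-u) = -mv m u := by
  simp only [mv, Prod.ext_iff, Prod.fst_neg, Prod.snd_neg]
  constructor <;> ring

namespace Data

variable {G : Type*} [Group G] [Finite G] (D : Data G)

/-- The conjugate of `z` by `g` is a point of `Q`. -/
def IsPt (g : G) : Prop := g * D.z * g⁻¹ ∈ D.Q ∧ g * D.z * g⁻¹ ∉ D.Zc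

variable {D}

theorem IsPt.symm {g : G} (hp : D.IsPt g) : D.IsPt g⁻¹ := by
  unfold IsPt
  rw [inv_inv]
  exact D.mem_symm hp.1 hp.2

theorem IsPt.v_ne {g : G} (hp : D.IsPt g) (i : Fin 3) : D.vec (g * D.z * g⁻¹) i ≠ 0 := D.support_full hp.1 hp.2 i

variable (D)

/-- The elements of the conjugate of `Q` that commute with `z`. -/
noncomputable def M (g : G) : Subgroup G := D.Q.map (MulAut.conj g).toMonoidHom ⊓ centralizer ({D.z} : Set G)

theorem mem_M {g x : G} : x ∈ D.M g ↔ g⁻¹ * x * g ∈ D.Q ∧ Commute x D.z := by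
  refine and_congr ?_ mem_centralizer_singleton_iff
  constructor
  · rintro ⟨q, hq, rfl⟩; simpa [mul_assoc] using hq
  · intro h; exact ⟨_, h, by simp [mul_assoc]⟩

theorem M_y {g x : G} (hx : x ∈ D.M g) : Commute x (g * D.z * g⁻¹) := by
  have := (Commute.conj_iff g).2 (D.comm_z _ (D.mem_M.1 hx).1)
  simpa [mul_assoc] using this

theorem M_pow {g x : G} (hx : x ∈ D.M g) : x ^ 3 ^ 7 ∈ D.Q := by
  have h := D.pow_Q (D.mem_M.1 hx).1
  rw [show g⁻¹ * x * g = g⁻¹ * x * g⁻¹⁻¹ by rw [inv_inv], conj_pow, inv_inv] at h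
  rw [show x ^ 3 ^ 7 = g * (g⁻¹ * x ^ 2187 * g) * g⁻¹ by norm_num; group, h]
  simp

variable {D}

theorem IsPt.card_M {g : G} (hp : D.IsPt g) : Nat.card (D.M g) = 729 := by
  obtain ⟨h', hn'⟩ := D.mem_symm hp.1 hp.2
  have e : D.M g = (D.Q ⊓ centralizer ({g⁻¹ * D.z * g} : Set G)).map (MulAut.conj g).toMonoidHom := by
    ext x
    rw [D.mem_M]
    constructor
    · rintro ⟨hq, hc⟩
      refine ⟨g⁻¹ * x * g, ⟨hq, mem_centralizer_singleton_iff.2 ?_⟩, by simp [mul_assoc]⟩
      have := (Commute.conj_iff g⁻¹).2 hc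
      simpa [mul_assoc, Commute, SemiconjBy] using this
    · rintro ⟨q, ⟨hq, hc⟩, rfl⟩
      refine ⟨by simpa [mul_assoc] using hq, ?_⟩
      have := (Commute.conj_iff g).2 (show Commute q _ from mem_centralizer_singleton_iff.1 hc)
      simpa [mul_assoc] using this
  rw [e, card_map_of_injective (MulAut.conj g).injective]
  exact D.card_cent h' hn'

theorem IsPt.single_outside {g q : G} (hp : D.IsPt g) (hq : q ∈ D.Q) {k : Fin 3}
    (hv : D.vec q = Pi.single k (D.vec (g * D.z * g⁻¹) k)) : g⁻¹ * q * g ∉ D.Q := by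
  intro hqg
  refine D.flip_outside hp.1 hp.2 k ?_
  set y := g * D.z * g⁻¹ with hy
  have hyq := mul_mem hp.1 hq
  have hw : D.t k * y * (D.t k)⁻¹ * (y * q)⁻¹ ∈ D.Zc := by
    refine D.div_mem_Zc (D.norm_Q _ (D.t_z k) _ hp.1) hyq ?_
    rw [D.vec_conj (D.t_z k) hp.1, D.act_t, D.vec_mul hp.1 hq, hv]
    funext j
    by_cases hj : j = k
    · subst hj
      rw [flip_same, Pi.add_apply, Pi.single_eq_same]
      exact (show ∀ u : ZMod 3 × ZMod 3, -u = u + u by decide) _
    · rw [flip_of_ne hj, Pi.add_apply, Pi.single_eq_of_ne hj, add_zero]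
  obtain ⟨n, hn⟩ := D.exists_zp hw
  have hz' := (D.mem_symm hp.1 hp.2).1
  have : g⁻¹ * (D.t k * y * (D.t k)⁻¹) * g = zp (g⁻¹ * D.z * g) n * (D.z * (g⁻¹ * q * g)) := by
    rw [show D.t k * y * (D.t k)⁻¹ = zp D.z n * (y * q) by rw [← hn]; group, zp, zp,
      show g⁻¹ * D.z * g = g⁻¹ * D.z * g⁻¹⁻¹ by rw [inv_inv], conj_pow, hy]
    group
  rw [this]
  exact mul_mem (zp_mem hz' _) (mul_mem D.z_mem hqg)

theorem IsPt.single_scaled {g q : G} (hp : D.IsPt g) (hq : q ∈ D.Q) {k : Fin 3} {c : ZMod 3} (hc : c ≠ 0)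
    (hv : D.vec q = Pi.single k (c • D.vec (g * D.z * g⁻¹) k)) : g⁻¹ * q * g ∉ D.Q := by
  intro h
  rcases (show ∀ c : ZMod 3, c ≠ 0 → c = 1 ∨ c = -1 by decide) c hc with rfl | rfl
  · exact hp.single_outside hq (by rw [hv, one_smul]) h
  · refine hp.single_outside (inv_mem hq) (k := k) ?_ (by simpa [mul_assoc] using inv_mem h)
    rw [D.vec_inv hq, hv, neg_smul, one_smul, Pi.single_neg, neg_neg]

theorem IsPt.mat_fix {g x : G} (hp : D.IsPt g) (hx : x ∈ D.M g) (hK : x ∈ D.K) (i : Fin 3) :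
    mv (D.mat x i) (D.vec (g * D.z * g⁻¹) i) = D.vec (g * D.z * g⁻¹) i := by
  rw [← D.act_fixed_per hK.1 hK.2, ← D.vec_conj hK.1 hp.1, (D.M_y hx).eq, mul_inv_cancel_right]

/-- A diagonal element of the conjugate subgroup is a transvection of the same size on every plane. -/
theorem IsPt.const_e {g x : G} (hp : D.IsPt g) (hx : x ∈ D.M g) (hK : x ∈ D.K) :
    ∃ e : ZMod 3, ∀ i w, mv (D.mat x i) w =
      w + (e * pl (D.vec (g * D.z * g⁻¹) i) w) • D.vec (g * D.z * g⁻¹) i := by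
  set y := g * D.z * g⁻¹ with hy
  set v := D.vec y with hv
  choose e he using fun i => sl_fix (D.mat x i) (v i) (hp.v_ne i) (hp.mat_fix hx hK i)
  choose f hf using fun i => exists_pl_one (v i) (hp.v_ne i)
  suffices h : ∀ i j, i ≠ j → e i = e j by
    refine ⟨e 0, fun i w => ?_⟩
    rcases eq_or_ne i 0 with hi | hi
    · subst hi; exact he 0 w
    · rw [← h i 0 hi]; exact he i w
  intro i j hij
  by_contra hne
  set u : V := Pi.single i (f i) - Pi.single j (f j) with hu
  have hly : Commute (D.el u) y := by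
    rw [D.commute_iff (D.el_mem u) hp.1, D.vec_el, hu, ω_sub_left, ω_single_left, ω_single_left]
    have h1 := hf i
    have h2 := hf j
    simp only [pl] at h1 h2 ⊢
    linear_combination h2 - h1
  have hlz : Commute (g⁻¹ * D.el u * g) D.z := by
    have := (Commute.conj_iff g⁻¹).2 hly
    simpa [hy, mul_assoc] using this
  obtain ⟨hcQ, hcv⟩ := D.vec_comm hK.1 (D.el_mem u)
  have hcg : g⁻¹ * ⁅x, D.el u⁆ * g ∈ D.Q := by
    rw [conj_comm]
    have hq := (D.mem_M.1 hx).1
    rw [commutatorElement_def, show ∀ a b : G, a * b * a⁻¹ * b⁻¹ = a * (b * a⁻¹ * b⁻¹) from fun a b => by group]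
    exact mul_mem hq (D.norm_Q _ hlz _ (inv_mem hq))
  have hcv' : D.vec ⁅x, D.el u⁆ = Pi.single i (e i • v i) - Pi.single j (e j • v j) := by
    rw [hcv, D.vec_el]
    funext l
    rw [Pi.sub_apply, Pi.sub_apply, D.act_fixed_per hK.1 hK.2, he]
    rcases eq_or_ne l i with rfl | hli
    · rw [hu, Pi.sub_apply, Pi.single_eq_same, Pi.single_eq_of_ne hij, sub_zero, hf, mul_one,
        Pi.single_eq_same, Pi.single_eq_of_ne hij, sub_zero, add_sub_cancel_left]
    · rcases eq_or_ne l j with rfl | hlj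
      · rw [hu, Pi.sub_apply, Pi.single_eq_same, Pi.single_eq_of_ne hli, zero_sub, pl_neg_right, hf,
          Pi.single_eq_same, Pi.single_eq_of_ne hli, zero_sub, add_sub_cancel_left, mul_neg, mul_one, neg_smul]
      · rw [hu, Pi.sub_apply, Pi.single_eq_of_ne hli, Pi.single_eq_of_ne hlj, sub_zero,
          show pl (v l) 0 = 0 by simp [pl], mul_zero, zero_smul, add_zero, sub_zero,
          Pi.single_eq_of_ne hli, Pi.single_eq_of_ne hlj, sub_zero]
  rcases (show ∀ a b : ZMod 3, a ≠ b → b = 0 ∨ a = 0 ∨ a + b = 0 by decide) _ _ hne with h0 | h0 | h0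
  · refine hp.single_scaled hcQ (k := i) (c := e i) (h0 ▸ hne) ?_ hcg
    rw [hcv', h0, zero_smul, Pi.single_zero, sub_zero]
  · refine hp.single_scaled hcQ (k := j) (c := -e j) (neg_ne_zero.2 (Ne.symm (h0 ▸ hne))) ?_ hcg
    rw [hcv', h0, zero_smul, Pi.single_zero, zero_sub, neg_smul, Pi.single_neg]
  · obtain ⟨k, hki, hkj, hall⟩ := fin3_other i j hij
    have hej : e j ≠ 0 := fun h => hne (by rw [h, add_zero] at h0; rw [h, h0])
    refine hp.single_scaled (mul_mem hcQ (zp_mem hp.1 (e j))) (k := k) (c := e j) hej ?_ ?_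
    · rw [D.vec_mul hcQ (zp_mem hp.1 _), D.vec_zp hp.1, hcv', show e i = -e j from eq_neg_of_add_eq_zero_left h0]
      funext l
      rcases hall l with rfl | rfl | rfl
      · simp [Pi.single_eq_of_ne hij, Pi.single_eq_of_ne (Ne.symm hki), hv, hy]
      · simp [Pi.single_eq_of_ne hij.symm, Pi.single_eq_of_ne (Ne.symm hkj), hv, hy]
      · simp [Pi.single_eq_of_ne hki, Pi.single_eq_of_ne hkj, hv]
    · rw [show g⁻¹ * (⁅x, D.el u⁆ * zp (g * D.z * g⁻¹) (e j)) * g = g⁻¹ * ⁅x, D.el u⁆ * g * zp D.z (e j) by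
        rw [zp, zp, conj_pow]; group]
      exact mul_mem hcg (zp_mem D.z_mem _)

variable (D)

/-- The diagonal elements of the conjugate subgroup. -/
noncomputable def N (g : G) : Subgroup G := D.M g ⊓ D.K

/-- The common part of the subgroup and its conjugate. -/
noncomputable def E0 (g : G) : Subgroup G := D.M g ⊓ D.Q

variable {D}

theorem IsPt.card_E0 {g : G} (hp : D.IsPt g) : Nat.card (D.E0 g) ≤ 81 := by
  refine D.card_abelian (fun x hx => hx.2) fun a ha b hb => ?_
  obtain ⟨k, hk⟩ := D.exists_zp (D.comm_Q a ha.2 b hb.2)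
  obtain ⟨l, hl⟩ := D.exists_zp (D.comm_Q _ (D.mem_M.1 ha.1).1 _ (D.mem_M.1 hb.1).1)
  rw [← commutatorElement_eq_one_iff_commute]
  by_contra hne
  rw [← conj_comm, hk] at hl
  have hk0 : k ≠ 0 := fun e => hne (by rw [hk, e, zp_zero])
  have hl0 : l ≠ 0 := fun e => hne (by rw [hk]; rw [e, zp_zero] at hl; have := congrArg (fun u => g * u * g⁻¹) hl; simpa [mul_assoc] using this)
  have hmem : g * zp D.z l * g⁻¹ ∈ D.Zc := by
    rw [← hl, show g * (g⁻¹ * zp D.z k * g) * g⁻¹ = zp D.z k by group]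
    exact zp_mem (mem_zpowers _) _
  refine hp.2 ?_
  rcases (show ∀ c : ZMod 3, c ≠ 0 → c = 1 ∨ c = 2 by decide) l hl0 with rfl | rfl
  · rwa [zp_one] at hmem
  · have := mul_mem hmem hmem
    rwa [zp, show ((2 : ZMod 3)).val = 2 from rfl,
      show g * D.z ^ 2 * g⁻¹ * (g * D.z ^ 2 * g⁻¹) = g * (D.z ^ 3 * D.z) * g⁻¹ by group, D.z_cube, one_mul] at this

theorem IsPt.card_N {g : G} (hp : D.IsPt g) : 243 ≤ Nat.card (D.N g) := by
  classical
  let r : Fin 3 → D.M g := fun a => if h : ∃ x : D.M g, D.per x 0 = a then h.choose else 1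
  have hmem : ∀ x : D.M g, ((r (D.per x 0))⁻¹ * x : G) ∈ D.N g := by
    intro x
    have hr : D.per (r (D.per x 0)) 0 = D.per x 0 := by
      have h : ∃ x' : D.M g, D.per x' 0 = D.per x 0 := ⟨x, rfl⟩
      simp only [r, dif_pos h]
      exact h.choose_spec
    have hz := (D.mem_M.1 x.2).2
    have hz' := (D.mem_M.1 (r (D.per x 0)).2).2
    have hc := hz'.inv_left.mul_left hz
    have hm := mul_mem (inv_mem (r (D.per x 0)).2) x.2
    refine ⟨hm, hc, ?_⟩
    refine (fin3_cycle _ (D.per_cube hc (D.M_pow hm))).resolve_right fun h => h 0 ?_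
    rw [D.per_mul hz'.inv_left hz]
    exact (congrArg _ hr.symm).trans (D.per_inv_cancel hz' 0)
  let f : D.M g → Fin 3 × D.N g := fun x => (D.per x 0, ⟨_, hmem x⟩)
  have hf : Function.Injective f := fun x x' e => by
    have h1 : D.per (x : G) 0 = D.per (x' : G) 0 := congrArg Prod.fst e
    have h2 : ((r (D.per x 0))⁻¹ * x : G) = (r (D.per x' 0))⁻¹ * x' := congrArg (fun p => (p.2 : G)) e
    rw [h1] at h2
    exact Subtype.ext (mul_left_cancel h2)
  have := Nat.card_le_card_of_injective f hf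
  rw [hp.card_M, Nat.card_prod, Nat.card_fin] at this
  omega

/-- Some element of the conjugate subgroup moves every plane. -/
theorem IsPt.exists_cycle {g : G} (hp : D.IsPt g) : ∃ σ ∈ D.M g, ∀ i, D.per σ i ≠ i := by
  classical
  by_contra hcon
  push Not at hcon
  have hall : ∀ x ∈ D.M g, x ∈ D.K := fun x hx => by
    have hz := (D.mem_M.1 hx).2
    refine ⟨hz, (fin3_cycle _ (D.per_cube hz (D.M_pow hx))).resolve_right fun h => ?_⟩
    obtain ⟨i, hi⟩ := hcon x hx
    exact h i hi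
  choose e he using fun x : D.M g => hp.const_e x.2 (hall x x.2)
  let r : ZMod 3 → D.M g := fun a => if h : ∃ x, e x = a then h.choose else 1
  have hmem : ∀ x : D.M g, (r (e x) : G)⁻¹ * (x : G) ∈ D.E0 g := by
    intro x
    have hr : e (r (e x)) = e x := by
      have h : ∃ x', e x' = e x := ⟨x, rfl⟩
      simp only [r, dif_pos h]
      exact h.choose_spec
    have hm : ((r (e x) : G))⁻¹ * x ∈ D.K := mul_mem (inv_mem (hall _ (r (e x)).2)) (hall _ x.2)
    refine mem_inf.2 ⟨mul_mem (inv_mem (r (e x)).2) x.2, D.mem_Q_iff.2 ⟨hm, fun i => ?_⟩⟩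
    rw [D.mat_mul_K (inv_mem (hall _ (r (e x)).2)) (hall _ x.2), D.mat_inv_K (hall _ (r (e x)).2),
      inv_mul_eq_one]
    exact mv_ext fun w => by rw [he, he, hr]
  let f : D.M g → ZMod 3 × D.E0 g := fun x => (e x, ⟨_, hmem x⟩)
  have hf : Function.Injective f := fun x x' e' => by
    have h1 : e x = e x' := congrArg Prod.fst e'
    have h2 : (r (e x) : G)⁻¹ * (x : G) = (r (e x') : G)⁻¹ * (x' : G) := congrArg (fun p => (p.2 : G)) e'
    rw [h1] at h2
    exact Subtype.ext (mul_left_cancel h2)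
  have := Nat.card_le_card_of_injective f hf
  rw [hp.card_M, Nat.card_prod, Nat.card_zmod] at this
  have := hp.card_E0
  omega

end Data

end Cfsg.Lib.Fi22Three
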