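import Cfsg.Agent.Lib.Fi22Three.Act

/-!
# The permutation of the planes and the matrices on them
-/

set_option autoImplicit false
set_option linter.unusedSectionVars false
set_option maxRecDepth 4000
set_option synthInstance.maxSize 2000

namespace Cfsg.Lib.Fi22Three

open Subgroup
open scoped commutatorElement
open Cfsg.Lib.U6Three (zp zp_zero zp_one SL3)

/-- A matrix applied to a coordinate pair. -/
def mv (m : SL3) (u : ZMod 3 × ZMod 3) : ZMod 3 × ZMod 3 :=
  (m.1 0 0 * u.1 + m.1 0 1 * u.2, m.1 1 0 * u.1 + m.1 1 1 * u.2)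

theorem mv_mul (m n : SL3) (u : ZMod 3 × ZMod 3) : mv (m * n) u = mv m (mv n u) := by
  simp only [mv, Matrix.SpecialLinearGroup.coe_mul, Matrix.mul_apply, Fin.sum_univ_two]
  exact Prod.ext (by ring) (by ring)

theorem mv_one (u : ZMod 3 × ZMod 3) : mv 1 u = u := by simp [mv]

theorem mv_neg_one (u : ZMod 3 × ZMod 3) : mv (-1) u = -u := by
  simp [mv, Matrix.SpecialLinearGroup.coe_neg, Matrix.SpecialLinearGroup.coe_one, Prod.ext_iff]

theorem mv_ext {m n : SL3} (h : ∀ u, mv m u = mv n u) : m = n := by
  have h1 := h (1, 0)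
  have h2 := h (0, 1)
  simp [mv] at h1 h2
  refine Subtype.ext (Matrix.ext fun i j => ?_)
  fin_cases i <;> fin_cases j
  exacts [h1.1, h2.1, h1.2, h2.2]

/-- The fixed space of one sign. -/
theorem card_fix_plane : ∀ i : Fin 3, (Finset.univ.filter fun v : V => v i = 0).card = 81 := by decide +kernel

/-- A negated set of planes with fixed space of size 81 is one plane. -/
theorem one_plane : ∀ ε : Fin 3 → Bool, (Finset.univ.filter fun v : V => ∀ j, ε j = true → v j = 0).card = 81 →
    ∃ i, ∀ j, ε j = decide (j = i) := by decide +kernel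

namespace Data

variable {G : Type*} [Group G] [Finite G] (D : Data G)

/-- The image of the plane `i` lies in the plane `k`. -/
def Maps (g : G) (i k : Fin 3) : Prop := ∀ u, ∀ l, l ≠ k → D.act g (Pi.single i u) l = 0

/-- The columns from the plane `i` to the plane `k`. -/
noncomputable def rawMat (g : G) (i k : Fin 3) : Matrix (Fin 2) (Fin 2) (ZMod 3) :=
  !![(D.act g (Pi.single i (1, 0)) k).1, (D.act g (Pi.single i (0, 1)) k).1;
    (D.act g (Pi.single i (1, 0)) k).2, (D.act g (Pi.single i (0, 1)) k).2]

/-- The matrix from the plane `i` to the plane `k`. -/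
noncomputable def smat (g : G) (i k : Fin 3) : SL3 :=
  open scoped Classical in if h : (D.rawMat g i k).det = 1 then (⟨_, h⟩ : SL3) else (1 : SL3)

variable {D}

theorem Maps.det {g : G} {i k : Fin 3} (h : D.Maps g i k) (hg : Commute g D.z) :
    pl (D.act g (Pi.single i (1, 0)) k) (D.act g (Pi.single i (0, 1)) k) = 1 := by
  have e := D.act_form hg (Pi.single i (1, 0)) (Pi.single i (0, 1))
  rw [ω_single_left, Pi.single_eq_same, ω, Finset.sum_eq_single k (fun j _ hj => by
    simp [h (1, 0) j hj, pl]) (by simp)] at e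
  rw [e]; simp [pl]

theorem Maps.act_single {g : G} {i k : Fin 3} (h : D.Maps g i k) (hg : Commute g D.z) (u : ZMod 3 × ZMod 3) :
    D.act g (Pi.single i u) = Pi.single k (mv (D.smat g i k) u) := by
  have hu : (Pi.single i u : V) = u.1 • (Pi.single i (1, 0) : V) + u.2 • (Pi.single i (0, 1) : V) := by
    rw [← Pi.single_smul, ← Pi.single_smul, ← Pi.single_add]
    congr 1
    simp [Prod.smul_def]
  funext l
  by_cases hl : l = k
  · subst hl
    rw [Pi.single_eq_same]
    conv_lhs => rw [hu, D.act_add hg, D.act_smul hg, D.act_smul hg, Pi.add_apply, Pi.smul_apply, Pi.smul_apply]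
    have hd := h.det hg
    have hv : (D.smat g i l).1 = D.rawMat g i l :=
      congrArg Subtype.val (dif_pos (((Matrix.det_fin_two_of _ _ _ _).trans (by simp only [pl]; ring)).trans hd))
    simp [mv, hv, rawMat, Prod.ext_iff, smul_eq_mul, mul_comm]
  · rw [h u l hl, Pi.single_eq_of_ne hl]

theorem Maps.eq_smat {g : G} {i k : Fin 3} (h : D.Maps g i k) (hg : Commute g D.z) {m : SL3}
    (hm : ∀ u, D.act g (Pi.single i u) k = mv m u) : D.smat g i k = m :=
  mv_ext fun u => by rw [← hm, h.act_single hg, Pi.single_eq_same]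

variable (D)

theorem maps_P2 {p : G} (hp : p ∈ D.P2) (i : Fin 3) : D.Maps p i i := fun u l hl => by
  rw [← D.vec_elp i u, ← D.vec_conj (D.P2_z p hp) (D.Qp_le i (D.elp_mem i u))]
  exact D.vec_Qp (D.P2_Qp p hp i _ (D.elp_mem i u)) hl

theorem sum_single (v : V) : v = Pi.single 0 (v 0) + Pi.single 1 (v 1) + Pi.single 2 (v 2) := by
  funext j; fin_cases j <;> simp

theorem act_of_maps {g : G} (hg : Commute g D.z) (h : ∀ i, D.Maps g i i) (v : V) (i : Fin 3) :
    D.act g v i = mv (D.smat g i i) (v i) := by
  conv_lhs => rw [sum_single v, D.act_add hg, D.act_add hg, (h 0).act_single hg, (h 1).act_single hg,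
    (h 2).act_single hg]
  fin_cases i <;> simp

/-- A conjugate of a sign involution is a sign involution modulo `Q`. -/
theorem exists_flip {g : G} (hg : Commute g D.z) (i : Fin 3) :
    ∃ k, ∀ v, D.act g (flip i v) = flip k (D.act g v) := by
  classical
  obtain ⟨p, hp, hq⟩ := D.P2_normal g hg _ (D.t_mem i)
  have hpz := D.P2_z p hp
  have hc : Commute (g * D.t i * g⁻¹) D.z := (hg.mul_left (D.t_z i)).mul_left hg.inv_left
  have e : ∀ v, D.act p v = D.act (g * D.t i * g⁻¹) v := fun v => by
    rw [show g * D.t i * g⁻¹ = p * (p⁻¹ * (g * D.t i * g⁻¹)) by group, D.act_mul hpz (D.comm_z _ hq), D.act_Q hq]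
  have e' : ∀ v, D.act p v = D.act g (flip i (D.act g⁻¹ v)) := fun v => by
    rw [e, D.act_mul (hg.mul_left (D.t_z i)) hg.inv_left, D.act_mul hg (D.t_z i), D.act_t]
  have hinvol : ∀ v, D.act p (D.act p v) = v := fun v => by
    rw [e', e', D.act_inv_cancel hg, flip_flip, D.act_cancel_inv hg]
  have hsign : ∀ j, D.smat p j j = 1 ∨ D.smat p j j = -1 := fun j => by
    refine Cfsg.Lib.U6Three.sl_quat.1 _ (mv_ext fun u => ?_)
    have h2 := congrFun (hinvol (Pi.single j u)) j
    rw [(D.maps_P2 hp j).act_single hpz, (D.maps_P2 hp j).act_single hpz, Pi.single_eq_same, Pi.single_eq_same] at h2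
    rw [pow_two, mv_mul, mv_one, h2]
  let ε : Fin 3 → Bool := fun j => decide (D.smat p j j = -1)
  have hfix : ∀ v, D.act p v = v ↔ ∀ j, ε j = true → v j = 0 := fun v => by
    constructor
    · intro h j hj
      have h2 := congrFun h j
      rw [D.act_of_maps hpz (D.maps_P2 hp), of_decide_eq_true hj, mv_neg_one] at h2
      exact neg_eq_self h2
    · intro h
      funext j
      rw [D.act_of_maps hpz (D.maps_P2 hp)]
      rcases hsign j with hs | hs
      · rw [hs, mv_one]
      · rw [hs, mv_neg_one, h j (decide_eq_true hs), neg_zero]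
  have hcard : (Finset.univ.filter fun v : V => ∀ j, ε j = true → v j = 0).card = 81 := by
    have h81 := card_fix_plane i
    rw [← h81]
    refine Finset.card_bij' (fun v _ => D.act g⁻¹ v) (fun v _ => D.act g v) (fun v hv => ?_) (fun v hv => ?_)
      (fun v _ => D.act_cancel_inv hg v) (fun v _ => D.act_inv_cancel hg v)
    · simp only [Finset.mem_filter, Finset.mem_univ, true_and] at hv ⊢
      have h2 := (hfix v).2 hv
      rw [e'] at h2
      have h3 := congrArg (D.act g⁻¹) h2
      rw [D.act_inv_cancel hg] at h3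
      exact flip_eq_self.1 h3
    · simp only [Finset.mem_filter, Finset.mem_univ, true_and] at hv ⊢
      refine (hfix _).1 ?_
      rw [e', D.act_inv_cancel hg, flip_eq_self.2 hv]
  obtain ⟨k, hk⟩ := one_plane ε hcard
  refine ⟨k, fun v => ?_⟩
  rw [show D.act g (flip i v) = D.act p (D.act g v) by rw [e', D.act_inv_cancel hg]]
  funext j
  rw [D.act_of_maps hpz (D.maps_P2 hp)]
  by_cases hj : j = k
  · rw [of_decide_eq_true ((hk j).trans (decide_eq_true hj)), mv_neg_one, hj, flip_same]
  · rw [(hsign j).resolve_right (of_decide_eq_false ((hk j).trans (decide_eq_false hj))), mv_one, flip_of_ne hj]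

/-- The image of a plane. -/
noncomputable def per (g : G) (i : Fin 3) : Fin 3 :=
  open scoped Classical in if h : ∃ k, ∀ v, D.act g (flip i v) = flip k (D.act g v) then h.choose else i

theorem act_flip {g : G} (hg : Commute g D.z) (i : Fin 3) (v : V) :
    D.act g (flip i v) = flip (D.per g i) (D.act g v) := by
  rw [per, dif_pos (D.exists_flip hg i)]
  exact (D.exists_flip hg i).choose_spec v

theorem flip_inj {i k : Fin 3} (h : ∀ v, flip i v = flip k v) : i = k := by
  by_contra hne
  have := congrFun (h (Pi.single i (1, 0))) i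
  rw [flip_same, flip_of_ne hne, Pi.single_eq_same] at this
  exact absurd (neg_eq_self this) (by decide)

theorem per_eq {g : G} (hg : Commute g D.z) {i k : Fin 3} (h : ∀ v, D.act g (flip i v) = flip k (D.act g v)) :
    D.per g i = k :=
  flip_inj fun v => by
    obtain ⟨w, rfl⟩ := D.act_surjective hg v
    rw [← D.act_flip hg, h]

theorem per_mul {g h : G} (hg : Commute g D.z) (hh : Commute h D.z) (i : Fin 3) :
    D.per (g * h) i = D.per g (D.per h i) :=
  D.per_eq (hg.mul_left hh) fun v => by rw [D.act_mul hg hh, D.act_flip hh, D.act_flip hg, D.act_mul hg hh]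

theorem per_one (i : Fin 3) : D.per 1 i = i :=
  D.per_eq (Commute.one_left _) fun v => by rw [D.act_one, D.act_one]

theorem per_inv_cancel {g : G} (hg : Commute g D.z) (i : Fin 3) : D.per g⁻¹ (D.per g i) = i := by
  rw [← D.per_mul hg.inv_left hg, inv_mul_cancel, D.per_one]

theorem per_injective {g : G} (hg : Commute g D.z) : Function.Injective (D.per g) :=
  Function.LeftInverse.injective (D.per_inv_cancel hg)

theorem per_surjective {g : G} (hg : Commute g D.z) : Function.Surjective (D.per g) :=
  Finite.injective_iff_surjective.1 (D.per_injective hg)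

theorem per_Q {q : G} (hq : q ∈ D.Q) (i : Fin 3) : D.per q i = i :=
  D.per_eq (D.comm_z q hq) fun v => by rw [D.act_Q hq, D.act_Q hq]

theorem per_P2 {p : G} (hp : p ∈ D.P2) (i : Fin 3) : D.per p i = i :=
  D.per_eq (D.P2_z p hp) fun v => by
    funext j
    rw [D.act_of_maps (D.P2_z p hp) (D.maps_P2 hp)]
    by_cases hj : j = i
    · subst hj
      rw [flip_same, flip_same, D.act_of_maps (D.P2_z p hp) (D.maps_P2 hp)]
      simp [mv, Prod.ext_iff]
      constructor <;> ring
    · rw [flip_of_ne hj, flip_of_ne hj, D.act_of_maps (D.P2_z p hp) (D.maps_P2 hp)]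

theorem maps_per {g : G} (hg : Commute g D.z) (i : Fin 3) : D.Maps g i (D.per g i) := by
  intro u l hl
  obtain ⟨j, rfl⟩ := D.per_surjective hg l
  refine flip_eq_self.1 ?_
  rw [← D.act_flip hg, flip_eq_self.2 (Pi.single_eq_of_ne (show j ≠ i from fun h => hl (by rw [h])) _)]

/-- The matrix on a plane. -/
noncomputable def mat (g : G) (i : Fin 3) : SL3 := D.smat g i (D.per g i)

theorem act_single {g : G} (hg : Commute g D.z) (i : Fin 3) (u : ZMod 3 × ZMod 3) :
    D.act g (Pi.single i u) = Pi.single (D.per g i) (mv (D.mat g i) u) :=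
  (D.maps_per hg i).act_single hg u

theorem act_apply {g : G} (hg : Commute g D.z) (v : V) (i : Fin 3) :
    D.act g v (D.per g i) = mv (D.mat g i) (v i) := by
  have hne : ∀ a b, a ≠ b → D.per g a ≠ D.per g b := fun a b hab h => hab (D.per_injective hg h)
  conv_lhs => rw [sum_single v, D.act_add hg, D.act_add hg, D.act_single hg, D.act_single hg, D.act_single hg]
  fin_cases i <;> simp [Pi.single_eq_of_ne (hne 0 1 (by decide)), Pi.single_eq_of_ne (hne 0 2 (by decide)),
    Pi.single_eq_of_ne (hne 1 0 (by decide)), Pi.single_eq_of_ne (hne 1 2 (by decide)),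
    Pi.single_eq_of_ne (hne 2 0 (by decide)), Pi.single_eq_of_ne (hne 2 1 (by decide))]

theorem mat_mul {g h : G} (hg : Commute g D.z) (hh : Commute h D.z) (i : Fin 3) :
    D.mat (g * h) i = D.mat g (D.per h i) * D.mat h i :=
  mv_ext fun u => by
    have e := D.act_single (hg.mul_left hh) i u
    rw [D.act_mul hg hh, D.act_single hh, D.act_single hg, ← D.per_mul hg hh] at e
    rw [mv_mul]
    exact (Pi.single_injective _ e).symm

theorem mat_one (i : Fin 3) : D.mat 1 i = 1 :=
  mv_ext fun u => by
    have e := D.act_single (Commute.one_left _) i u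
    rw [D.act_one, D.per_one] at e
    rw [mv_one, Pi.single_injective _ e.symm]

theorem mat_Q {q : G} (hq : q ∈ D.Q) (i : Fin 3) : D.mat q i = 1 :=
  mv_ext fun u => by
    have e := D.act_single (D.comm_z q hq) i u
    rw [D.act_Q hq, D.per_Q hq] at e
    rw [mv_one, Pi.single_injective _ e.symm]

theorem act_fixed_per {g : G} (hg : Commute g D.z) (hp : ∀ i, D.per g i = i) (v : V) (i : Fin 3) :
    D.act g v i = mv (D.mat g i) (v i) := by
  conv_lhs => rw [← hp i]
  exact D.act_apply hg v i

/-- The permutation and the matrices determine an element modulo `Q`. -/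
theorem mem_Q_of_mat {g : G} (hg : Commute g D.z) (hp : ∀ i, D.per g i = i) (hm : ∀ i, D.mat g i = 1) : g ∈ D.Q :=
  D.mem_Q_of_act hg fun v => funext fun i => by rw [D.act_fixed_per hg hp, hm, mv_one]

theorem per_t (i j : Fin 3) : D.per (D.t i) j = j := D.per_P2 (D.t_mem i) j

theorem mat_t (i j : Fin 3) : D.mat (D.t i) j = if j = i then -1 else 1 :=
  mv_ext fun u => by
    have e := D.act_fixed_per (D.t_z i) (D.per_t i) (Pi.single j u) j
    rw [D.act_t, Pi.single_eq_same] at e
    rw [← e]
    by_cases h : j = i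
    · subst h; rw [if_pos rfl, flip_same, Pi.single_eq_same, mv_neg_one]
    · rw [if_neg h, flip_of_ne h, Pi.single_eq_same, mv_one]

end Data

end Cfsg.Lib.Fi22Three
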