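import Cfsg.Agent.Lib.Fi22Three.CentPoint

/-!
# An element supported on one plane is a sign
-/

set_option autoImplicit false
set_option linter.unusedSectionVars false
set_option maxRecDepth 4000
set_option synthInstance.maxSize 2000

namespace Cfsg.Lib.Fi22Three

open Subgroup
open scoped commutatorElement
open Cfsg.Lib.U6Three (zp zp_zero zp_one zp_mem SL3 sl_quat)

theorem sl_orders : ∀ m : SL3, m ^ 2 = 1 ∨ (m ^ 4 = 1 ∧ m ^ 2 ≠ 1) ∨ ((m * m) ^ 3 = 1 ∧ m * m ≠ 1) := by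
  decide +kernel

theorem sl_fourth : ∀ m : SL3, (m ^ 4) ^ 3 = 1 := by decide +kernel

theorem sl_fix_pair : ∀ (m : SL3) (a b : ZMod 3 × ZMod 3), pl a b ≠ 0 → mv m a = a → mv m b = b → m = 1 := by
  decide +kernel

namespace Data

variable {G : Type*} [Group G] [Finite G] (D : Data G)

/-- An element of the centraliser permutes the planes cyclically. -/
theorem exists_sigma : ∃ σ, Commute σ D.z ∧ ∀ i, D.per σ i ≠ i := by
  obtain ⟨g, hp⟩ := D.exists_pt
  obtain ⟨σ, hσ, hσp⟩ := hp.exists_cycle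
  exact ⟨σ, (D.mem_M.1 hσ).2, hσp⟩

/-- An element of the centraliser has order three on every plane. -/
theorem exists_moving : ∃ r ∈ D.K, ∀ i, D.mat r i ^ 3 = 1 ∧ D.mat r i ≠ 1 := by
  obtain ⟨g, hp⟩ := D.exists_pt
  have S := hp.twinSpec 0
  obtain ⟨e, he0, he⟩ := S.shape
  refine ⟨_, S.mem_K, fun i => ⟨D.mat_cube S.mem_K (k := 1) ?_ i, fun h1 => ?_⟩⟩
  · rw [pow_one, Data.twin, conj_pow, D.z_cube]; simp
  · obtain ⟨f, hf⟩ := exists_pl_one _ (hp.dir_ne i)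
    have h2 := he i f
    rw [h1, mv_one, hf, mul_one, left_eq_add, smul_eq_zero] at h2
    rcases h2 with h2 | h2
    exacts [he0 h2, hp.dir_ne i h2]

/-- An element supported on one plane is a sign. -/
theorem single_sign {i : Fin 3} {m : SL3} (h : D.Single i m) : m = 1 ∨ m = -1 := by
  refine sl_quat.1 m ?_
  obtain ⟨σ, hσ, hσp⟩ := D.exists_sigma
  obtain ⟨r, hr, hr'⟩ := D.exists_moving
  rcases sl_orders m with h2 | ⟨h4, h2⟩ | ⟨h6, h6'⟩
  · exact h2
  · exact D.no_single hσ hσp hr (hr' i).1 (hr' i).2 h h4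
  · exfalso
    obtain ⟨g, hg, hm, h1⟩ := h
    obtain ⟨p, hp, hp2⟩ := D.exists_four hσ hσp i
    have hgg : g * g ∈ D.K := mul_mem hg hg
    have hmg : D.mat (g * g) i = m * m := by rw [D.mat_mul_K hg hg, hm]
    obtain ⟨c4, c2⟩ := sl_comm_four _ _ h6 h6' (D.mat_P2_four hp i) hp2
    refine c2 (D.no_single hσ hσp hgg (hmg ▸ h6) (hmg ▸ h6')
      ⟨⁅g * g, p⁆, D.comm_mem_K hgg (D.P2_le_K hp), ?_, fun j hj => ?_⟩ c4)
    · rw [D.mat_comm_K hgg (D.P2_le_K hp), hmg]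
    · rw [D.mat_comm_K hgg (D.P2_le_K hp), D.mat_mul_K hg hg, h1 j hj]
      simp

end Data

end Cfsg.Lib.Fi22Three
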