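import Cfsg.Agent.Lib.Fi22Three.Sylow

/-!
# Conjugates of the central element inside the extraspecial subgroup
-/

set_option autoImplicit false
set_option linter.unusedSectionVars false
set_option maxRecDepth 4000
set_option synthInstance.maxSize 2000

namespace Cfsg.Lib.Fi22Three

open Subgroup
open scoped commutatorElement
open Cfsg.Lib.U6Three (zp zp_zero zp_one zp_mem SL3)

theorem exists_pl_one : ∀ u : ZMod 3 × ZMod 3, u ≠ 0 → ∃ f, pl u f = 1 := by decide +kernel

theorem pl_self (u : ZMod 3 × ZMod 3) : pl u u = 0 := by simp [pl, mul_comm]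

theorem pl_smul_right (c : ZMod 3) (u w : ZMod 3 × ZMod 3) : pl u (c • w) = c * pl u w := by
  simp only [pl, Prod.smul_fst, Prod.smul_snd, smul_eq_mul]; ring

theorem ω_sum (v w : V) : ω v w = pl (v 0) (w 0) + pl (v 1) (w 1) + pl (v 2) (w 2) := by
  simp only [ω, Fin.sum_univ_three]

theorem ω_neg_left (v w : V) : ω (-v) w = -ω v w :=
  eq_neg_of_add_eq_zero_left (by rw [← ω_add_left, neg_add_cancel]; simp [ω, pl])

theorem ω_neg_right (v w : V) : ω v (-w) = -ω v w := by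
  rw [ω_swap, ω_neg_left, ω_swap, neg_neg]

theorem ω_sub_left (v v' w : V) : ω (v - v') w = ω v w - ω v' w := by
  rw [sub_eq_add_neg, ω_add_left, ω_neg_left, ← sub_eq_add_neg]

theorem ω_sub_right (v w w' : V) : ω v (w - w') = ω v w - ω v w' := by
  rw [ω_swap, ω_sub_left, ω_swap v w, ω_swap v w']; ring

theorem fin3_third : ∀ i : Fin 3, ∃ j, j ≠ i := by decide

/-- A hyperbolic pair orthogonal to a nonzero vector. -/
theorem exists_pair_perp {v : V} {i : Fin 3} (hi : v i ≠ 0) :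
    ∃ a b : V, ω v a = 0 ∧ ω v b = 0 ∧ ω a b = 1 := by
  obtain ⟨f, hf⟩ := exists_pl_one _ hi
  obtain ⟨j, hj⟩ := fin3_third i
  refine ⟨Pi.single j (1, 0) + Pi.single i (-pl (v j) (1, 0) • f),
    Pi.single j (0, 1) + Pi.single i (-pl (v j) (0, 1) • f), ?_, ?_, ?_⟩
  · rw [ω_swap, ω_add_left, ω_single_left, ω_single_left]
    simp only [pl, Prod.smul_fst, Prod.smul_snd, smul_eq_mul] at hf ⊢
    linear_combination ((v j).2 * 1 - (v j).1 * (0 : ZMod 3)) * hf
  · rw [ω_swap, ω_add_left, ω_single_left, ω_single_left]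
    simp only [pl, Prod.smul_fst, Prod.smul_snd, smul_eq_mul] at hf ⊢
    linear_combination ((v j).2 * (0 : ZMod 3) - (v j).1 * 1) * hf
  · rw [ω_add_left, ω_single_left, ω_single_left]
    simp [Pi.single_eq_of_ne hj, Pi.single_eq_of_ne (Ne.symm hj), pl]
    ring

namespace Data

variable {G : Type*} [Group G] [Finite G] (D : Data G)

theorem Q_pgroup : IsPGroup 3 D.Q := IsPGroup.of_card (n := 7) (by rw [D.card_Q]; norm_num)

theorem Zc_conj_iff {g : G} : g⁻¹ * D.z * g ∈ D.Zc ↔ g * D.z * g⁻¹ ∈ D.Zc := by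
  have key : ∀ h : G, h * D.z * h⁻¹ ∈ D.Zc → h⁻¹ * D.z * h ∈ D.Zc := by
    intro h hh
    have hle : D.Zc.map (MulAut.conj h).toMonoidHom ≤ D.Zc := by
      rw [MonoidHom.map_zpowers]; exact zpowers_le.2 hh
    have he := eq_of_le_of_card_ge hle (card_map_of_injective (MulAut.conj h).injective).ge
    have hz' : D.z ∈ D.Zc.map (MulAut.conj h).toMonoidHom := by rw [he]; exact mem_zpowers D.z
    obtain ⟨w, hw, e⟩ := hz'

    rw [show D.z = h * w * h⁻¹ from e.symm]
    simpa [mul_assoc] using hw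
  exact ⟨fun h => by simpa using key g⁻¹ (by simpa using h), key g⟩

/-- Conjugating a commutator of `Q`. -/
theorem conj_comm {g a b : G} : g⁻¹ * ⁅a, b⁆ * g = ⁅g⁻¹ * a * g, g⁻¹ * b * g⁆ := by
  simp only [commutatorElement_def]; group

/-- A commutator in a 3-subgroup centralising a conjugate of `z` lies in the conjugate of `Q`. -/
theorem comm_conj_mem {g : G} {X : Subgroup G} (hX : IsPGroup 3 X) (hc : ∀ x ∈ X, Commute x (g * D.z * g⁻¹))
    {a b : G} (ha : a ∈ X) (hb : b ∈ X) : g⁻¹ * ⁅a, b⁆ * g ∈ D.Q := by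
  let X' : Subgroup G := X.map (MulAut.conj g⁻¹).toMonoidHom
  have hmem : ∀ {x}, x ∈ X → g⁻¹ * x * g ∈ X' := fun hx => ⟨_, hx, by simp⟩
  have hX' : D.IsThreeMod X' := D.isThreeMod_of_pGroup (hX.map _) fun x hx => by
    obtain ⟨w, hw, rfl⟩ := hx
    have := (Commute.conj_iff g⁻¹).2 (hc w hw)
    simpa [mul_assoc] using this
  rw [conj_comm]
  exact D.abelian_mod hX' (hmem ha) (hmem hb)

/-- A noncommutative piece of `Q` centralising a conjugate puts the centre in its subgroup. -/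
theorem mem_of_pair {g a b : G} (ha : a ∈ D.Q) (hb : b ∈ D.Q) (hab : ¬ Commute a b)
    (hca : Commute a (g * D.z * g⁻¹)) (hcb : Commute b (g * D.z * g⁻¹)) : g⁻¹ * D.z * g ∈ D.Q := by
  have h := D.comm_conj_mem (g := g) (X := D.Q ⊓ centralizer ({g * D.z * g⁻¹} : Set G))
    (D.Q_pgroup.to_le inf_le_left) (fun x hx => mem_centralizer_singleton_iff.1 hx.2)
    ⟨ha, mem_centralizer_singleton_iff.2 hca⟩ ⟨hb, mem_centralizer_singleton_iff.2 hcb⟩
  obtain ⟨k, hk⟩ := D.exists_zp (D.comm_Q a ha b hb)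
  have hk0 : k ≠ 0 := fun e => hab (commutatorElement_eq_one_iff_commute.1 (by rw [hk, e, zp_zero]))
  rw [hk] at h
  obtain rfl | rfl : k = 1 ∨ k = 2 := (show ∀ k : ZMod 3, k ≠ 0 → k = 1 ∨ k = 2 by decide) k hk0
  · rwa [zp_one] at h
  · have := inv_mem h
    rwa [show (g⁻¹ * zp D.z 2 * g)⁻¹ = g⁻¹ * D.z * g by
      rw [Cfsg.Lib.U6Three.zp, show ((2 : ZMod 3)).val = 2 from rfl,
        show D.z ^ 2 = D.z⁻¹ from eq_inv_of_mul_eq_one_left (by rw [← pow_succ, D.z_cube])]
      group] at this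

/-- The point relation is symmetric. -/
theorem mem_symm {g : G} (h : g * D.z * g⁻¹ ∈ D.Q) (hn : g * D.z * g⁻¹ ∉ D.Zc) :
    g⁻¹ * D.z * g ∈ D.Q ∧ g⁻¹ * D.z * g ∉ D.Zc := by
  refine ⟨?_, fun h' => hn (D.Zc_conj_iff.1 h')⟩
  obtain ⟨i, hi⟩ : ∃ i, D.vec (g * D.z * g⁻¹) i ≠ 0 := by
    by_contra hcon; push Not at hcon
    exact hn ((D.mem_Zc_iff h).2 (funext hcon))
  obtain ⟨a, b, ha, hb, hab⟩ := exists_pair_perp hi
  refine D.mem_of_pair (D.el_mem a) (D.el_mem b) ?_ ?_ ?_
  · rw [D.commute_iff (D.el_mem a) (D.el_mem b), D.vec_el, D.vec_el, hab]; decide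
  · exact ((D.commute_iff h (D.el_mem a)).2 (by rw [D.vec_el, ha])).symm
  · exact ((D.commute_iff h (D.el_mem b)).2 (by rw [D.vec_el, hb])).symm

/-- A conjugate of `z` centralised by a sign involution modulo the centre is centralised by it. -/
theorem commute_t_point {y : G} (hy : y ∈ D.Q) {i : Fin 3} (h : D.vec y i = 0) : Commute (D.t i) y :=
  (D.commute_t_iff hy).2 h

/-- Conjugates of `z` in `Q` outside the centre have full support. -/
theorem support_full {g : G} (h : g * D.z * g⁻¹ ∈ D.Q) (hn : g * D.z * g⁻¹ ∉ D.Zc) (i : Fin 3) :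
    D.vec (g * D.z * g⁻¹) i ≠ 0 := by
  intro hi
  obtain ⟨h', -⟩ := D.mem_symm h hn
  have hty := D.commute_t_point h hi
  set t' := g⁻¹ * D.t i * g with ht'
  have htz : Commute t' D.z := by
    have := (Commute.conj_iff g⁻¹).2 hty
    simpa [ht', mul_assoc] using this
  have htz' : Commute t' (g⁻¹ * D.z * g) := by
    have := (Commute.conj_iff g⁻¹).2 (D.t_z i)
    simpa [ht', mul_assoc] using this
  have ht2 : t' * t' = 1 := by
    rw [ht', show g⁻¹ * D.t i * g * (g⁻¹ * D.t i * g) = g⁻¹ * (D.t i * D.t i) * g by group, D.t_sq]; group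
  have ht1 : t' ∉ D.Q := fun hq => by
    have he : t' = 1 := Cfsg.Lib.U6Three.eq_one_of_coprime (by decide : Nat.Coprime 2 2187) (by rw [pow_two, ht2]) (D.pow_Q hq)
    rw [ht'] at he
    have := congrArg (fun u => g * u * g⁻¹) he
    simp only [mul_assoc, mul_inv_cancel_left, mul_inv_cancel, mul_one] at this
    exact D.t_ne_one i this
  set A := D.act t' with hA
  have hAA : ∀ v, A (A v) = v := fun v => by rw [hA, ← D.act_mul htz htz, ht2, D.act_one]
  obtain ⟨v₀, hv₀⟩ : ∃ v, A v ≠ v := by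
    by_contra hcon; push Not at hcon; exact ht1 (D.mem_Q_of_act htz hcon)
  set z' := g⁻¹ * D.z * g
  have hfix : A (D.vec z') = D.vec z' := by
    rw [hA, ← D.vec_conj htz h', htz'.eq, mul_inv_cancel_right]
  have hneg : ∀ v, A (v - A v) = -(v - A v) := fun v => by rw [hA, D.act_sub htz, ← hA, hAA]; abel
  have hperp : ∀ v, ω (D.vec z') (v - A v) = 0 := fun v => by
    have e1 : ω (D.vec z') (A v) = ω (D.vec z') v := by
      conv_lhs => rw [← hfix, hA, D.act_form htz]
    rw [ω_sub_right, e1, sub_self]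
  obtain ⟨w, hw⟩ : ∃ w, ω (v₀ - A v₀) w ≠ 0 := by
    by_contra hcon; push Not at hcon
    exact hv₀ (sub_eq_zero.1 (ω_eq_zero hcon)).symm
  set a := v₀ - A v₀
  set b := w - A w
  have hab : ω a b ≠ 0 := by
    have e1 : ω a (A w) = -ω a w := by
      have : A a = -a := hneg v₀
      have e : ω (A a) (A w) = ω a w := D.act_form htz a w
      rw [this, ω_neg_left] at e
      rw [← e, neg_neg]
    rw [show b = w - A w from rfl, ω_sub_right, e1]
    intro h0
    exact hw ((show ∀ k : ZMod 3, k - -k = 0 → k = 0 by decide) _ h0)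
  -- commutators with the involution lie in both extraspecial subgroups
  have key : ∀ v : V, A v = -v → ω (D.vec z') v = 0 →
      ∃ c ∈ D.Q, g * c * g⁻¹ ∈ D.Q ∧ D.vec c = v := by
    intro v hv hvz
    set q := D.el v with hq
    have hqz : Commute q z' := ((D.commute_iff h' (D.el_mem v)).2 (by rw [D.vec_el, hvz])).symm
    set m := g * q * g⁻¹ with hm
    have hmz : Commute m D.z := by
      have := (Commute.conj_iff g).2 hqz
      simpa [hm, z', mul_assoc] using this
    have hmy : Commute m (g * D.z * g⁻¹) := (Commute.conj_iff g).2 (D.comm_z q (D.el_mem v))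
    have hmv : D.act m (D.vec (g * D.z * g⁻¹)) = D.vec (g * D.z * g⁻¹) := by
      rw [← D.vec_conj hmz h, hmy.eq, mul_inv_cancel_right]
    have hm3 : ∃ k : ℕ, m ^ 3 ^ k ∈ D.Q :=
      ⟨7, by rw [hm, conj_pow, show q ^ 3 ^ 7 = 1 by rw [show (3 : ℕ) ^ 7 = 2187 from rfl]; exact D.pow_Q (D.el_mem v)]; simp⟩
    obtain ⟨k, hk⟩ := hm3
    have hper : D.per m i = i := by
      rcases fin3_cycle _ (D.per_cube hmz hk) with e | e
      · exact e i
      · exfalso
        refine hn ((D.mem_Zc_iff h).2 (funext fun j => ?_))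
        have h1 : ∀ l, D.vec (g * D.z * g⁻¹) l = 0 → D.vec (g * D.z * g⁻¹) (D.per m l) = 0 := fun l hl => by
          rw [← hmv, D.act_apply hmz, hl]; simp [mv]
        have hcov : j = i ∨ j = D.per m i ∨ j = D.per m (D.per m i) := by
          obtain ⟨o, ho1, ho2, ho⟩ := fin3_other i (D.per m i) (e i).symm
          rcases ho (D.per m (D.per m i)) with e' | e' | e'
          · exfalso
            rcases ho (D.per m o) with e2 | e2 | e2
            · exact ho2 (D.per_injective hmz (e2.trans e'.symm))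
            · exact ho1 (D.per_injective hmz e2)
            · exact e o e2
          · exact absurd e' (e _)
          · rcases ho j with e2 | e2 | e2
            exacts [Or.inl e2, Or.inr (Or.inl e2), Or.inr (Or.inr (e2.trans e'.symm))]
        rcases hcov with rfl | rfl | rfl
        exacts [hi, h1 _ hi, h1 _ (h1 _ hi)]
    have hcQ : ⁅D.t i, m⁆ ∈ D.Q := by
      have hcz : Commute ⁅D.t i, m⁆ D.z := by
        rw [commutatorElement_def]
        exact (((D.t_z i).mul_left hmz).mul_left (D.t_z i).inv_left).mul_left hmz.inv_left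
      refine D.mem_Q_of_act hcz fun u => ?_
      obtain ⟨u, rfl⟩ := D.act_surjective (hmz.mul_left (D.t_z i)) u
      rw [← D.act_mul hcz (hmz.mul_left (D.t_z i)), show ⁅D.t i, m⁆ * (m * D.t i) = D.t i * m by
        rw [commutatorElement_def]; group, D.act_mul (D.t_z i) hmz, D.act_mul hmz (D.t_z i), D.act_t, D.act_t,
        D.act_flip hmz, hper]
    refine ⟨⁅t', q⁆, (D.vec_comm htz (D.el_mem v)).1, ?_, ?_⟩
    · rwa [show g * ⁅t', q⁆ * g⁻¹ = ⁅D.t i, m⁆ by rw [ht', hm]; simp only [commutatorElement_def]; group]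
    · rw [(D.vec_comm htz (D.el_mem v)).2, D.vec_el, show D.act t' v = A v from rfl, hv]
      funext j
      exact (show ∀ u : ZMod 3 × ZMod 3, -u - u = u by decide) (v j)
  obtain ⟨c, hc, hcQ, hcv⟩ := key a (hneg v₀) (hperp v₀)
  obtain ⟨d, hd, hdQ, hdv⟩ := key b (hneg w) (hperp w)
  have hcd : ⁅c, d⁆ ∈ D.Zc := D.comm_Q c hc d hd
  have hcd' : g * ⁅c, d⁆ * g⁻¹ ∈ D.Zc := by
    rw [show g * ⁅c, d⁆ * g⁻¹ = ⁅g * c * g⁻¹, g * d * g⁻¹⁆ by simp only [commutatorElement_def]; group]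
    exact D.comm_Q _ hcQ _ hdQ
  rw [D.form_eq hc hd, hcv, hdv] at hcd'
  obtain e | e : ω a b = 1 ∨ ω a b = 2 := (show ∀ k : ZMod 3, k ≠ 0 → k = 1 ∨ k = 2 by decide) _ hab
  · rw [e, zp_one] at hcd'; exact hn hcd'
  · rw [e, Cfsg.Lib.U6Three.zp, show ((2 : ZMod 3)).val = 2 from rfl] at hcd'
    refine hn ?_
    have := mul_mem hcd' hcd'
    rwa [show g * D.z ^ 2 * g⁻¹ * (g * D.z ^ 2 * g⁻¹) = g * (D.z ^ 3 * D.z) * g⁻¹ by group, D.z_cube, one_mul] at this

/-- Two conjugates in `Q`, one in the subgroup of the other, with one component in proportion. -/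
theorem eq_of_component {g k : G} (hy : g * D.z * g⁻¹ ∈ D.Q) (hk : k * D.z * k⁻¹ ∈ D.Q)
    (hk' : g⁻¹ * (k * D.z * k⁻¹) * g ∈ D.Q) {i : Fin 3} {c : ZMod 3}
    (hi : D.vec (k * D.z * k⁻¹) i = c • D.vec (g * D.z * g⁻¹) i) :
    D.vec (k * D.z * k⁻¹) = c • D.vec (g * D.z * g⁻¹) := by
  set y := g * D.z * g⁻¹ with hy'
  set y' := k * D.z * k⁻¹ with hy''
  set w := g⁻¹ * y' * g with hw
  by_cases hwZ : w ∈ D.Zc
  · obtain ⟨n, hn⟩ := D.exists_zp hwZ
    have e : y' = zp y n := by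
      rw [hy', Cfsg.Lib.U6Three.zp, conj_pow, ← Cfsg.Lib.U6Three.zp, ← hn, hw]; group
    have e' : D.vec y' = n • D.vec y := by rw [e, D.vec_zp hy]
    rw [e'] at hi ⊢
    rcases eq_or_ne (D.vec y i) 0 with h0 | h0
    · have hZ : y ∈ D.Zc := by
        by_contra hnZ
        exact D.support_full (g := g) hy hnZ i h0
      rw [D.vec_Zc hZ, smul_zero, smul_zero]
    · have hnc : n = c := (show ∀ (n c : ZMod 3) (u : ZMod 3 × ZMod 3), u ≠ 0 → n • u = c • u → n = c by
        decide +kernel) n c _ h0 hi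
      rw [hnc]
  · obtain ⟨u, hu⟩ : ∃ u, ω u (D.vec w) = -c := by
      obtain ⟨j, hj⟩ : ∃ j, D.vec w j ≠ 0 := by
        by_contra hcon; push Not at hcon; exact hwZ ((D.mem_Zc_iff hk').2 (funext hcon))
      obtain ⟨f, hf⟩ := exists_pl_one _ hj
      refine ⟨Pi.single j (c • f), ?_⟩
      rw [ω_single_left]
      simp only [pl, Prod.smul_fst, Prod.smul_snd, smul_eq_mul] at hf ⊢
      linear_combination (-c) * hf
    have hwc : D.el u * w * (D.el u)⁻¹ = zp D.z (-c) * w := by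
      rw [Data.conj_eq, D.form_eq (D.el_mem u) hk', D.vec_el, hu]
    set k' := g * D.el u * g⁻¹ * k
    have e : k' * D.z * k'⁻¹ = zp y (-c) * y' := by
      rw [hy', Cfsg.Lib.U6Three.zp, conj_pow, ← Cfsg.Lib.U6Three.zp,
        show k' * D.z * k'⁻¹ = g * (D.el u * w * (D.el u)⁻¹) * g⁻¹ by simp only [k', hw, hy'']; group, hwc, hw]
      group
    have hmem : k' * D.z * k'⁻¹ ∈ D.Q := by rw [e]; exact mul_mem (zp_mem hy _) hk
    have hvec : D.vec (k' * D.z * k'⁻¹) = -c • D.vec y + D.vec y' := by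
      rw [e, D.vec_mul (zp_mem hy _) hk, D.vec_zp hy]
    have hZ : k' * D.z * k'⁻¹ ∈ D.Zc := by
      by_contra hnZ
      refine D.support_full (g := k') hmem hnZ i ?_
      rw [hvec, Pi.add_apply, Pi.smul_apply, hi, neg_smul, neg_add_cancel]
    have h0 := D.vec_Zc hZ
    rw [hvec, neg_smul, neg_add_eq_zero] at h0
    exact h0.symm

/-- The conjugate of a point by a sign involution lies outside the subgroup of the point. -/
theorem flip_outside {g : G} (h : g * D.z * g⁻¹ ∈ D.Q) (hn : g * D.z * g⁻¹ ∉ D.Zc) (j : Fin 3) :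
    g⁻¹ * (D.t j * (g * D.z * g⁻¹) * (D.t j)⁻¹) * g ∉ D.Q := by
  intro hq
  have e : D.t j * (g * D.z * g⁻¹) * (D.t j)⁻¹ = D.t j * g * D.z * (D.t j * g)⁻¹ := by group
  have hmem := D.norm_Q _ (D.t_z j) _ h
  have hv := D.vec_conj (D.t_z j) h
  rw [e] at hq hmem hv
  rw [D.act_t] at hv
  obtain ⟨l, hl⟩ := fin3_third j
  have h1 := D.eq_of_component h hmem hq (i := l) (c := 1) (by rw [hv, flip_of_ne hl, one_smul])
  rw [hv, one_smul, flip_eq_self] at h1
  exact D.support_full h hn j h1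

end Data

end Cfsg.Lib.Fi22Three
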