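import Cfsg.Agent.Lib.Fi22Three.Plane
import Cfsg.Agent.Lib.U6Three.Main

/-!
# The centraliser of a sign involution modulo the involution
-/

set_option autoImplicit false
set_option linter.unusedSectionVars false
set_option maxRecDepth 4000
set_option synthInstance.maxSize 4000
set_option linter.style.haveILetI false

namespace Cfsg.Lib.Fi22Three

open Subgroup
open scoped commutatorElement
open Cfsg.Lib.U6Three (zp zp_zero zp_one zp_mem SL3 sl_quat sl_card Quat2)

/-- The first generator. -/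
def qI : SL3 := ⟨!![0, -1; 1, 0], by decide⟩

/-- The second generator. -/
def qJ : SL3 := ⟨!![1, 1; 1, -1], by decide⟩

/-- The quaternion group inside `SL₂(3)`. -/
def qs : QuaternionGroup 2 → SL3
  | .a n => qI ^ n.val
  | .xa n => qJ * qI ^ n.val

theorem qs_mul : ∀ a b, qs (a * b) = qs a * qs b := by decide +kernel

theorem qs_four : ∀ a, qs a ^ 4 = 1 := by decide +kernel

theorem qs_eq_one : ∀ a, qs a = 1 → a = 1 := by decide +kernel

theorem qs_surj : ∀ m : SL3, m ^ 4 = 1 → ∃ a, qs a = m := by decide +kernel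

namespace Data

variable {G : Type*} [Group G] [Finite G] (D : Data G) (i : Fin 3)

/-- The centraliser of a sign involution. -/
noncomputable abbrev Ct : Subgroup G := centralizer ({D.t i} : Set G)

/-- The sign involution in its centraliser. -/
noncomputable def tC : D.Ct i := ⟨D.t i, mem_centralizer_singleton_iff.2 rfl⟩

/-- The group generated by the involution. -/
noncomputable def Tz : Subgroup (D.Ct i) := zpowers (D.tC i)

instance Tz_normal : (D.Tz i).Normal := ⟨fun n hn g => by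
  obtain ⟨k, rfl⟩ := mem_zpowers_iff.1 hn
  have hc : Commute g (D.tC i) := Subtype.ext (mem_centralizer_singleton_iff.1 g.2)
  rw [(hc.zpow_right k).eq, mul_inv_cancel_right]
  exact zpow_mem (mem_zpowers _) k⟩

/-- The quotient. -/
abbrev XQ : Type _ := ↥(D.Ct i) ⧸ D.Tz i

/-- The projection. -/
noncomputable abbrev π : D.Ct i →* D.XQ i := QuotientGroup.mk' (D.Tz i)

theorem π_eq {u v : D.Ct i} : D.π i u = D.π i v ↔ (v : G) = u ∨ (v : G) = u * D.t i := by
  rw [QuotientGroup.mk'_apply, QuotientGroup.mk'_apply, QuotientGroup.eq]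
  constructor
  · intro h
    obtain ⟨k, hk⟩ := mem_zpowers_iff.1 h
    have hk' : (u : G)⁻¹ * v = D.t i ^ k := (congrArg Subtype.val hk).symm
    rcases Int.even_or_odd' k with ⟨m, rfl | rfl⟩
    · left
      rw [zpow_mul, show D.t i ^ (2 : ℤ) = 1 by rw [zpow_two, D.t_sq], one_zpow, inv_mul_eq_one] at hk'
      exact hk'.symm
    · right
      rw [zpow_add, zpow_mul, show D.t i ^ (2 : ℤ) = 1 by rw [zpow_two, D.t_sq], one_zpow, zpow_one, one_mul,
        inv_mul_eq_iff_eq_mul] at hk'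
      exact hk'
  · intro h
    rcases h with h | h
    · rw [show v = u from Subtype.ext h, inv_mul_cancel]; exact one_mem _
    · rw [show v = u * D.tC i from Subtype.ext h, inv_mul_cancel_left]; exact mem_zpowers _

theorem t_not_Q : D.t i ∉ D.Q := fun h => D.t_ne_one i
  (Cfsg.Lib.U6Three.eq_one_of_coprime (by decide : Nat.Coprime 2 2187) (by rw [pow_two, D.t_sq]) (D.pow_Q h))

theorem π_eq_Q {u v : D.Ct i} (hu : (u : G) ∈ D.Q) (hv : (v : G) ∈ D.Q) (h : D.π i u = D.π i v) : u = v := by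
  rcases (D.π_eq i).1 h with e | e
  · exact Subtype.ext e.symm
  · exfalso
    refine D.t_not_Q i ?_
    have := mul_mem (inv_mem hu) hv
    rwa [e, inv_mul_cancel_left] at this

theorem π_commute_z {u : D.Ct i} {zC : D.Ct i} (hz : (zC : G) = D.z) :
    Commute (D.π i u) (D.π i zC) ↔ Commute (u : G) D.z := by
  constructor
  · intro h
    have h2 : D.π i (u * zC * u⁻¹) = D.π i zC := by
      rw [map_mul, map_mul, map_inv, h.eq, mul_inv_cancel_right]
    rcases (D.π_eq i).1 h2 with e | e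
    · simp only [Subgroup.coe_mul, Subgroup.coe_inv, hz] at e
      exact (mul_inv_eq_iff_eq_mul.1 e.symm)
    · exfalso
      simp only [Subgroup.coe_mul, Subgroup.coe_inv, hz] at e
      have h3 := congrArg (fun w => w ^ 3) e
      have hc : Commute ((u : G) * D.z * (u : G)⁻¹) (D.t i) := by
        have hu : Commute (u : G) (D.t i) := mem_centralizer_singleton_iff.1 u.2
        exact (hu.mul_left (D.t_z i).symm).mul_left hu.inv_left
      rw [hc.mul_pow, conj_pow, D.z_cube, mul_one, mul_inv_cancel, one_mul, pow_succ, pow_two, D.t_sq,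
        one_mul] at h3
      exact D.t_ne_one i h3.symm
  · intro h
    show _ = _
    rw [← map_mul, ← map_mul, show u * zC = zC * u from Subtype.ext (by simpa [hz] using h.eq)]

/-- An element of the complement commutes with the sign involutions. -/
theorem P2_comm_t {p : G} (hp : p ∈ D.P2) : Commute p (D.t i) :=
  D.P2_ext (mul_mem hp (D.t_mem i)) (mul_mem (D.t_mem i) hp) fun v => by
    rw [D.act_mul (D.P2_z p hp) (D.t_z i), D.act_mul (D.t_z i) (D.P2_z p hp), D.act_t, D.act_t]
    funext j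
    by_cases hj : j = i
    · subst hj
      rw [flip_same, D.act_of_maps (D.P2_z p hp) (D.maps_P2 hp), flip_same, mv_neg,
        D.act_of_maps (D.P2_z p hp) (D.maps_P2 hp)]
    · rw [flip_of_ne hj, D.act_of_maps (D.P2_z p hp) (D.maps_P2 hp), flip_of_ne hj,
        D.act_of_maps (D.P2_z p hp) (D.maps_P2 hp)]

/-- An element of the complement trivial on the other planes is the involution or trivial. -/
theorem P2_kernel {p : G} (hp : p ∈ D.P2) (h : ∀ l, l ≠ i → D.mat p l = 1) : p = 1 ∨ p = D.t i := by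
  have hK := D.P2_le_K hp
  have ext' : ∀ p', p' ∈ D.P2 → (∀ l, D.mat p l = D.mat p' l) → p = p' := fun p' hp' e =>
    D.P2_ext hp hp' fun v => funext fun l => by
      rw [D.act_fixed_per hK.1 hK.2, D.act_fixed_per (D.P2_z p' hp') (D.per_P2 hp'), e]
  rcases D.single_sign ⟨p, hK, rfl, h⟩ with e | e
  · refine Or.inl (ext' 1 (one_mem _) fun l => ?_)
    rw [D.mat_one]
    by_cases hl : l = i
    · rw [hl, e]
    · exact h l hl
  · refine Or.inr (ext' _ (D.t_mem i) fun l => ?_)
    rw [D.mat_t]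
    by_cases hl : l = i
    · rw [if_pos hl, hl, e]
    · rw [if_neg hl, h l hl]

/-- The complement realises every pair of fourth roots on the other planes. -/
theorem exists_pair {j k : Fin 3} (hj : j ≠ i) (hk : k ≠ i) (hjk : j ≠ k) {m n : SL3} (hm : m ^ 4 = 1) (hn : n ^ 4 = 1) :
    ∃ p ∈ D.P2, D.mat p j = m ∧ D.mat p k = n := by
  classical
  have hcov : ∀ l, l ≠ i → l = j ∨ l = k := fun l hl =>
    (show ∀ i j k l : Fin 3, j ≠ i → k ≠ i → j ≠ k → l ≠ i → l = j ∨ l = k by decide) i j k l hj hk hjk hl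
  let f : D.P2 → {m : SL3 // m ^ 4 = 1} × {m : SL3 // m ^ 4 = 1} := fun p =>
    (⟨D.mat p j, D.mat_P2_four p.2 j⟩, ⟨D.mat p k, D.mat_P2_four p.2 k⟩)
  let g : D.P2 → Set.range f × Bool := fun p => (⟨f p, p, rfl⟩, decide (p = Function.invFun f (f p)))
  have hg : Function.Injective g := by
    intro p p' e
    have h1 : f p = f p' := congrArg Subtype.val (congrArg Prod.fst e)
    have h2 : decide (p = Function.invFun f (f p)) = decide (p' = Function.invFun f (f p')) := congrArg Prod.snd e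
    rw [← h1] at h2
    have hr0 : f (Function.invFun f (f p)) = f p := Function.invFun_eq ⟨p, rfl⟩
    generalize Function.invFun f (f p) = r at h2 hr0
    have hr : f r = f p := hr0
    have key : ∀ q : D.P2, f q = f p → (q : G) = r ∨ (q : G) = r * D.t i := fun q hq => by
      have hq' : f q = f r := hq.trans hr.symm
      have hj' : D.mat (q : G) j = D.mat (r : G) j := congrArg (fun w => (w.1 : SL3)) hq'
      have hk' : D.mat (q : G) k = D.mat (r : G) k := congrArg (fun w => (w.2 : SL3)) hq'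
      rcases D.P2_kernel i (mul_mem (inv_mem r.2) q.2) fun l hl => by
          rw [D.mat_mul_K (inv_mem (D.P2_le_K r.2)) (D.P2_le_K q.2), D.mat_inv_K (D.P2_le_K r.2)]
          rcases hcov l hl with rfl | rfl
          · rw [hj', inv_mul_cancel]
          · rw [hk', inv_mul_cancel] with e' | e'
      · exact Or.inl (inv_mul_eq_one.1 e').symm
      · exact Or.inr (inv_mul_eq_iff_eq_mul.1 e')
    by_cases hp : p = r
    · rw [decide_eq_true hp] at h2
      rw [hp, of_decide_eq_true h2.symm]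
    · rw [decide_eq_false hp] at h2
      have hp' : p' ≠ r := of_decide_eq_false h2.symm
      refine Subtype.ext ?_
      rw [((key p rfl).resolve_left fun e' => hp (Subtype.ext e')),
        ((key p' h1.symm).resolve_left fun e' => hp' (Subtype.ext e'))]
  have hcard := Nat.card_le_card_of_injective g hg
  rw [D.card_P2, Nat.card_prod, Nat.card_eq_fintype_card (α := Bool), Fintype.card_bool] at hcard
  have htot : Nat.card ({m : SL3 // m ^ 4 = 1} × {m : SL3 // m ^ 4 = 1}) = 64 := by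
    rw [Nat.card_prod, sl_card.2]
  have huniv : Set.range f = Set.univ := Set.eq_of_subset_of_ncard_le (Set.subset_univ _)
    (by rw [Set.ncard_univ, htot, ← Nat.card_coe_set_eq]; omega)
  obtain ⟨p, hp⟩ : (⟨m, hm⟩, ⟨n, hn⟩) ∈ Set.range f := by rw [huniv]; exact Set.mem_univ _
  exact ⟨p, p.2, congrArg (fun w => (w.1 : SL3)) hp, congrArg (fun w => (w.2 : SL3)) hp⟩

/-- The first of the two other planes. -/
def jp : Fin 3 := i + 1

/-- The second of the two other planes. -/
def kp : Fin 3 := i + 2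

theorem jk_ne : jp i ≠ i ∧ kp i ≠ i ∧ jp i ≠ kp i := by
  revert i; decide

theorem jk_cover (l : Fin 3) (hl : l ≠ i) : l = jp i ∨ l = kp i := by
  revert i l; decide

/-- A lift of a pair of quaternion elements. -/
noncomputable def lift2 (a : Quat2) : D.P2 :=
  ⟨(D.exists_pair i (jk_ne i).1 (jk_ne i).2.1 (jk_ne i).2.2 (qs_four a.1) (qs_four a.2)).choose,
    (D.exists_pair i (jk_ne i).1 (jk_ne i).2.1 (jk_ne i).2.2 (qs_four a.1) (qs_four a.2)).choose_spec.1⟩

theorem lift2_mat (a : Quat2) : D.mat (D.lift2 i a) (jp i) = qs a.1 ∧ D.mat (D.lift2 i a) (kp i) = qs a.2 :=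
  (D.exists_pair i (jk_ne i).1 (jk_ne i).2.1 (jk_ne i).2.2 (qs_four a.1) (qs_four a.2)).choose_spec.2

/-- An element of the complement in the centraliser. -/
noncomputable def inC (p : D.P2) : D.Ct i := ⟨p, mem_centralizer_singleton_iff.2 (D.P2_comm_t i p.2).eq⟩

theorem π_P2 (p q : D.P2) (hj : D.mat p (jp i) = D.mat q (jp i)) (hk : D.mat p (kp i) = D.mat q (kp i)) :
    D.π i (D.inC i p) = D.π i (D.inC i q) := by
  refine (D.π_eq i).2 ?_
  rcases D.P2_kernel i (mul_mem (inv_mem p.2) q.2) fun l hl => by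
      rw [D.mat_mul_K (inv_mem (D.P2_le_K p.2)) (D.P2_le_K q.2), D.mat_inv_K (D.P2_le_K p.2)]
      rcases jk_cover i l hl with rfl | rfl
      · rw [hj, inv_mul_cancel]
      · rw [hk, inv_mul_cancel] with e | e
  · exact Or.inl (inv_mul_eq_one.1 e).symm
  · exact Or.inr (inv_mul_eq_iff_eq_mul.1 e)

/-- The embedding of `Q₈ × Q₈` in the quotient. -/
noncomputable def iota : Quat2 →* D.XQ i := MonoidHom.mk' (fun a => D.π i (D.inC i (D.lift2 i a))) fun a b => by
  rw [← map_mul]
  show D.π i (D.inC i (D.lift2 i (a * b))) = D.π i (D.inC i (D.lift2 i a * D.lift2 i b))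
  refine D.π_P2 i _ _ ?_ ?_
  · rw [(D.lift2_mat i _).1, Prod.fst_mul, qs_mul, Subgroup.coe_mul,
      D.mat_mul_K (D.P2_le_K (D.lift2 i a).2) (D.P2_le_K (D.lift2 i b).2), (D.lift2_mat i a).1, (D.lift2_mat i b).1]
  · rw [(D.lift2_mat i _).2, Prod.snd_mul, qs_mul, Subgroup.coe_mul,
      D.mat_mul_K (D.P2_le_K (D.lift2 i a).2) (D.P2_le_K (D.lift2 i b).2), (D.lift2_mat i a).2, (D.lift2_mat i b).2]

/-- The element `z` in the centraliser. -/
noncomputable def zC : D.Ct i := ⟨D.z, mem_centralizer_singleton_iff.2 (D.t_z i).symm.eq⟩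

/-- The elements of `Q` in the centraliser. -/
noncomputable def QC : Subgroup (D.Ct i) := D.Q.subgroupOf (D.Ct i)

theorem vec_QC {q : D.Ct i} (hq : q ∈ D.QC i) : D.vec (q : G) i = 0 :=
  (D.commute_t_iff (mem_subgroupOf.1 hq)).1 (show Commute _ _ from mem_centralizer_singleton_iff.1 q.2).symm

theorem exists_QC {v : V} (hv : v i = 0) : ∃ q ∈ D.QC i, D.vec (q : G) = v :=
  ⟨⟨D.el v, mem_centralizer_singleton_iff.2
      ((D.commute_t_iff (D.el_mem v)).2 (by rw [D.vec_el]; exact hv)).symm.eq⟩,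
    mem_subgroupOf.2 (D.el_mem v), D.vec_el v⟩

theorem card_QC : Nat.card (D.QC i) = 243 := by
  classical
  let A : AddSubgroup V :=
    { carrier := {v | v i = 0}
      zero_mem' := rfl
      add_mem' := fun {a b} ha hb => by
        show (a + b) i = 0
        rw [Pi.add_apply, show a i = 0 from ha, show b i = 0 from hb, add_zero]
      neg_mem' := fun {a} ha => by
        show (-a) i = 0
        rw [Pi.neg_apply, show a i = 0 from ha, neg_zero] }
  have hA : Nat.card A = 81 := by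
    rw [← card_fix_plane i, ← Fintype.card_subtype, ← Nat.card_eq_fintype_card]
    rfl
  have he : D.Q ⊓ D.Ct i = D.lift A := by
    ext q
    rw [mem_inf, mem_centralizer_singleton_iff]
    exact ⟨fun h => ⟨h.1, (D.commute_t_iff h.1).1 (show Commute _ _ from h.2).symm⟩,
      fun h => ⟨h.1, ((D.commute_t_iff h.1).2 h.2).symm.eq⟩⟩
  rw [QC, ← inf_subgroupOf_right, Nat.card_congr (subgroupOfEquivOfLe inf_le_right).toEquiv, he, D.card_lift, hA]

/-- Fixing the other planes modulo the centre. -/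
theorem mem_of_fix {g : G} (hg : Commute g D.z) (h : ∀ v : V, v i = 0 → D.act g v = v) :
    g ∈ D.Q ∨ g * D.t i ∈ D.Q := by
  have hper : ∀ l, l ≠ i → D.per g l = l := fun l hl => by
    have h1 := h (Pi.single l (1, 0)) (Pi.single_eq_of_ne (Ne.symm hl) _)
    rw [D.act_single hg] at h1
    by_contra hne
    have h2 := congrFun h1 l
    rw [Pi.single_eq_of_ne (Ne.symm hne), Pi.single_eq_same] at h2
    exact absurd h2 (by decide)
  have hperi : D.per g i = i := by
    by_contra hne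
    exact hne (D.per_injective hg (hper _ hne))
  have hall : ∀ l, D.per g l = l := fun l => by
    rcases eq_or_ne l i with rfl | hl
    exacts [hperi, hper l hl]
  have hmat : ∀ l, l ≠ i → D.mat g l = 1 := fun l hl => mv_ext fun u => by
    have h1 := congrFun (h (Pi.single l u) (Pi.single_eq_of_ne (Ne.symm hl) _)) l
    rw [D.act_fixed_per hg hall, Pi.single_eq_same] at h1
    rw [h1, mv_one]
  have hK : g ∈ D.K := ⟨hg, hall⟩
  rcases D.single_sign ⟨g, hK, rfl, hmat⟩ with e | e
  · refine Or.inl (D.mem_Q_iff.2 ⟨hK, fun l => ?_⟩)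
    rcases eq_or_ne l i with rfl | hl
    exacts [e, hmat l hl]
  · have htK := D.P2_le_K (D.t_mem i)
    refine Or.inr (D.mem_Q_iff.2 ⟨mul_mem hK htK, fun l => ?_⟩)
    rw [D.mat_mul_K hK htK, D.mat_t]
    rcases eq_or_ne l i with rfl | hl
    · rw [e, if_pos rfl, neg_mul_neg, one_mul]
    · rw [hmat l hl, if_neg hl, one_mul]

theorem act_fix_of_comm {u : D.Ct i} (hu : Commute (u : G) D.z)
    (h : ∀ q ∈ D.QC i, Commute (D.π i u) (D.π i q)) : ∀ q ∈ D.QC i, Commute (u : G) (q : G) := by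
  intro q hq
  have hm : u * q * u⁻¹ ∈ D.QC i := mem_subgroupOf.2 (D.norm_Q _ hu _ (mem_subgroupOf.1 hq))
  have e : D.π i (u * q * u⁻¹) = D.π i q := by
    rw [map_mul, map_mul, map_inv, (h q hq).eq, mul_inv_cancel_right]
  exact mul_inv_eq_iff_eq_mul.1 (congrArg Subtype.val (D.π_eq_Q i (mem_subgroupOf.1 hm) (mem_subgroupOf.1 hq) e))

variable {i}

/-- The data of a 3-centraliser of type `U₆(2)` in the quotient. -/
noncomputable def qdata {h : G} (ht : Commute (D.t i) h) (hc : Commute (h * D.z * h⁻¹) D.z)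
    (hn : h * D.z * h⁻¹ ∉ D.Zc) : Cfsg.Lib.U6Three.Data (D.XQ i) where
  z := D.π i (D.zC i)
  hz := by
    have h3 : D.π i (D.zC i) ^ 3 = 1 := by
      rw [← map_pow, show D.zC i ^ 3 = 1 from Subtype.ext D.z_cube, map_one]
    haveI : Fact (Nat.Prime 3) := ⟨Nat.prime_three⟩
    refine orderOf_eq_prime h3 fun e => D.z_ne ?_
    rw [← map_one (D.π i)] at e
    exact congrArg Subtype.val (D.π_eq_Q i (u := D.zC i) (v := 1) D.z_mem D.Q.one_mem e)
  Q := (D.QC i).map (D.π i)
  card_Q := by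
    rw [← D.card_QC i]
    refine (Nat.card_congr (Equiv.ofBijective (fun q : D.QC i => (⟨D.π i q, q, q.2, rfl⟩ : (D.QC i).map (D.π i)))
      ⟨fun q q' e => Subtype.ext (D.π_eq_Q i (mem_subgroupOf.1 q.2) (mem_subgroupOf.1 q'.2) (congrArg Subtype.val e)),
        ?_⟩)).symm
    rintro ⟨_, q, hq, rfl⟩
    exact ⟨⟨q, hq⟩, rfl⟩
  z_mem := ⟨D.zC i, mem_subgroupOf.2 D.z_mem, rfl⟩
  comm_z := by
    rintro _ ⟨q, hq, rfl⟩
    exact (D.π_commute_z i rfl).2 (D.comm_z _ (mem_subgroupOf.1 hq))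
  norm_Q := by
    intro g hg _ hq
    obtain ⟨u, rfl⟩ := QuotientGroup.mk'_surjective _ g
    obtain ⟨q, hq, rfl⟩ := hq
    exact ⟨u * q * u⁻¹, mem_subgroupOf.2 (D.norm_Q _ ((D.π_commute_z i rfl).1 hg) _ (mem_subgroupOf.1 hq)),
      by rw [map_mul, map_mul, map_inv]⟩
  center_Q := by
    rintro _ ⟨q, hq, rfl⟩ hall
    have hqQ := mem_subgroupOf.1 hq
    have hcom := D.act_fix_of_comm i (D.comm_z _ hqQ) fun r hr => hall _ ⟨r, hr, rfl⟩
    have hZ : (q : G) ∈ D.Zc := by
      refine (D.mem_Zc_iff hqQ).2 (funext fun l => ?_)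
      rcases eq_or_ne l i with rfl | hl
      · exact D.vec_QC _ hq
      · by_contra hne
        obtain ⟨f, hf⟩ := exists_pl_one _ hne
        obtain ⟨r, hr, hrv⟩ := D.exists_QC i (v := Pi.single l f) (Pi.single_eq_of_ne (Ne.symm hl) _)
        have h2 := (D.commute_iff hqQ (mem_subgroupOf.1 hr)).1 (hcom r hr)
        rw [hrv, ω_single_right, hf] at h2
        exact absurd h2 (by decide)
    obtain ⟨n, hn'⟩ := mem_zpowers_iff.1 hZ
    exact mem_zpowers_iff.2 ⟨n, by rw [← map_zpow]; congr 1; exact Subtype.ext hn'⟩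
  comm_Q := by
    rintro _ ⟨q, hq, rfl⟩ _ ⟨r, hr, rfl⟩
    obtain ⟨n, hn'⟩ := mem_zpowers_iff.1 (D.comm_Q _ (mem_subgroupOf.1 hq) _ (mem_subgroupOf.1 hr))
    exact mem_zpowers_iff.2 ⟨n, by rw [← map_zpow, ← map_commutatorElement]; congr 1; exact Subtype.ext hn'⟩
  cube_Q := by
    rintro _ ⟨q, hq, rfl⟩
    obtain ⟨n, hn'⟩ := mem_zpowers_iff.1 (D.cube_Q _ (mem_subgroupOf.1 hq))
    exact mem_zpowers_iff.2 ⟨n, by rw [← map_zpow, ← map_pow]; congr 1; exact Subtype.ext hn'⟩
  cent_Q := by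
    intro g hg hall
    obtain ⟨u, rfl⟩ := QuotientGroup.mk'_surjective _ g
    have hu := (D.π_commute_z i rfl).1 hg
    have hcom := D.act_fix_of_comm i hu fun r hr => hall _ ⟨r, hr, rfl⟩
    have hfix : ∀ v : V, v i = 0 → D.act (u : G) v = v := fun v hv => by
      obtain ⟨r, hr, hrv⟩ := D.exists_QC i hv
      rw [← hrv, ← D.vec_conj hu (mem_subgroupOf.1 hr), (hcom r hr).eq, mul_inv_cancel_right]
    -- replace `u` by the representative inside `Q`
    obtain ⟨w, hwQ, hwu⟩ : ∃ w : D.Ct i, (w : G) ∈ D.Q ∧ D.π i u = D.π i w := by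
      rcases D.mem_of_fix i hu hfix with h' | h'
      · exact ⟨u, h', rfl⟩
      · exact ⟨u * D.tC i, h', (D.π_eq i).2 (Or.inr rfl)⟩
    have hwC : w ∈ D.QC i := mem_subgroupOf.2 hwQ
    have hcom' := D.act_fix_of_comm i (D.comm_z _ hwQ) fun r hr => hwu ▸ hall _ ⟨r, hr, rfl⟩
    have hZ : (w : G) ∈ D.Zc := by
      refine (D.mem_Zc_iff hwQ).2 (funext fun l => ?_)
      rcases eq_or_ne l i with rfl | hl
      · exact D.vec_QC _ hwC
      · by_contra hne
        obtain ⟨f, hf⟩ := exists_pl_one _ hne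
        obtain ⟨r, hr, hrv⟩ := D.exists_QC i (v := Pi.single l f) (Pi.single_eq_of_ne (Ne.symm hl) _)
        have h2 := (D.commute_iff hwQ (mem_subgroupOf.1 hr)).1 (hcom' r hr)
        rw [hrv, ω_single_right, hf] at h2
        exact absurd h2 (by decide)
    obtain ⟨n, hn'⟩ := mem_zpowers_iff.1 hZ
    exact mem_zpowers_iff.2 ⟨n, by rw [hwu, ← map_zpow]; congr 1; exact Subtype.ext hn'⟩
  ι := D.iota i
  ι_inj := by
    refine (injective_iff_map_eq_one _).2 fun a ha => ?_
    have ha' : D.π i (D.inC i (D.lift2 i a)) = D.π i 1 := by rw [map_one]; exact ha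
    have h' := (D.π_eq i).1 ha'
    have hmats : D.mat (D.lift2 i a) (jp i) = 1 ∧ D.mat (D.lift2 i a) (kp i) = 1 := by
      rcases h' with e | e
      · rw [show ((D.lift2 i a : D.P2) : G) = 1 from e.symm, D.mat_one]; exact ⟨rfl, D.mat_one _⟩
      · rw [show ((D.lift2 i a : D.P2) : G) = D.t i from (mul_eq_one_iff_eq_inv.1 e.symm).trans (D.t_inv i),
          D.mat_t, D.mat_t, if_neg (jk_ne i).1, if_neg (jk_ne i).2.1]
        exact ⟨rfl, rfl⟩
    rw [(D.lift2_mat i a).1, (D.lift2_mat i a).2] at hmats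
    exact Prod.ext (qs_eq_one _ hmats.1) (qs_eq_one _ hmats.2)
  ι_z := fun a => (D.π_commute_z i rfl).2 (D.P2_z _ (D.lift2 i a).2)
  ι_normal := by
    intro g hg a
    obtain ⟨u, rfl⟩ := QuotientGroup.mk'_surjective _ g
    have hu := (D.π_commute_z i rfl).1 hg
    obtain ⟨p, hp, hq⟩ := D.P2_normal _ hu _ (D.lift2 i a).2
    obtain ⟨b1, hb1⟩ := qs_surj _ (D.mat_P2_four hp (jp i))
    obtain ⟨b2, hb2⟩ := qs_surj _ (D.mat_P2_four hp (kp i))
    refine ⟨(b1, b2), ?_⟩
    have e : D.iota i (b1, b2) = D.π i (D.inC i ⟨p, hp⟩) :=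
      D.π_P2 i _ _ ((D.lift2_mat i _).1.trans hb1) ((D.lift2_mat i _).2.trans hb2)
    rw [e]
    refine ⟨(D.inC i ⟨p, hp⟩)⁻¹ * (u * D.inC i (D.lift2 i a) * u⁻¹), mem_subgroupOf.2 hq, ?_⟩
    simp only [map_mul, map_inv]
    rfl
  wc := by
    intro g hg
    obtain ⟨u, rfl⟩ := QuotientGroup.mk'_surjective _ g
    obtain ⟨q, hq, e⟩ := hg
    rw [← map_inv, ← map_mul, ← map_mul] at e
    have e' : ((u * D.zC i * u⁻¹ : D.Ct i) : G) = q := by
      rcases (D.π_eq i).1 e with h' | h'
      · exact h'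
      · exfalso
        have hc' : Commute (q : G) (D.t i) := mem_centralizer_singleton_iff.1 q.2
        have h3 := congrArg (fun w => w ^ 3) h'
        simp only [Subgroup.coe_mul, Subgroup.coe_inv] at h3
        rw [hc'.mul_pow, conj_pow, show ((D.zC i : D.Ct i) : G) ^ 3 = 1 from D.z_cube, mul_one, mul_inv_cancel,
          pow_succ (D.t i), pow_two, D.t_sq, one_mul] at h3
        exact D.t_not_Q i ((eq_inv_of_mul_eq_one_right h3.symm).symm ▸ inv_mem (pow_mem (mem_subgroupOf.1 hq) 3))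
    have hZ : ((u * D.zC i * u⁻¹ : D.Ct i) : G) ∈ D.Zc := by
      by_contra hn'
      have hQ : ((u * D.zC i * u⁻¹ : D.Ct i) : G) ∈ D.Q := e' ▸ mem_subgroupOf.1 hq
      refine D.support_full hQ hn' i ?_
      show D.vec ((u * D.zC i * u⁻¹ : D.Ct i) : G) i = 0
      rw [e']; exact D.vec_QC i hq
    obtain ⟨n, hn'⟩ := mem_zpowers_iff.1 hZ
    exact mem_zpowers_iff.2 ⟨n, by rw [← map_zpow, ← map_inv, ← map_mul, ← map_mul]; congr 1; exact Subtype.ext hn'⟩
  nwc := by
    refine ⟨D.π i ⟨h, mem_centralizer_singleton_iff.2 ht.symm.eq⟩, ?_, fun hm => hn ?_⟩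
    · rw [← map_inv, ← map_mul, ← map_mul]
      exact (D.π_commute_z i rfl).2 hc
    · obtain ⟨n, hn'⟩ := mem_zpowers_iff.1 hm
      rw [← map_zpow, ← map_inv, ← map_mul, ← map_mul] at hn'
      rcases (D.π_eq i).1 hn' with e | e
      · exact mem_zpowers_iff.2 ⟨n, e.symm⟩
      · exfalso
        have h3 := congrArg (fun w => w ^ 3) e
        simp only [Subgroup.coe_mul, Subgroup.coe_inv, SubgroupClass.coe_zpow] at h3
        rw [show ((D.zC i : D.Ct i) : G) = D.z from rfl, ((D.t_z i).symm.zpow_left n).mul_pow, conj_pow, D.z_cube,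
          mul_one, mul_inv_cancel, ← zpow_natCast, ← zpow_mul, mul_comm, zpow_mul, zpow_natCast, D.z_cube, one_zpow,
          one_mul, pow_succ (D.t i), pow_two, D.t_sq, one_mul] at h3
        exact D.t_ne_one i h3.symm

end Data

end Cfsg.Lib.Fi22Three
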