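import Cfsg.Agent.Lib.Fi22Three.FullDatum
import Cfsg.Agent.Lib.Fischer.FromCent.Main
import Cfsg.Agent.Lib.CosetEnum.Fi22Aut

/-!
# The group is Fi₂₂ or its automorphism group
-/

set_option autoImplicit false
set_option linter.unusedSectionVars false
set_option linter.style.haveILetI false
set_option maxRecDepth 100000
set_option synthInstance.maxSize 4000

namespace Cfsg.Lib.Fi22Three

open Subgroup
open Cfsg.Lib.Fischer

/-- A group of index two over a simple one with trivial centraliser embeds as the automorphism group. -/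
theorem aut_of_index_two {G : Type*} [Group G] [Finite G] (N : Subgroup G) [N.Normal] (h2 : N.index = 2)
    (hc : centralizer (N : Set G) = ⊥) (e : N ≃* Cfsg.Spor.Fi22) : Nonempty (G ≃* MulAut Cfsg.Spor.Fi22) := by
  haveI : Finite Cfsg.Spor.Fi22 := Finite.of_equiv N e.toEquiv
  haveI := Cfsg.Lib.CosetEnum.Fi22Out.simple_fi22
  have hcen : center Cfsg.Spor.Fi22 = ⊥ := by
    refine ((center Cfsg.Spor.Fi22).normal_of_characteristic.eq_bot_or_eq_top).resolve_right fun h => ?_
    let : CommGroup Cfsg.Spor.Fi22 := Group.commGroupOfCenterEqTop h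
    have := IsSimpleGroup.prime_card (α := Cfsg.Spor.Fi22)
    rw [(show Cfsg.IsFi22 Cfsg.Spor.Fi22 from Cfsg.Lib.CosetEnum.Fi22Pres.isFi22).2] at this
    exact Nat.not_prime_mul (a := 2) (b := 32280875827200) (by decide) (by decide) this
  let ρ : G →* MulAut Cfsg.Spor.Fi22 :=
    (MulAut.congr e).toMonoidHom.comp (MulAut.conjNormal : G →* MulAut N)
  have hinj : Function.Injective ρ := by
    refine (MulAut.congr e).injective.comp ((injective_iff_map_eq_one _).2 fun x hx => ?_)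
    have hm : x ∈ centralizer (N : Set G) := fun u hu => by
      have h1 : x * u * x⁻¹ = u := by rw [← MulAut.conjNormal_apply x ⟨u, hu⟩, hx]; rfl
      exact (mul_inv_eq_iff_eq_mul.1 h1).symm
    rwa [hc, mem_bot] at hm
  have hInn : Nat.card (Cfsg.Inn Cfsg.Spor.Fi22) = Nat.card Cfsg.Spor.Fi22 := by
    have hinjc : Function.Injective (MulAut.conj : Cfsg.Spor.Fi22 →* MulAut Cfsg.Spor.Fi22) := by
      refine (injective_iff_map_eq_one _).2 fun x hx => ?_
      have hz : x ∈ center Cfsg.Spor.Fi22 := mem_center_iff.2 fun g =>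
        (mul_inv_eq_iff_eq_mul.1 (DFunLike.congr_fun hx g : x * g * x⁻¹ = g)).symm
      rwa [hcen, mem_bot] at hz
    exact (Nat.card_congr (MonoidHom.ofInjective hinjc).toEquiv).symm
  have hM : Nat.card (MulAut Cfsg.Spor.Fi22) = Nat.card G := by
    rw [← N.card_mul_index, h2, Nat.card_congr e.toEquiv,
      Subgroup.card_eq_card_quotient_mul_card_subgroup (Cfsg.Inn Cfsg.Spor.Fi22), hInn,
      show Nat.card (MulAut Cfsg.Spor.Fi22 ⧸ Cfsg.Inn Cfsg.Spor.Fi22) = 2 from Cfsg.Lib.CosetEnum.Fi22Out.card_out,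
      mul_comm]
  haveI : Finite (MulAut Cfsg.Spor.Fi22) := Nat.finite_of_card_ne_zero (by rw [hM]; exact Nat.card_pos.ne')
  exact ⟨MulEquiv.ofBijective ρ ((Nat.bijective_iff_injective_and_card ρ).2 ⟨hinj, hM.symm⟩)⟩

namespace Base

variable {G : Type*} [Group G] [Finite G] {D : Data G} (B : Base D)

include B in
/-- The group is Fi₂₂ or its automorphism group. -/
theorem recognise : Cfsg.Spor.IsoFi22 G ∨ Nonempty (G ≃* MulAut Cfsg.Spor.Fi22) := by
  classical
  obtain ⟨D₀, a₀, F, iF, iF', hfin, hF, S⟩ := B.exists_datum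
  obtain ⟨d, hd⟩ : ∃ d, d = D.t B.i := ⟨_, rfl⟩
  rw [← hd] at S
  set C := conjugatesOf d with hCdef
  have hdC : d ∈ C := mem_conjugatesOf_self
  obtain ⟨N, hN⟩ : ∃ N, N = Subgroup.closure C := ⟨_, rfl⟩
  have hCN : ∀ {x}, x ∈ C → x ∈ N := fun hx => hN ▸ subset_closure hx
  haveI hNn : N.Normal := ⟨fun n hn g => by
    rw [hN] at hn ⊢
    induction hn using Subgroup.closure_induction with
    | mem y hy => exact subset_closure (S.conj g y hy)
    | one => simp
    | mul u v _ _ hu hv => simpa [mul_assoc] using mul_mem hu hv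
    | inv u _ hu => simpa [mul_assoc] using inv_mem hu⟩
  obtain ⟨C1, hC1⟩ : ∃ C1 : Set N, C1 = Subtype.val ⁻¹' C := ⟨_, rfl⟩
  have hconjN : ∀ a ∈ C, ∀ b ∈ C, ∃ n ∈ N, n * a * n⁻¹ = b := fun a ha b hb => hN ▸ S.conj_closure ha hb
  have hm1 : ∀ x : N, x ∈ C1 ↔ (x : G) ∈ C := fun x => by rw [hC1]; rfl
  have S1 : FromCent.Datum C1 D₀ a₀ hF := by
    refine ⟨S.model, ⟨⟨d, hCN hdC⟩, hC1 ▸ hdC⟩, fun a ha => Subtype.ext (S.sq a ((hm1 a).1 ha)),
      fun a ha h => S.ne_one a ((hm1 a).1 ha) (congrArg Subtype.val h),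
      fun g a ha => ?_, fun a ha b hb => ?_, fun a ha => ?_⟩
    · rw [hC1] at ha ⊢
      exact S.conj g a ha
    · rw [hC1] at ha hb
      obtain ⟨n, hn, e⟩ := hconjN _ ha _ hb
      exact ⟨⟨n, hn⟩, Subtype.ext e⟩
    rw [hC1] at ha
    obtain ⟨A, hq, hcent, ⟨L⟩⟩ := S.loc (a : G) ha
    have hA : A ≤ N := by
      rw [← S.closure_perp_eq ha hq L, closure_le]
      exact fun y hy => hCN hy.1
    refine ⟨A.subgroupOf N, Cfsg.Lib.Core.quasisimple_congr hq (subgroupOfEquivOfLe hA).symm, fun z hz hc => ?_, ⟨?_⟩⟩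
    · rcases hcent z (congrArg Subtype.val hz.eq) fun x hx =>
          congrArg Subtype.val (hc ⟨x, hA hx⟩ (mem_subgroupOf.2 hx)).eq with e | e
      · exact Or.inl (Subtype.ext e)
      · exact Or.inr (Subtype.ext e)
    exact
      { φ := fun x => L.φ (x : G)
        le := fun x hx => Subtype.ext (L.le _ hx).eq
        self_mem := L.self_mem
        perp_le := fun x hx hxa => L.perp_le _ ((hm1 x).1 hx) (congrArg Subtype.val hxa.eq)
        map_mul := fun x y hx hy => L.map_mul _ _ hx hy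
        inj := fun x y hx hy h => Subtype.ext (L.inj _ _ hx hy h)
        mem := fun x hx => L.mem _ hx
        surj := fun y hy => by
          obtain ⟨x, hx, e⟩ := L.surj y hy
          exact ⟨⟨x, hA hx⟩, hx, e⟩
        base := L.base
        class_iff := fun x hx => (hm1 x).trans (L.class_iff _ hx) }
  have hgen : Subgroup.closure C1 = ⊤ := by
    rw [eq_top_iff]
    rintro ⟨x, hx⟩ -
    have hle : N ≤ (Subgroup.closure C1).map N.subtype := by
      conv_lhs => rw [hN]
      rw [closure_le]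
      exact fun y hy => ⟨⟨y, hCN hy⟩, subset_closure (hC1 ▸ hy), rfl⟩
    obtain ⟨y, hy, e⟩ := hle hx
    rwa [show y = (⟨x, hx⟩ : N) from Subtype.ext e] at hy
  have hconj : C1 = conjugatesOf (⟨d, hCN hdC⟩ : N) := by
    ext x
    rw [hC1]
    constructor
    · intro hx
      obtain ⟨n, hn, e⟩ := hconjN d hdC _ hx
      exact isConj_iff.2 ⟨⟨n, hn⟩, Subtype.ext e⟩
    · intro hx
      obtain ⟨n, hn⟩ := isConj_iff.1 hx
      rw [← hn]
      exact S.conj n d hdC
  obtain ⟨f, -⟩ := Fi22Recog.exists_iso (S1.m22 hconj hgen) (hconj ▸ mem_conjugatesOf_self : (⟨d, hCN hdC⟩ : N) ∈ C1)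
  -- the centraliser is trivial
  have hcN : centralizer (N : Set G) = ⊥ := by
    refine (eq_bot_iff_forall _).2 fun z hz => ?_
    have hall : ∀ y ∈ C, Commute z y := fun y hy => (mem_centralizer_iff.1 hz y (hCN hy)).symm
    refine ((S.eq_or_eq hdC (hall d hdC) fun y hy => hall y hy.1)).resolve_right fun e => ?_
    have hcen : (⟨d, hCN hdC⟩ : N) ∈ center N := mem_center_iff.2 fun n => Subtype.ext (e ▸ mem_centralizer_iff.1 hz n n.2)
    rw [S1.center_bot, mem_bot] at hcen
    exact S.ne_one d hdC (congrArg Subtype.val hcen)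
  by_cases htop : N = ⊤
  · exact Or.inl ⟨((MulEquiv.subgroupCongr htop).trans topEquiv).symm.trans f.symm⟩
  refine Or.inr (aut_of_index_two N ?_ hcN f.symm)
  -- the inner half lies in the subgroup
  have hC0 : B.C0 ≤ N := by
    obtain ⟨A, hq, -, ⟨L⟩⟩ := S.loc d hdC
    have hA : A ≤ N := by
      rw [← S.closure_perp_eq hdC hq L, closure_le]
      exact fun y hy => hCN hy.1
    intro x hx
    by_contra hxN
    have hAt : A ≤ B.C0 := by
      rw [← S.closure_perp_eq hdC hq L, closure_le]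
      intro y hy
      exact B.mem_of_conj (mem_centralizer_singleton_iff.2 (hd ▸ hy.2.2.eq.symm)) (hd ▸ hy.1)
    have hNC : (N.subgroupOf B.C0).Normal := hNn.subgroupOf B.C0
    rcases FromCent.normal_cases B.quasisimple hNC with h | h
    · rw [B.center_eq] at h
      obtain ⟨y, hy⟩ := S.perp_nonempty hdC
      have hyA : y ∈ A := S.closure_perp_eq hdC hq L ▸ subset_closure hy
      rcases (B.ker ⟨y, hAt hyA⟩).1 (h (mem_subgroupOf.2 (hA hyA))) with e | e
      · exact S.ne_one y hy.1 e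
      · exact hy.2.1 (e.trans hd.symm)
    · exact hxN (subgroupOf_eq_top.1 h hx)
  rw [Subgroup.index_eq_two_iff]
  obtain ⟨g, hg⟩ : ∃ g, g ∉ N := by
    by_contra hcon
    push Not at hcon
    exact htop (eq_top_iff.2 fun x _ => hcon x)
  have hdec : ∀ x : G, ∃ n ∈ N, ∃ c ∈ D.Ct B.i, x = n * c := fun x => by
    obtain ⟨n, hn, e⟩ := hconjN d hdC _ (S.conj x d hdC)
    refine ⟨n, hn, n⁻¹ * x, mem_centralizer_singleton_iff.2 (mul_inv_eq_iff_eq_mul.1 ?_), by group⟩
    rw [← hd]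
    calc n⁻¹ * x * d * (n⁻¹ * x)⁻¹ = n⁻¹ * (x * d * x⁻¹) * n := by group
      _ = d := by rw [← e]; group
  refine ⟨g, fun x => ?_⟩
  by_cases hx : x ∈ N
  · exact Or.inr ⟨hx, fun h => hg (by simpa using mul_mem (inv_mem hx) h)⟩
  refine Or.inl ⟨?_, hx⟩
  obtain ⟨n, hn, c, hc, rfl⟩ := hdec x
  obtain ⟨n', hn', c', hc', rfl⟩ := hdec g
  have hc0 : c ∉ B.C0 := fun h => hx (mul_mem hn (hC0 h))
  have hc0' : c' ∉ B.C0 := fun h => hg (mul_mem hn' (hC0 h))
  rw [show n * c * (n' * c') = n * (c * n' * c⁻¹) * (c * c') by group]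
  exact mul_mem (mul_mem hn (hNn.conj_mem _ hn' c)) (hC0 (B.mul_mem_of_not hc hc' hc0 hc0'))

end Base

end Cfsg.Lib.Fi22Three
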