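import Cfsg.Agent.Lib.Fi22Three.Moved

/-!
# Elements acting on every plane as transvections, and fixed points of the sign involutions
-/

set_option autoImplicit false
set_option linter.unusedSectionVars false
set_option maxRecDepth 4000
set_option synthInstance.maxSize 2000

namespace Cfsg.Lib.Fi22Three

open Subgroup
open scoped commutatorElement
open Cfsg.Lib.U6Three (zp zp_zero zp_one zp_mem SL3)

theorem pl_flip {i j : Fin 3} {v : V} {u : ZMod 3 × ZMod 3} (h : pl u (v j) = 0) : pl u (flip i v j) = 0 := by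
  by_cases hj : j = i
  · subst hj; rw [flip_same, pl_neg_right, h, neg_zero]
  · rw [flip_of_ne hj, h]

theorem sl_three_shape : ∀ m : SL3, m ^ 3 = 1 →
    ∃ e : ZMod 3, e ≠ 0 ∧ ∃ u : ZMod 3 × ZMod 3, ∀ w, mv m w = w + (e * pl u w) • u := by
  decide +kernel

theorem card_pl_zero : ∀ u : ZMod 3 × ZMod 3,
    (Finset.univ.filter fun w => pl u w = 0).card = if u = 0 then 9 else 3 := by
  decide +kernel

theorem card_multiples : ∀ u : ZMod 3 × ZMod 3,
    (Finset.univ.filter fun w => ∃ c : ZMod 3, w = c • u).card = if u = 0 then 1 else 3 := by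
  decide +kernel

namespace Data

variable {G : Type*} [Group G] [Finite G] (D : Data G)

/-- The multiples of the components. -/
def rangeSet (u : V) : AddSubgroup V where
  carrier := {w | ∀ i, ∃ c : ZMod 3, w i = c • u i}
  zero_mem' := fun i => ⟨0, by simp⟩
  add_mem' := fun ha hb i => by
    obtain ⟨c, hc⟩ := ha i; obtain ⟨d, hd⟩ := hb i
    exact ⟨c + d, by rw [Pi.add_apply, hc, hd, add_smul]⟩
  neg_mem' := fun ha i => by
    obtain ⟨c, hc⟩ := ha i
    exact ⟨-c, by rw [Pi.neg_apply, hc, neg_smul]⟩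

theorem card_lineSet' (u : V) : Nat.card (lineSet u) = ∏ i, if u i = 0 then 9 else 3 := by
  classical
  let e : lineSet u ≃ (∀ i, {w : ZMod 3 × ZMod 3 // pl (u i) w = 0}) :=
    { toFun := fun w i => ⟨w.1 i, w.2 i⟩
      invFun := fun f => ⟨fun i => (f i).1, fun i => (f i).2⟩
      left_inv := fun _ => rfl
      right_inv := fun _ => rfl }
  rw [Nat.card_congr e, Nat.card_pi]
  exact Finset.prod_congr rfl fun i _ => by rw [Nat.card_eq_fintype_card, Fintype.card_subtype, card_pl_zero]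

theorem card_rangeSet (u : V) : Nat.card (rangeSet u) = ∏ i, if u i = 0 then 1 else 3 := by
  classical
  let e : rangeSet u ≃ (∀ i, {w : ZMod 3 × ZMod 3 // ∃ c : ZMod 3, w = c • u i}) :=
    { toFun := fun w i => ⟨w.1 i, w.2 i⟩
      invFun := fun f => ⟨fun i => (f i).1, fun i => (f i).2⟩
      left_inv := fun _ => rfl
      right_inv := fun _ => rfl }
  rw [Nat.card_congr e, Nat.card_pi]
  exact Finset.prod_congr rfl fun i _ => by rw [Nat.card_eq_fintype_card, Fintype.card_subtype, card_multiples]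

theorem rangeSet_le (u : V) : rangeSet u ≤ lineSet u := fun w hw i => by
  obtain ⟨c, hc⟩ := hw i
  rw [hc, pl_smul_right, pl_self, mul_zero]

theorem ω_range_line {u w r : V} (hw : w ∈ rangeSet u) (hr : r ∈ lineSet u) : ω w r = 0 := by
  refine Finset.sum_eq_zero fun i _ => ?_
  obtain ⟨c, hc⟩ := hw i
  have h : pl (u i) (r i) = 0 := hr i
  rw [hc]
  simp only [pl, Prod.smul_fst, Prod.smul_snd, smul_eq_mul] at h ⊢
  linear_combination c * h

/-- An element acting on every plane as a transvection or trivially. -/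
structure Tr (x : G) (u : V) (e : Fin 3 → ZMod 3) : Prop where
  comm_z : Commute x D.z
  mem_K : x ∈ D.K
  e_ne : ∀ i, e i ≠ 0
  eq : ∀ i w, mv (D.mat x i) w = w + (e i * pl (u i) w) • u i

theorem exists_Tr {x : G} (hx : x ∈ D.K) {k : ℕ} (hk : x ^ 3 ^ k ∈ D.Q) : ∃ u e, D.Tr x u e := by
  choose e he0 u hu using fun i => sl_three_shape _ (D.mat_cube hx hk i)
  exact ⟨u, e, hx.1, hx, he0, hu⟩

variable {D}

theorem Tr.act_eq {x : G} {u : V} {e : Fin 3 → ZMod 3} (h : D.Tr x u e) (v : V) (i : Fin 3) :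
    D.act x v i = v i + (e i * pl (u i) (v i)) • u i := by
  rw [D.act_fixed_per h.comm_z h.mem_K.2, h.eq]

theorem Tr.fixed_iff {x : G} {u : V} {e : Fin 3 → ZMod 3} (h : D.Tr x u e) {v : V} :
    D.act x v = v ↔ v ∈ lineSet u := by
  constructor
  · intro hv i
    have h2 := congrFun hv i
    rw [h.act_eq, add_eq_left, smul_eq_zero] at h2
    rcases h2 with h2 | h2
    · exact (mul_eq_zero.1 h2).resolve_left (h.e_ne i)
    · rw [h2]; simp [pl]
  · intro hv
    funext i
    rw [h.act_eq, show pl (u i) (v i) = 0 from hv i, mul_zero, zero_smul, add_zero]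

theorem Tr.comm_range {x : G} {u : V} {e : Fin 3 → ZMod 3} (h : D.Tr x u e) (v : V) :
    D.act x v - v ∈ rangeSet u := fun i => ⟨e i * pl (u i) (v i), by rw [Pi.sub_apply, h.act_eq, add_sub_cancel_left]⟩

/-- An element with range coordinates is a commutator with `x` up to the centre. -/
theorem Tr.exists_comm {x : G} {u : V} {e : Fin 3 → ZMod 3} (h : D.Tr x u e) {d : G} (hd : d ∈ D.Q)
    (hv : D.vec d ∈ rangeSet u) : ∃ c ∈ D.Q, ∃ w ∈ D.Zc, d = w * ⁅c, x⁆ := by
  classical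
  have hf : ∀ i, ∃ f, u i = 0 ∨ pl (u i) f = 1 := fun i => by
    rcases eq_or_ne (u i) 0 with h0 | h0
    · exact ⟨0, Or.inl h0⟩
    · obtain ⟨f, hf⟩ := exists_pl_one _ h0; exact ⟨f, Or.inr hf⟩
  choose f hf using hf
  choose b hb using hv
  set r : V := fun j => (-(e j * b j)) • f j with hr
  have hm := (D.vec_comm h.comm_z (D.el_mem r)).1
  have hcv : D.vec ⁅D.el r, x⁆ = D.vec d := by
    rw [← commutatorElement_inv x (D.el r), D.vec_inv hm, (D.vec_comm h.comm_z (D.el_mem r)).2, D.vec_el]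
    funext j
    rw [Pi.neg_apply, Pi.sub_apply, h.act_eq, add_sub_cancel_left, hb j]
    rcases hf j with h0 | h0
    · rw [h0]; simp
    · rw [hr, pl_smul_right, h0, mul_one, ← neg_smul]
      congr 1
      rcases (show ∀ a : ZMod 3, a ≠ 0 → a = 1 ∨ a = -1 by decide) (e j) (h.e_ne j) with e' | e' <;> rw [e'] <;> ring
  have hcm : ⁅D.el r, x⁆ ∈ D.Q := by rw [← commutatorElement_inv x (D.el r)]; exact inv_mem hm
  exact ⟨D.el r, D.el_mem r, _, D.div_mem_Zc hd hcm hcv.symm, by group⟩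

/-- The sign involutions fix a conjugate of `x` when the three lines centralise it. -/
theorem Tr.exists_fixed {x : G} {v : V} {e : Fin 3 → ZMod 3} (hT : D.Tr x v e) (hv : ∀ i, v i ≠ 0)
    (hc : ∀ q ∈ D.lines v, Commute x q) : ∃ q ∈ D.Q, ∀ i, Commute (D.t i) (q * x * q⁻¹) := by
  classical
  choose f hf using fun i => exists_pl_one (v i) (hv i)
  have hlinesT : ∀ i, ∀ l ∈ D.lines v, D.t i * l * (D.t i)⁻¹ ∈ D.lines v := fun i l hl =>
    ⟨D.norm_Q _ (D.t_z i) _ hl.1, fun j => by rw [D.vec_conj (D.t_z i) hl.1, D.act_t]; exact pl_flip (hl.2 j)⟩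
  have key : ∀ i, ∃ c ∈ D.Q, D.t i * x * (D.t i)⁻¹ = c * x * c⁻¹ ∧ ∀ j, j ≠ i → pl (v j) (D.vec c j) = 0 := by
    intro i
    have ht := D.t_z i
    have hxi : Commute (D.t i * x * (D.t i)⁻¹) D.z := (ht.mul_left hT.comm_z).mul_left ht.inv_left
    have hact : ∀ w, D.act (D.t i * x * (D.t i)⁻¹) w = D.act x w := fun w => by
      rw [D.act_mul (ht.mul_left hT.comm_z) ht.inv_left, D.act_mul ht hT.comm_z, D.t_inv, D.act_t, D.act_t]
      funext j
      by_cases hj : j = i
      · subst hj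
        rw [flip_same, D.act_fixed_per hT.comm_z hT.mem_K.2, D.act_fixed_per hT.comm_z hT.mem_K.2, flip_same,
          mv_neg, neg_neg]
      · rw [flip_of_ne hj, D.act_fixed_per hT.comm_z hT.mem_K.2, D.act_fixed_per hT.comm_z hT.mem_K.2, flip_of_ne hj]
    set d := D.t i * x * (D.t i)⁻¹ * x⁻¹ with hd
    have hdz : Commute d D.z := hxi.mul_left hT.comm_z.inv_left
    have hdQ : d ∈ D.Q := D.mem_Q_of_act hdz fun w => by
      rw [hd, D.act_mul hxi hT.comm_z.inv_left, hact, D.act_cancel_inv hT.comm_z]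
    have hdL : d ∈ D.lines v := by
      refine D.mem_lines_of_comm hv hdQ fun l hl => ?_
      have h1 : Commute x l := hc l hl
      have h2 : Commute (D.t i * x * (D.t i)⁻¹) l := by
        have h := (Commute.conj_iff (D.t i)).2 (hc _ (hlinesT i l hl))
        rwa [show D.t i * (D.t i * l * (D.t i)⁻¹) * (D.t i)⁻¹ = (D.t i * D.t i) * l * (D.t i * D.t i)⁻¹ by group,
          D.t_sq, one_mul, inv_one, mul_one] at h
      exact h2.mul_left h1.inv_left
    -- solve for the commutator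
    choose b hb using fun j => (pl_zero_iff (v j) (D.vec d j) (hv j)).1 (hdL.2 j)
    set u : V := fun j => (-(e j * b j)) • f j with hu
    set c := D.el u
    have hcQ : c ∈ D.Q := D.el_mem u
    have hcv : D.vec ⁅c, x⁆ = D.vec d := by
      rw [← commutatorElement_inv x c, D.vec_inv (D.vec_comm hT.comm_z hcQ).1, (D.vec_comm hT.comm_z hcQ).2,
        D.vec_el]
      funext j
      rw [Pi.neg_apply, Pi.sub_apply, D.act_fixed_per hT.comm_z hT.mem_K.2, hT.eq, hu, add_sub_cancel_left,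
        pl_smul_right, hf, mul_one, hb, ← neg_smul]
      congr 1
      rcases (show ∀ a : ZMod 3, a ≠ 0 → a = 1 ∨ a = -1 by decide) (e j) (hT.e_ne j) with e' | e' <;> rw [e'] <;> ring
    have hcm : ⁅c, x⁆ ∈ D.Q := by rw [← commutatorElement_inv x c]; exact inv_mem (D.vec_comm hT.comm_z hcQ).1
    obtain ⟨n, hn⟩ := D.exists_zp (D.div_mem_Zc hdQ hcm hcv.symm)
    have e1 : D.t i * x * (D.t i)⁻¹ = c * x * c⁻¹ * zp D.z n := by
      have hd' : d = zp D.z n * ⁅c, x⁆ := by rw [← hn]; group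
      have hcom : Commute (c * x * c⁻¹) (zp D.z n) :=
        D.comm_Zc (((D.comm_z c hcQ).mul_left hT.comm_z).mul_left (D.comm_z c hcQ).inv_left) (zp_mem (mem_zpowers _) _)
      rw [hcom.eq, show D.t i * x * (D.t i)⁻¹ = d * x by rw [hd]; group, hd', Data.conj_eq]
      group
    -- applying the involution again
    set r := D.t i * c * (D.t i)⁻¹ * c with hr
    have hrQ : r ∈ D.Q := mul_mem (D.norm_Q _ ht _ hcQ) hcQ
    have hw : D.t i * zp D.z n * (D.t i)⁻¹ = zp D.z n := D.conj_Zc ht (zp_mem (mem_zpowers _) _)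
    have e2 : x = r * x * r⁻¹ * (zp D.z n * zp D.z n) := by
      calc x = D.t i * (D.t i * x * (D.t i)⁻¹) * (D.t i)⁻¹ := by
            rw [show D.t i * (D.t i * x * (D.t i)⁻¹) * (D.t i)⁻¹ = D.t i * D.t i * x * (D.t i * D.t i)⁻¹ by group,
              D.t_sq, one_mul, inv_one, mul_one]
        _ = D.t i * (c * x * c⁻¹ * zp D.z n) * (D.t i)⁻¹ := by rw [e1]
        _ = D.t i * c * (D.t i)⁻¹ * (D.t i * x * (D.t i)⁻¹) * (D.t i * c * (D.t i)⁻¹)⁻¹ *
              (D.t i * zp D.z n * (D.t i)⁻¹) := by group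
        _ = D.t i * c * (D.t i)⁻¹ * (c * x * c⁻¹ * zp D.z n) * (D.t i * c * (D.t i)⁻¹)⁻¹ * zp D.z n := by
            rw [e1, hw]
        _ = r * x * r⁻¹ * (zp D.z n * zp D.z n) := by
            rw [show D.t i * c * (D.t i)⁻¹ * (c * x * c⁻¹ * zp D.z n) * (D.t i * c * (D.t i)⁻¹)⁻¹ =
              D.t i * c * (D.t i)⁻¹ * (c * x * c⁻¹) * (zp D.z n * (D.t i * c * (D.t i)⁻¹)⁻¹) by group,
              ← (D.comm_Q_Zc (inv_mem (D.norm_Q _ ht _ hcQ)) (zp_mem (mem_zpowers _) n)).eq, hr]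
            group
    have hrL : r ∈ D.lines v := by
      refine ⟨hrQ, fun j => ?_⟩
      have hfx : D.act x (D.vec r) = D.vec r := by
        have hm : ⁅r, x⁆ ∈ D.Zc := by
          have hh : ⁅r, x⁆ = (zp D.z n * zp D.z n)⁻¹ := by
            rw [commutatorElement_def, show r * x * r⁻¹ = x * (zp D.z n * zp D.z n)⁻¹ from eq_mul_inv_of_mul_eq e2.symm,
              (D.comm_Zc hT.comm_z (inv_mem (mul_mem (zp_mem (mem_zpowers _) n) (zp_mem (mem_zpowers _) n)))).eq,
              mul_inv_cancel_right]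
          rw [hh]; exact inv_mem (mul_mem (zp_mem (mem_zpowers _) _) (zp_mem (mem_zpowers _) _))
        have h := D.vec_Zc (inv_mem hm)
        rwa [commutatorElement_inv, (D.vec_comm hT.comm_z hrQ).2, sub_eq_zero] at h
      have h := congrFun hfx j
      rw [D.act_fixed_per hT.comm_z hT.mem_K.2, hT.eq, add_eq_left, smul_eq_zero] at h
      exact (mul_eq_zero.1 (h.resolve_right (hv j))).resolve_left (hT.e_ne j)
    have hn0 : zp D.z n = 1 := by
      rw [(hc r hrL).symm.eq, mul_inv_cancel_right, left_eq_mul] at e2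
      have h2 := D.cube_Zc (zp_mem (mem_zpowers D.z) n)
      rwa [pow_succ, pow_two, e2, one_mul] at h2
    refine ⟨c, hcQ, by rw [e1, hn0, mul_one], fun j hj => ?_⟩
    have h := hrL.2 j
    rw [hr, D.vec_mul (D.norm_Q _ ht _ hcQ) hcQ, D.vec_conj ht hcQ, D.act_t, Pi.add_apply, flip_of_ne hj,
      pl_add_right] at h
    exact (show ∀ a : ZMod 3, a + a = 0 → a = 0 by decide) _ h
  choose c hcQ' hce hcz using key
  set u : V := fun j => (-(pl (v j) (D.vec (c j) j))) • f j with hu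
  set q := D.el u with hq
  refine ⟨q, D.el_mem u, fun i => ?_⟩
  have ht := D.t_z i
  set r := q⁻¹ * (D.t i * q * (D.t i)⁻¹ * c i) with hr
  have hqQ : q ∈ D.Q := D.el_mem u
  have hrL : r ∈ D.lines v := by
    refine ⟨mul_mem (inv_mem hqQ) (mul_mem (D.norm_Q _ ht _ hqQ) (hcQ' i)), fun j => ?_⟩
    rw [hr, D.vec_mul (inv_mem hqQ) (mul_mem (D.norm_Q _ ht _ hqQ) (hcQ' i)), D.vec_inv hqQ,
      D.vec_mul (D.norm_Q _ ht _ hqQ) (hcQ' i), D.vec_conj ht hqQ, D.act_t, hq, D.vec_el, Pi.add_apply,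
      Pi.add_apply, Pi.neg_apply, pl_add_right, pl_add_right, pl_neg_right]
    by_cases hj : j = i
    · subst hj
      rw [flip_same, pl_neg_right, hu, pl_smul_right, hf]
      exact (show ∀ a : ZMod 3, -(-a * 1) + (-(-a * 1) + a) = 0 by decide) _
    · rw [flip_of_ne hj, hcz i j hj, add_zero, neg_add_cancel]
  have hfix : r * x * r⁻¹ = x := by rw [(hc r hrL).symm.eq, mul_inv_cancel_right]
  show D.t i * (q * x * q⁻¹) = q * x * q⁻¹ * D.t i
  rw [← mul_inv_eq_iff_eq_mul]
  calc D.t i * (q * x * q⁻¹) * (D.t i)⁻¹ =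
        D.t i * q * (D.t i)⁻¹ * (D.t i * x * (D.t i)⁻¹) * (D.t i * q * (D.t i)⁻¹)⁻¹ := by group
    _ = q * (r * x * r⁻¹) * q⁻¹ := by rw [hce, hr]; group
    _ = q * x * q⁻¹ := by rw [hfix]


end Data

end Cfsg.Lib.Fi22Three
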