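import Cfsg.Agent.Lib.Fi22Three.Quot
import Cfsg.Agent.Lib.Fi22Three.Centre

/-!
# Moving the sign involutions, and what lies in a subgroup of index two
-/

set_option autoImplicit false
set_option linter.unusedSectionVars false
set_option maxRecDepth 4000
set_option synthInstance.maxSize 2000

namespace Cfsg.Lib.Fi22Three

open Subgroup
open scoped commutatorElement
open Cfsg.Lib.U6Three (SL3 sl_quat)

theorem sl_twelve : ∀ m : SL3, (m ^ 3) ^ 4 = 1 := by decide +kernel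

theorem sl_align : ∀ r r' : SL3, r ^ 3 = 1 → r ≠ 1 → r' ^ 3 = 1 → (r' * r⁻¹) ^ 4 = 1 →
    ∃ n : SL3, n ^ 4 = 1 ∧ n * r * n⁻¹ = r' := by
  decide +kernel

theorem sl_minus : ∀ m r : SL3, m * m = -1 → r ^ 3 = 1 → r ≠ 1 → (m * r * m⁻¹ * r⁻¹) ^ 4 = 1 ∧
    m * r * m⁻¹ * r⁻¹ ≠ 1 ∧ m * r * m⁻¹ * r⁻¹ ≠ -1 := by
  decide +kernel

theorem sl_reach : ∀ r m : SL3, r ^ 3 = 1 → r ≠ 1 → m ^ 4 = 1 →
    ∃ n : SL3, n ^ 4 = 1 ∧ (r * n * r⁻¹ * n⁻¹ = m ∨ r * n * r⁻¹ * n⁻¹ = -m) := by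
  decide +kernel

theorem fin3_to : ∀ f : Fin 3 → Fin 3, (∀ i, f i ≠ i) → Function.Injective f → ∀ i j, j ≠ i → f j = i ∨ f (f j) = i := by
  decide +kernel

namespace Data

variable {G : Type*} [Group G] [Finite G] (D : Data G)

theorem mat_t_sq (i l : Fin 3) : D.mat (D.t i) l * D.mat (D.t i) l = 1 := by
  rw [D.mat_t]; split_ifs <;> simp

/-- A conjugate of a sign involution is conjugate to one by an element of `Q` commuting with what both do. -/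
theorem t_moves {g : G} (hg : Commute g D.z) (i : Fin 3) : ∃ q ∈ D.Q,
    q * g * D.t i * (q * g)⁻¹ = D.t (D.per g i) ∧
      ∀ x, Commute x (g * D.t i * g⁻¹) → Commute x (D.t (D.per g i)) → Commute x q := by
  obtain ⟨k, hk⟩ : ∃ k, k = D.per g i := ⟨_, rfl⟩
  obtain ⟨τ, hτ⟩ : ∃ τ, τ = g * D.t i * g⁻¹ := ⟨_, rfl⟩
  rw [← hk, ← hτ]
  have hτK : τ ∈ D.K := hτ ▸ D.conj_mem_K hg (D.P2_le_K (D.t_mem i))
  have htK := D.P2_le_K (D.t_mem k)
  have hq : D.t k * τ ∈ D.Q := D.mem_Q_iff.2 ⟨mul_mem htK hτK, fun l => by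
    obtain ⟨m, rfl⟩ := D.per_surjective hg l
    rw [D.mat_mul_K htK hτK, hτ, D.mat_conj hg (D.P2_le_K (D.t_mem i)), D.mat_t, D.mat_t, hk]
    by_cases hm : m = i
    · subst hm; simp
    · rw [if_neg hm, if_neg fun e => hm (D.per_injective hg e)]; simp⟩
  have hττ : τ * τ = 1 := by
    rw [hτ, show g * D.t i * g⁻¹ * (g * D.t i * g⁻¹) = g * (D.t i * D.t i) * g⁻¹ by group, D.t_sq, mul_one,
      mul_inv_cancel]
  obtain ⟨n, hn⟩ := coset_conj (by decide : Odd 2187) (D.pow_Q hq) (D.t_sq k)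
    (by rw [← mul_assoc (D.t k) (D.t k) τ, D.t_sq, one_mul, hττ])
  rw [← mul_assoc (D.t k) (D.t k) τ, D.t_sq, one_mul] at hn
  refine ⟨(D.t k * τ) ^ n, D.Q.pow_mem hq n, ?_, fun x h1 h2 => (h2.mul_right h1).pow_right n⟩
  rw [show (D.t k * τ) ^ n * g * D.t i * ((D.t k * τ) ^ n * g)⁻¹ = (D.t k * τ) ^ n * (g * D.t i * g⁻¹) * ((D.t k * τ) ^ n)⁻¹
    by group, ← hτ]
  nth_rewrite 2 [← hn]
  group

/-- The sign involutions are conjugate, with the first going to a third. -/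
theorem exists_shift {i j : Fin 3} (hji : j ≠ i) : ∃ h, Commute h D.z ∧ h * D.t j * h⁻¹ = D.t i ∧
    ∃ k, k ≠ i ∧ h * D.t i * h⁻¹ = D.t k := by
  obtain ⟨σ, hσ, hσp⟩ := D.exists_sigma
  obtain ⟨g, hg, hgj⟩ : ∃ g, Commute g D.z ∧ D.per g j = i := by
    rcases fin3_to _ hσp (D.per_injective hσ) i j hji with e | e
    · exact ⟨σ, hσ, e⟩
    · exact ⟨σ * σ, hσ.mul_left hσ, by rw [D.per_mul hσ hσ]; exact e⟩
  obtain ⟨q, hq, e, -⟩ := D.t_moves hg j
  rw [hgj] at e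
  have hqg : Commute (q * g) D.z := (D.comm_z q hq).mul_left hg
  obtain ⟨k, hk⟩ : ∃ k, k = D.per (q * g) i := ⟨_, rfl⟩
  obtain ⟨q', hq', e', hc⟩ := D.t_moves hqg i
  rw [← hk] at e' hc
  have hki : k ≠ i := by
    rw [hk]
    intro e1
    have : D.per (q * g) j = i := by rw [D.per_mul (D.comm_z q hq) hg, hgj, D.per_Q hq]
    exact hji (D.per_injective hqg (this.trans e1.symm))
  have hq'i : Commute (D.t i) q' := by
    refine hc (D.t i) ?_ (D.t_comm i k)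
    rw [← e]
    exact (Commute.conj_iff (q * g)).2 (by rw [e]; exact D.t_comm j i)
  refine ⟨q' * (q * g), (D.comm_z q' hq').mul_left hqg, ?_, k, hki, ?_⟩
  · rw [show q' * (q * g) * D.t j * (q' * (q * g))⁻¹ = q' * (q * g * D.t j * (q * g)⁻¹) * q'⁻¹ by group, e,
      hq'i.symm.eq, mul_inv_cancel_right]
  · exact e'

theorem t_conj (i j : Fin 3) : IsConj (D.t i) (D.t j) := by
  rcases eq_or_ne j i with rfl | h
  · exact IsConj.refl _
  · obtain ⟨g, -, e, -⟩ := D.exists_shift h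
    exact (isConj_iff.2 ⟨g, e⟩).symm

/-- An element of order three on every plane commuting with a sign involution. -/
theorem exists_moving_t (i : Fin 3) :
    ∃ r ∈ D.K, Commute r (D.t i) ∧ ∀ l, D.mat r l ^ 3 = 1 ∧ D.mat r l ≠ 1 := by
  obtain ⟨r, hr, hm⟩ := D.exists_moving
  obtain ⟨q, hq, e, -⟩ := D.t_moves hr.1 i
  rw [hr.2] at e
  refine ⟨q * r, mul_mem (D.Q_le_K hq) hr, mul_inv_eq_iff_eq_mul.1 e, fun l => ?_⟩
  rw [D.mat_mul_K (D.Q_le_K hq) hr, D.mat_Q hq, one_mul]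
  exact hm l

theorem per_of_commute {g : G} (hg : Commute g D.z) {i : Fin 3} (hgt : Commute g (D.t i)) : D.per g i = i :=
  D.per_eq hg fun v => by
    rw [← D.act_t i, ← D.act_mul hg (D.t_z i), hgt.eq, D.act_mul (D.t_z i) hg, D.act_t]

/-- An element exchanging two planes does not square to the sign of the third. -/
theorem not_swap_sq {i : Fin 3} {s : G} (hsz : Commute s D.z) (hs : s * s = D.t i) {j k : Fin 3} (hji : j ≠ i)
    (hki : k ≠ i) (hjk : j ≠ k) (hsj : D.per s j = k) : False := by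
  have hsi : D.per s i = i := D.per_of_commute hsz (by rw [← hs]; exact (Commute.refl s).mul_right (Commute.refl s))
  have hsk : D.per s k = j := by rw [← hsj, ← D.per_mul hsz hsz, hs, D.per_t]
  set mi := D.mat s i with hmi
  set mj := D.mat s j with hmj
  set mk := D.mat s k with hmk
  have h1 : mi * mi = -1 := by
    have := D.mat_mul hsz hsz i
    rw [hs, D.mat_t, if_pos rfl, hsi] at this
    exact this.symm
  have h2 : mk * mj = 1 := by
    have := D.mat_mul hsz hsz j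
    rw [hs, D.mat_t, if_neg hji, hsj] at this
    exact this.symm
  have h2' : mj * mk = 1 := mul_eq_one_comm.1 h2
  obtain ⟨r, hr, -, hm⟩ := D.exists_moving_t i
  obtain ⟨σ, hσ, hσp⟩ := D.exists_sigma
  have conjv : ∀ r' ∈ D.K, D.mat (s * r' * s⁻¹) i = mi * D.mat r' i * mi⁻¹ ∧
      D.mat (s * r' * s⁻¹) j = mk * D.mat r' k * mk⁻¹ ∧ D.mat (s * r' * s⁻¹) k = mj * D.mat r' j * mj⁻¹ := by
    intro r' hr'
    refine ⟨?_, ?_, ?_⟩
    · have := D.mat_conj hsz hr' i; rwa [hsi] at this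
    · have := D.mat_conj hsz hr' k; rwa [hsk] at this
    · have := D.mat_conj hsz hr' j; rwa [hsj] at this
  have comm_mat : ∀ r' ∈ D.K, ∀ l, D.mat (s * r' * s⁻¹ * r'⁻¹) l = D.mat (s * r' * s⁻¹) l * (D.mat r' l)⁻¹ :=
    fun r' hr' l => by rw [D.mat_mul_K (D.conj_mem_K hsz hr') (inv_mem hr'), D.mat_inv_K hr']
  have halign : (mk * D.mat r k * mk⁻¹ * (D.mat r j)⁻¹) ^ 4 = 1 := by
    have hgK : s * r * s⁻¹ * r⁻¹ ∈ D.K := mul_mem (D.conj_mem_K hsz hr) (inv_mem hr)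
    have h := D.diag_one hσ hσp (pow_mem hgK 4) (fun m => by rw [D.mat_pow_K hgK]; exact sl_fourth _) (l := i)
      (by rw [D.mat_pow_K hgK, comm_mat r hr, (conjv r hr).1]; exact (sl_minus _ _ h1 (hm i).1 (hm i).2).1) j
    rwa [D.mat_pow_K hgK, comm_mat r hr, (conjv r hr).2.1] at h
  obtain ⟨n, hn, hne⟩ := sl_align (D.mat r j) (mk * D.mat r k * mk⁻¹) (hm j).1 (hm j).2
    (by rw [conj_pow, (hm k).1, mul_one, mul_inv_cancel]) halign
  obtain ⟨p, hp, hpj, hpk⟩ := D.exists_pair i hji hki hjk hn (one_pow 4)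
  have hpK := D.P2_le_K hp
  obtain ⟨r', hr'⟩ : ∃ r', r' = p * r * p⁻¹ := ⟨_, rfl⟩
  have hr'K : r' ∈ D.K := hr' ▸ mul_mem (mul_mem hpK hr) (inv_mem hpK)
  have hr'm : ∀ l, D.mat r' l = D.mat p l * D.mat r l * (D.mat p l)⁻¹ := fun l => by
    rw [hr', D.mat_mul_K (mul_mem hpK hr) (inv_mem hpK), D.mat_mul_K hpK hr, D.mat_inv_K hpK]
  have hj' : D.mat r' j = mk * D.mat r k * mk⁻¹ := by rw [hr'm, hpj, hne]
  have hk' : D.mat r' k = D.mat r k := by rw [hr'm, hpk]; simp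
  have hgK : s * r' * s⁻¹ * r'⁻¹ ∈ D.K := mul_mem (D.conj_mem_K hsz hr'K) (inv_mem hr'K)
  have hi3 : D.mat r' i ^ 3 = 1 ∧ D.mat r' i ≠ 1 := by
    rw [hr'm, conj_pow, (hm i).1, mul_one, mul_inv_cancel]
    exact ⟨rfl, fun e => (hm i).2 (conj_eq_one_iff.1 e)⟩
  obtain ⟨-, hn1, hn2⟩ := sl_minus _ _ h1 hi3.1 hi3.2
  have hoff : ∀ l, l ≠ i → D.mat (s * r' * s⁻¹ * r'⁻¹) l = 1 := fun l hl => by
    rcases (show ∀ i j k l : Fin 3, j ≠ i → k ≠ i → j ≠ k → l ≠ i → l = j ∨ l = k by decide) i j k l hji hki hjk hl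
      with rfl | rfl
    · rw [comm_mat r' hr'K, (conjv r' hr'K).2.1, hk', hj', mul_inv_cancel]
    · rw [comm_mat r' hr'K, (conjv r' hr'K).2.2, hj', hk',
        show mj * (mk * D.mat r l * mk⁻¹) * mj⁻¹ = (mj * mk) * D.mat r l * (mj * mk)⁻¹ by group, h2', one_mul,
        inv_one, mul_one, mul_inv_cancel]
  rcases D.single_sign (i := i) ⟨_, hgK, rfl, hoff⟩ with e | e
  · exact hn1 (by rw [← e, comm_mat r' hr'K, (conjv r' hr'K).1])
  · exact hn2 (by rw [← e, comm_mat r' hr'K, (conjv r' hr'K).1])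

/-- The sign involutions are products of squares in the complement. -/
theorem t_squares (i : Fin 3) : ∃ a ∈ D.P2, ∃ b ∈ D.P2, ∃ c ∈ D.P2, D.t i = c * c * (a * a) * (b * b) := by
  obtain ⟨h0, h1, h2⟩ : qI ^ 4 = 1 ∧ qJ ^ 4 = 1 ∧ qI * qI = -1 ∧ qJ * qJ = -1 ∧ (qI * qJ⁻¹) ^ 4 = 1 ∧
      qI * qJ⁻¹ ≠ 1 ∧ qI * qJ⁻¹ ≠ -1 := by decide +kernel
  obtain ⟨hI, hJ, hd4, hd1, hd2⟩ := h2
  obtain ⟨hj, hk, hjk⟩ := jk_ne i
  set j := jp i
  set k := kp i
  have h14 : (1 : SL3) ^ 4 = 1 := one_pow 4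
  have hsq : ∀ p ∈ D.P2, ∀ l, D.mat (p * p) l = D.mat p l * D.mat p l := fun p hp l =>
    D.mat_mul_K (D.P2_le_K hp) (D.P2_le_K hp) l
  -- the third component of a pair with one trivial entry has order four
  have third : ∀ p ∈ D.P2, ∀ {a : Fin 3}, a ≠ i → (∀ l, l ≠ i → l ≠ a → D.mat p l = 1) →
      ∀ q, q = D.mat p a → q ^ 4 = 1 → q ≠ 1 → q ≠ -1 → D.mat p i * D.mat p i = -1 := by
    intro p hp a ha hoth q hq _ hq1 hq2
    have h4 := D.mat_P2_four hp i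
    refine ((show ∀ m : SL3, m ^ 4 = 1 → m = 1 ∨ m = -1 ∨ m * m = -1 by decide +kernel) _ h4).elim (fun e => ?_)
      fun e => e.elim (fun e => ?_) id
    · exfalso
      rcases D.single_sign (i := a) ⟨p, D.P2_le_K hp, rfl, fun l hl => by
        rcases eq_or_ne l i with rfl | hli
        exacts [e, hoth l hli hl]⟩ with e' | e'
      · exact hq1 (hq.trans e')
      · exact hq2 (hq.trans e')
    · exfalso
      have hpt := mul_mem hp (D.t_mem i)
      rcases D.single_sign (i := a) ⟨p * D.t i, D.P2_le_K hpt, rfl, fun l hl => by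
        rw [D.mat_mul_K (D.P2_le_K hp) (D.P2_le_K (D.t_mem i)), D.mat_t]
        rcases eq_or_ne l i with rfl | hli
        · rw [e, if_pos rfl, neg_mul_neg, one_mul]
        · rw [hoth l hli hl, if_neg hli, one_mul]⟩ with e' | e' <;>
        rw [D.mat_mul_K (D.P2_le_K hp) (D.P2_le_K (D.t_mem i)), D.mat_t, if_neg ha, mul_one] at e'
      · exact hq1 (hq.trans e')
      · exact hq2 (hq.trans e')
  have cov := jk_cover i
  obtain ⟨a, ha, haj, hak⟩ := D.exists_pair i hj hk hjk h0 h14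
  obtain ⟨b, hb, hbj, hbk⟩ := D.exists_pair i hj hk hjk h14 h0
  obtain ⟨b', hb', hb'j, hb'k⟩ := D.exists_pair i hj hk hjk h14 h1
  have hne : qI ≠ 1 ∧ qI ≠ -1 ∧ qJ ≠ 1 ∧ qJ ≠ -1 := by decide +kernel
  have hai := third a ha hj (fun l hl hla => (cov l hl).elim (fun e => absurd e hla) fun e => e ▸ hak) _ haj.symm h0
    hne.1 hne.2.1
  have hbi := third b hb hk (fun l hl hla => (cov l hl).elim (fun e => e ▸ hbj) fun e => absurd e hla) _ hbk.symm h0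
    hne.1 hne.2.1
  have hb'i := third b' hb' hk (fun l hl hla => (cov l hl).elim (fun e => e ▸ hb'j) fun e => absurd e hla) _ hb'k.symm h1
    hne.2.2.1 hne.2.2.2
  have hd : b * b'⁻¹ ∈ D.P2 := mul_mem hb (inv_mem hb')
  have hdm : ∀ l, D.mat (b * b'⁻¹) l = D.mat b l * (D.mat b' l)⁻¹ := fun l => by
    rw [D.mat_mul_K (D.P2_le_K hb) (inv_mem (D.P2_le_K hb')), D.mat_inv_K (D.P2_le_K hb')]
  have hdi := third _ hd hk (fun l hl hla => (cov l hl).elim (fun e => by subst e; rw [hdm, hbj, hb'j]; simp)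
    fun e => absurd e hla) _ (show qI * qJ⁻¹ = _ by rw [hdm, hbk, hb'k]) hd4 hd1 hd2
  rw [hdm] at hdi
  have fin : ∀ c ∈ D.P2, D.mat c k * D.mat c k = -1 → D.mat c j = 1 → D.mat c i * D.mat c i = -1 →
      D.mat (a * c) i * D.mat (a * c) i = -1 → D.t i = a * c * (a * c) * (a * a) * (c * c) := by
    intro c hc hck hcj hci hac
    have hacP := mul_mem ha hc
    refine D.P2_ext (D.t_mem i) (mul_mem (mul_mem (mul_mem hacP hacP) (mul_mem ha ha)) (mul_mem hc hc)) fun v =>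
      funext fun l => ?_
    rw [D.act_fixed_per (D.t_z i) (D.per_t i), D.act_fixed_per
      (D.P2_z _ (mul_mem (mul_mem (mul_mem hacP hacP) (mul_mem ha ha)) (mul_mem hc hc)))
      (D.per_P2 (mul_mem (mul_mem (mul_mem hacP hacP) (mul_mem ha ha)) (mul_mem hc hc))), D.mat_t,
      D.mat_mul_K (D.P2_le_K (mul_mem (mul_mem hacP hacP) (mul_mem ha ha))) (D.P2_le_K (mul_mem hc hc)),
      D.mat_mul_K (D.P2_le_K (mul_mem hacP hacP)) (D.P2_le_K (mul_mem ha ha)), hsq _ hacP, hsq _ ha, hsq _ hc]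
    refine congrArg (fun m => mv m (v l)) ?_
    rcases eq_or_ne l i with rfl | hl
    · rw [if_pos rfl, hac, hai, hci]; simp
    · rw [if_neg hl, D.mat_mul_K (D.P2_le_K ha) (D.P2_le_K hc)]
      rcases cov l hl with rfl | rfl
      · rw [hcj, mul_one, haj, hI]; simp
      · rw [hak, one_mul, hck]; simp
  have key : ∀ x y w : SL3, x * x = -1 → y * y = -1 → w * w = -1 → (y * w⁻¹) * (y * w⁻¹) = -1 →
      (x * y) * (x * y) = -1 ∨ (x * w) * (x * w) = -1 := by decide +kernel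
  rcases key _ _ _ hai hbi hb'i hdi with e | e
  · exact ⟨a, ha, b, hb, a * b, mul_mem ha hb, fin b hb (by rw [hbk, hI]) hbj hbi
      (by rw [D.mat_mul_K (D.P2_le_K ha) (D.P2_le_K hb)]; exact e)⟩
  · exact ⟨a, ha, b', hb', a * b', mul_mem ha hb', fin b' hb' (by rw [hb'k, hJ]) hb'j hb'i
      (by rw [D.mat_mul_K (D.P2_le_K ha) (D.P2_le_K hb')]; exact e)⟩

/-- A subgroup of index two of the centraliser of a sign involution: what it contains. -/
theorem half {i : Fin 3} {S : Subgroup G} (hsq : ∀ x ∈ D.Ct i, x * x ∈ S)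
    (hnorm : ∀ x ∈ D.Ct i, ∀ y ∈ D.Ct i, ⁅x, y⁆ ∈ S) :
    (∀ l, D.t l ∈ S) ∧ (∀ p ∈ D.P2, p ∈ S) ∧ (∀ q ∈ D.Q, Commute q (D.t i) → q ∈ S) ∧
      ∀ g ∈ D.K, Commute g (D.t i) → g ∈ S := by
  have hP : ∀ p ∈ D.P2, p ∈ D.Ct i := fun p hp => mem_centralizer_singleton_iff.2 (D.P2_comm_t i hp).eq
  have ht : ∀ l, D.t l ∈ S := fun l => by
    obtain ⟨a, ha, b, hb, c, hc, e⟩ := D.t_squares l
    rw [e]
    exact mul_mem (mul_mem (hsq c (hP c hc)) (hsq a (hP a ha))) (hsq b (hP b hb))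
  have hQ : ∀ q ∈ D.Q, Commute q (D.t i) → q ∈ S := fun q hq hc => by
    have h := hsq (q ^ 1094) (mem_centralizer_singleton_iff.2 (hc.pow_left _).eq)
    rwa [← pow_add, show 1094 + 1094 = 2187 + 1 from rfl, pow_succ, D.pow_Q hq, one_mul] at h
  obtain ⟨r, hr, hrt, hm⟩ := D.exists_moving_t i
  have hP2 : ∀ p ∈ D.P2, p ∈ S := by
    intro p hp
    obtain ⟨hj, hk, hjk⟩ := jk_ne i
    obtain ⟨m, hm4, hmj⟩ := sl_reach _ _ (hm (jp i)).1 (hm (jp i)).2 (D.mat_P2_four hp (jp i))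
    obtain ⟨n, hn4, hnk⟩ := sl_reach _ _ (hm (kp i)).1 (hm (kp i)).2 (D.mat_P2_four hp (kp i))
    obtain ⟨p', hp', hp'j, hp'k⟩ := D.exists_pair i hj hk hjk hm4 hn4
    have hp'K := D.P2_le_K hp'
    have hcK := D.comm_mem_K hr hp'K
    have hcS := hnorm r (mem_centralizer_singleton_iff.2 hrt.eq) p' (hP p' hp')
    obtain ⟨e1, he1, he1m⟩ : ∃ e ∈ S, e ∈ D.P2 ∧ ∀ l, D.mat e l =
        if l = jp i ∧ D.mat ⁅r, p'⁆ (jp i) ≠ D.mat p (jp i) then -1 else 1 := by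
      by_cases h : D.mat ⁅r, p'⁆ (jp i) = D.mat p (jp i)
      · exact ⟨1, one_mem _, one_mem _, fun l => by rw [D.mat_one, if_neg (fun e => e.2 h)]⟩
      · exact ⟨D.t (jp i), ht _, D.t_mem _, fun l => by
          rw [D.mat_t]; exact if_congr ⟨fun e => ⟨e, h⟩, And.left⟩ rfl rfl⟩
    obtain ⟨e2, he2, he2m⟩ : ∃ e ∈ S, e ∈ D.P2 ∧ ∀ l, D.mat e l =
        if l = kp i ∧ D.mat ⁅r, p'⁆ (kp i) ≠ D.mat p (kp i) then -1 else 1 := by
      by_cases h : D.mat ⁅r, p'⁆ (kp i) = D.mat p (kp i)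
      · exact ⟨1, one_mem _, one_mem _, fun l => by rw [D.mat_one, if_neg (fun e => e.2 h)]⟩
      · exact ⟨D.t (kp i), ht _, D.t_mem _, fun l => by
          rw [D.mat_t]; exact if_congr ⟨fun e => ⟨e, h⟩, And.left⟩ rfl rfl⟩
    obtain ⟨w, hw⟩ : ∃ w, w = ⁅r, p'⁆ * e1 * e2 := ⟨_, rfl⟩
    have hwK : w ∈ D.K := hw ▸ mul_mem (mul_mem hcK (D.P2_le_K he1m.1)) (D.P2_le_K he2m.1)
    have hwm : ∀ l, D.mat w l = D.mat ⁅r, p'⁆ l * D.mat e1 l * D.mat e2 l := fun l => by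
      rw [hw, D.mat_mul_K (mul_mem hcK (D.P2_le_K he1m.1)) (D.P2_le_K he2m.1), D.mat_mul_K hcK (D.P2_le_K he1m.1)]
    obtain ⟨p'', hp'', hq''⟩ := D.exists_P2_of_N4 (g := w) ⟨hwK, fun l => by
      rw [hwm, he1m.2, he2m.2, D.mat_comm_K hr hp'K]
      exact sl_quat.2.2.2.1 _ _ (sl_quat.2.2.2.1 _ _
        ((show ∀ r n : SL3, n ^ 4 = 1 → (r * n * r⁻¹ * n⁻¹) ^ 4 = 1 by decide +kernel) _ _ (D.mat_P2_four hp' l))
        (by split_ifs <;> decide +kernel)) (by split_ifs <;> decide +kernel)⟩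
    have hwt : Commute w (D.t i) := by
      rw [hw, commutatorElement_def]
      exact (((((hrt.mul_left (D.P2_comm_t i hp')).mul_left hrt.inv_left).mul_left (D.P2_comm_t i hp').inv_left)).mul_left
        (D.P2_comm_t i he1m.1)).mul_left (D.P2_comm_t i he2m.1)
    have hqS : p''⁻¹ * w ∈ S := hQ _ hq'' ((D.P2_comm_t i hp'').inv_left.mul_left hwt)
    have hwS : w ∈ S := hw ▸ mul_mem (mul_mem hcS he1) he2
    have hp''S : p'' ∈ S := by
      have := mul_mem hwS (inv_mem hqS)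
      rwa [mul_inv_rev, inv_inv, mul_inv_cancel_left] at this
    have hmat : ∀ l, l ≠ i → D.mat (p''⁻¹ * p) l = 1 := fun l hl => by
      have h0 := (D.mem_Q_iff.1 hq'').2 l
      rw [D.mat_mul_K (inv_mem (D.P2_le_K hp'')) hwK, D.mat_inv_K (D.P2_le_K hp''), inv_mul_eq_one] at h0
      rw [D.mat_mul_K (inv_mem (D.P2_le_K hp'')) (D.P2_le_K hp), D.mat_inv_K (D.P2_le_K hp''), inv_mul_eq_one, h0, hwm,
        he1m.2, he2m.2]
      rcases jk_cover i l hl with rfl | rfl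
      · rw [if_neg (fun e : jp i = kp i ∧ _ => hjk e.1), mul_one]
        rw [D.mat_comm_K hr hp'K, hp'j]
        rcases hmj with e | e <;> rw [e] <;> split_ifs with h <;> simp_all
      · rw [if_neg (fun e : kp i = jp i ∧ _ => hjk e.1.symm), mul_one]
        rw [D.mat_comm_K hr hp'K, hp'k]
        rcases hnk with e | e <;> rw [e] <;> split_ifs with h <;> simp_all
    rcases D.P2_kernel i (mul_mem (inv_mem hp'') hp) hmat with e | e
    · rwa [inv_mul_eq_one.1 e] at hp''S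
    · rw [inv_mul_eq_iff_eq_mul.1 e]; exact mul_mem hp''S (ht i)
  refine ⟨ht, hP2, hQ, fun g hg hgt => ?_⟩
  obtain ⟨p, hp, hq⟩ := D.exists_P2_of_N4 (g := g ^ 3) ⟨pow_mem hg 3, fun l => by rw [D.mat_pow_K hg]; exact sl_twelve _⟩
  have hc3 : g ^ 3 ∈ S := by
    have := mul_mem (hP2 p hp) (hQ _ hq ((D.P2_comm_t i hp).inv_left.mul_left (hgt.pow_left 3)))
    rwa [mul_inv_cancel_left] at this
  have := mul_mem hc3 (inv_mem (hsq g (mem_centralizer_singleton_iff.2 hgt.eq)))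
  rwa [show g ^ 3 * (g * g)⁻¹ = g by simp only [pow_succ, pow_zero, one_mul]; group] at this

end Data

end Cfsg.Lib.Fi22Three
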