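import Cfsg.Agent.Lib.Fi22Three.Perm

/-!
# The 3-subgroups of the centraliser are abelian modulo the extraspecial subgroup
-/

set_option autoImplicit false
set_option linter.unusedSectionVars false
set_option maxRecDepth 4000
set_option synthInstance.maxSize 2000

namespace Cfsg.Lib.Fi22Three

open Subgroup
open scoped commutatorElement
open Cfsg.Lib.U6Three (zp zp_zero zp_one SL3 sl_card sl_quat)

theorem sl_three_comm : ∀ m n : SL3, m ^ 3 = 1 → n ^ 3 = 1 → (m * n) ^ 3 = 1 → (m * n⁻¹) ^ 3 = 1 → m * n = n * m := by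
  decide +kernel

theorem sl_three_cyclic : ∀ m n : SL3, m ^ 3 = 1 → m ≠ 1 → n ^ 3 = 1 → m * n = n * m → n = 1 ∨ n = m ∨ n = m * m := by
  decide +kernel

theorem sl_comm_four : ∀ r p : SL3, r ^ 3 = 1 → r ≠ 1 → p ^ 4 = 1 → p ^ 2 ≠ 1 →
    (r * p * r⁻¹ * p⁻¹) ^ 4 = 1 ∧ (r * p * r⁻¹ * p⁻¹) ^ 2 ≠ 1 := by
  decide +kernel

theorem sl_gen : ∀ r p : SL3, r ^ 3 = 1 → r ≠ 1 → p ^ 4 = 1 → p ^ 2 ≠ 1 → ∀ m : SL3, m ^ 4 = 1 →
    ∃ a b : Fin 4, m = p ^ a.1 * (r * p * r⁻¹) ^ b.1 := by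
  decide +kernel

theorem sl_eight : ∀ m : SL3, m ^ 8 = 1 → m ^ 4 = 1 := by decide +kernel

theorem fin3_iterate : ∀ f : Fin 3 → Fin 3, Function.Injective f → (∀ i, f (f (f i)) = i) ∨
    ((∀ i, f (f i) = i) ∧ ∃ i, f i ≠ i) := by
  decide +kernel

theorem fin3_cycle : ∀ f : Fin 3 → Fin 3, (∀ i, f (f (f i)) = i) → (∀ i, f i = i) ∨ (∀ i, f i ≠ i) := by
  decide +kernel

theorem fin3_power : ∀ f h : Fin 3 → Fin 3, (∀ i, f (f (f i)) = i) → (∀ i, f i ≠ i) → (∀ i, h (h (h i)) = i) →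
    (∀ i, h i = i) ∨ (∀ i, f (h i) = i) ∨ (∀ i, f (f (h i)) = i) := by
  decide +kernel

theorem fin3_other : ∀ i l : Fin 3, i ≠ l → ∃ j, j ≠ i ∧ j ≠ l ∧ ∀ k, k = i ∨ k = l ∨ k = j := by decide

namespace Data

variable {G : Type*} [Group G] [Finite G] (D : Data G)

/-- The elements of `C(z)` fixing every plane. -/
def K : Subgroup G where
  carrier := {g | Commute g D.z ∧ ∀ i, D.per g i = i}
  one_mem' := ⟨Commute.one_left _, D.per_one⟩
  mul_mem' := fun ha hb => ⟨ha.1.mul_left hb.1, fun i => by rw [D.per_mul ha.1 hb.1, hb.2, ha.2]⟩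
  inv_mem' := fun ha => ⟨ha.1.inv_left, fun i => by conv_lhs => rw [← ha.2 i, D.per_inv_cancel ha.1]⟩

theorem mem_K {g : G} : g ∈ D.K ↔ Commute g D.z ∧ ∀ i, D.per g i = i := Iff.rfl

theorem P2_le_K : D.P2 ≤ D.K := fun p hp => ⟨D.P2_z p hp, D.per_P2 hp⟩

theorem Q_le_K : D.Q ≤ D.K := fun _ hq => ⟨D.comm_z _ hq, D.per_Q hq⟩

theorem mat_mul_K {g h : G} (hg : g ∈ D.K) (hh : h ∈ D.K) (i : Fin 3) :
    D.mat (g * h) i = D.mat g i * D.mat h i := by
  rw [D.mat_mul hg.1 hh.1, hh.2]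

theorem mat_inv_K {g : G} (hg : g ∈ D.K) (i : Fin 3) : D.mat g⁻¹ i = (D.mat g i)⁻¹ := by
  refine eq_inv_of_mul_eq_one_left ?_
  rw [← D.mat_mul_K (inv_mem hg) hg, inv_mul_cancel, D.mat_one]

theorem mat_pow_K {g : G} (hg : g ∈ D.K) (n : ℕ) (i : Fin 3) : D.mat (g ^ n) i = D.mat g i ^ n := by
  induction n with
  | zero => rw [pow_zero, pow_zero, D.mat_one]
  | succ n ih => rw [pow_succ, pow_succ, D.mat_mul_K (pow_mem hg n) hg, ih]

theorem mat_comm_K {g h : G} (hg : g ∈ D.K) (hh : h ∈ D.K) (i : Fin 3) :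
    D.mat ⁅g, h⁆ i = D.mat g i * D.mat h i * (D.mat g i)⁻¹ * (D.mat h i)⁻¹ := by
  rw [commutatorElement_def, D.mat_mul_K (mul_mem (mul_mem hg hh) (inv_mem hg)) (inv_mem hh),
    D.mat_mul_K (mul_mem hg hh) (inv_mem hg), D.mat_mul_K hg hh, D.mat_inv_K hg, D.mat_inv_K hh]

theorem comm_mem_K {g h : G} (hg : g ∈ D.K) (hh : h ∈ D.K) : ⁅g, h⁆ ∈ D.K := by
  rw [commutatorElement_def]; exact mul_mem (mul_mem (mul_mem hg hh) (inv_mem hg)) (inv_mem hh)

theorem mem_Q_iff {g : G} : g ∈ D.Q ↔ g ∈ D.K ∧ ∀ i, D.mat g i = 1 :=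
  ⟨fun h => ⟨D.Q_le_K h, D.mat_Q h⟩, fun h => D.mem_Q_of_mat h.1.1 h.1.2 h.2⟩

theorem conj_mem_K {g k : G} (hg : Commute g D.z) (hk : k ∈ D.K) : g * k * g⁻¹ ∈ D.K :=
  ⟨(hg.mul_left hk.1).mul_left hg.inv_left, fun i => by
    rw [D.per_mul (hg.mul_left hk.1) hg.inv_left, D.per_mul hg hk.1, hk.2]
    conv_lhs => rw [← D.per_mul hg hg.inv_left, mul_inv_cancel, D.per_one]⟩

/-- The matrices of a conjugate. -/
theorem mat_conj {g k : G} (hg : Commute g D.z) (hk : k ∈ D.K) (i : Fin 3) :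
    D.mat (g * k * g⁻¹) (D.per g i) = D.mat g i * D.mat k i * (D.mat g i)⁻¹ := by
  rw [eq_mul_inv_iff_mul_eq]
  calc D.mat (g * k * g⁻¹) (D.per g i) * D.mat g i = D.mat (g * k * g⁻¹ * g) i := by
        rw [D.mat_mul ((hg.mul_left hk.1).mul_left hg.inv_left) hg]
    _ = D.mat g i * D.mat k i := by rw [show g * k * g⁻¹ * g = g * k by group, D.mat_mul hg hk.1, hk.2]

theorem sl_pow_card (m : SL3) : m ^ 24 = 1 := by rw [← sl_card.1]; exact pow_card_eq_one'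

theorem mat_P2_four {p : G} (hp : p ∈ D.P2) (i : Fin 3) : D.mat p i ^ 4 = 1 := by
  have h128 : D.mat p i ^ 128 = 1 := by rw [← D.mat_pow_K (D.P2_le_K hp), D.P2_pow hp, D.mat_one]
  refine sl_eight _ ?_
  have := sl_pow_card (D.mat p i)
  rw [show (128 : ℕ) = 24 * 5 + 8 from rfl, pow_add, pow_mul, this, one_pow, one_mul] at h128
  exact h128

/-- The elements of `K` acting by fourth roots of one. -/
def N4 : Subgroup G where
  carrier := {g | g ∈ D.K ∧ ∀ i, D.mat g i ^ 4 = 1}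
  one_mem' := ⟨one_mem _, fun i => by rw [D.mat_one, one_pow]⟩
  mul_mem' := fun ha hb => ⟨mul_mem ha.1 hb.1, fun i => by
    rw [D.mat_mul_K ha.1 hb.1]; exact sl_quat.2.2.2.1 _ _ (ha.2 i) (hb.2 i)⟩
  inv_mem' := fun ha => ⟨inv_mem ha.1, fun i => by rw [D.mat_inv_K ha.1, inv_pow, ha.2 i, inv_one]⟩

theorem mem_N4 {g : G} : g ∈ D.N4 ↔ g ∈ D.K ∧ ∀ i, D.mat g i ^ 4 = 1 := Iff.rfl

theorem conj_mem_N4 {g n : G} (hg : Commute g D.z) (hn : n ∈ D.N4) : g * n * g⁻¹ ∈ D.N4 := by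
  refine ⟨D.conj_mem_K hg hn.1, fun j => ?_⟩
  obtain ⟨i, rfl⟩ := D.per_surjective hg j
  rw [D.mat_conj hg hn.1, conj_pow, hn.2 i, mul_one, mul_inv_cancel]

/-- Fourth roots on every plane lie in the preimage of the 2-core. -/
theorem exists_P2_of_N4 {g : G} (hg : g ∈ D.N4) : ∃ p ∈ D.P2, p⁻¹ * g ∈ D.Q := by
  refine D.two_core D.N4 (fun n hn => hn.1.1) (fun x hx n hn => D.conj_mem_N4 hx hn) (fun n hn => ⟨2, ?_⟩) g hg
  rw [D.mem_Q_iff]
  exact ⟨pow_mem hn.1 _, fun i => by rw [D.mat_pow_K hn.1]; exact hn.2 i⟩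

theorem P2_le_N4 : D.P2 ≤ D.N4 := fun _ hp => ⟨D.P2_le_K hp, D.mat_P2_four hp⟩

/-- An element of `K` supported on the plane `i`. -/
def Single (i : Fin 3) (m : SL3) : Prop := ∃ g ∈ D.K, D.mat g i = m ∧ ∀ j, j ≠ i → D.mat g j = 1

theorem single_conj {σ : G} (hσ : Commute σ D.z) {i : Fin 3} {m : SL3} (h : D.Single i m) :
    D.Single (D.per σ i) (D.mat σ i * m * (D.mat σ i)⁻¹) := by
  obtain ⟨g, hg, hm, h1⟩ := h
  refine ⟨σ * g * σ⁻¹, D.conj_mem_K hσ hg, by rw [D.mat_conj hσ hg, hm], fun j hj => ?_⟩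
  obtain ⟨l, rfl⟩ := D.per_surjective hσ j
  rw [D.mat_conj hσ hg, h1 l (fun e => hj (e ▸ rfl)), mul_one, mul_inv_cancel]

/-- The quaternion group is not supported on each plane. -/
theorem not_full (h : ∀ i, ∀ m : SL3, m ^ 4 = 1 → D.Single i m) : False := by
  classical
  have key : ∀ m : Fin 3 → {m : SL3 // m ^ 4 = 1}, ∃ p : D.P2, ∀ i, D.mat p i = (m i).1 := by
    intro m
    choose g hg hm h1 using fun i => h i (m i).1 (m i).2
    have hK : g 0 * g 1 * g 2 ∈ D.K := mul_mem (mul_mem (hg 0) (hg 1)) (hg 2)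
    have hmat : ∀ i, D.mat (g 0 * g 1 * g 2) i = (m i).1 := fun i => by
      rw [D.mat_mul_K (mul_mem (hg 0) (hg 1)) (hg 2), D.mat_mul_K (hg 0) (hg 1)]
      fin_cases i <;> simp [hm, h1 0 1 (by decide), h1 0 2 (by decide), h1 1 0 (by decide), h1 1 2 (by decide),
        h1 2 0 (by decide), h1 2 1 (by decide)]
    obtain ⟨p, hp, hq⟩ := D.exists_P2_of_N4 (g := g 0 * g 1 * g 2) ⟨hK, fun i => by rw [hmat]; exact (m i).2⟩
    refine ⟨⟨p, hp⟩, fun i => ?_⟩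
    rw [← hmat, show g 0 * g 1 * g 2 = p * (p⁻¹ * (g 0 * g 1 * g 2)) by group,
      D.mat_mul_K (D.P2_le_K hp) (D.Q_le_K hq), D.mat_Q hq, mul_one]
  choose f hf using key
  have hinj : Function.Injective f := fun a b e => funext fun i => Subtype.ext (by rw [← hf, ← hf, e])
  have := Nat.card_le_card_of_injective f hinj
  rw [Nat.card_pi, D.card_P2] at this
  simp only [sl_card.2, Finset.prod_const, Finset.card_univ, Fintype.card_fin] at this
  norm_num at this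

/-- An element of order three and one of order four give the whole quaternion group on a plane. -/
theorem single_full {r : G} (hr : r ∈ D.K) {i : Fin 3} (hr3 : D.mat r i ^ 3 = 1) (hr1 : D.mat r i ≠ 1) {m : SL3}
    (h : D.Single i m) (h4 : m ^ 4 = 1) (h2 : m ^ 2 ≠ 1) : ∀ n : SL3, n ^ 4 = 1 → D.Single i n := by
  intro n hn
  obtain ⟨g, hg, hm, h1⟩ := h
  obtain ⟨a, b, e⟩ := sl_gen _ _ hr3 hr1 h4 h2 n hn
  have hc : r * g * r⁻¹ ∈ D.K := mul_mem (mul_mem hr hg) (inv_mem hr)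
  refine ⟨g ^ a.1 * (r * g * r⁻¹) ^ b.1, mul_mem (pow_mem hg _) (pow_mem hc _), ?_, fun j hj => ?_⟩
  · rw [D.mat_mul_K (pow_mem hg _) (pow_mem hc _), D.mat_pow_K hg, D.mat_pow_K hc, D.mat_mul_K (mul_mem hr hg) (inv_mem hr),
      D.mat_mul_K hr hg, D.mat_inv_K hr, hm, e]
  · rw [D.mat_mul_K (pow_mem hg _) (pow_mem hc _), D.mat_pow_K hg, D.mat_pow_K hc, D.mat_mul_K (mul_mem hr hg) (inv_mem hr),
      D.mat_mul_K hr hg, D.mat_inv_K hr, h1 j hj]
    simp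

theorem sl_four_conj {s n : SL3} (hn : n ^ 4 = 1) : (s⁻¹ * n * s) ^ 4 = 1 := by
  have h := conj_pow (a := s⁻¹) (b := n) (i := 4)
  rw [inv_inv] at h
  rw [h, hn, mul_one, inv_mul_cancel]

/-- With a permutation of the planes of order three no plane carries an element of order four by itself. -/
theorem no_single {σ : G} (hσ : Commute σ D.z) (hσp : ∀ i, D.per σ i ≠ i) {r : G} (hr : r ∈ D.K) {i : Fin 3}
    (hr3 : D.mat r i ^ 3 = 1) (hr1 : D.mat r i ≠ 1) {m : SL3} (h : D.Single i m) (h4 : m ^ 4 = 1) : m ^ 2 = 1 := by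
  by_contra h2
  have hfull := D.single_full hr hr3 hr1 h h4 h2
  have step : ∀ j, (∀ n : SL3, n ^ 4 = 1 → D.Single j n) → ∀ n : SL3, n ^ 4 = 1 → D.Single (D.per σ j) n := by
    intro j hj n hn
    have := D.single_conj hσ (hj _ (sl_four_conj (s := D.mat σ j) hn))
    rwa [show D.mat σ j * ((D.mat σ j)⁻¹ * n * D.mat σ j) * (D.mat σ j)⁻¹ = n by group] at this
  refine D.not_full fun j => ?_
  have hcases : j = i ∨ j = D.per σ i ∨ j = D.per σ (D.per σ i) := by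
    have hinj := D.per_injective hσ
    rcases fin3_other i (D.per σ i) (hσp i).symm with ⟨k, hk1, hk2, hk⟩
    rcases hk (D.per σ (D.per σ i)) with e | e | e
    · exfalso
      rcases hk (D.per σ k) with e' | e' | e'
      · exact hk2 (hinj (e'.trans e.symm))
      · exact hk1 (hinj e')
      · exact hσp k e'
    · exact absurd e (hσp _)
    · rcases hk j with e' | e' | e'
      exacts [Or.inl e', Or.inr (Or.inl e'), Or.inr (Or.inr (e'.trans e.symm))]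
  rcases hcases with rfl | rfl | rfl
  exacts [hfull, step _ hfull, step _ (step _ hfull)]

/-- With a permutation of the planes of order three some element of the complement has order four on a plane. -/
theorem exists_four {σ : G} (hσ : Commute σ D.z) (hσp : ∀ i, D.per σ i ≠ i) (i : Fin 3) :
    ∃ p ∈ D.P2, D.mat p i ^ 2 ≠ 1 := by
  by_contra hcon
  push Not at hcon
  have step : ∀ j, (∀ p ∈ D.P2, D.mat p j ^ 2 = 1) → ∀ p ∈ D.P2, D.mat p (D.per σ j) ^ 2 = 1 := by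
    intro j hj p hp
    obtain ⟨p', hp', hq⟩ := D.P2_normal σ⁻¹ hσ.inv_left p hp
    have e : p = σ * (p' * (p'⁻¹ * (σ⁻¹ * p * σ⁻¹⁻¹))) * σ⁻¹ := by group
    rw [e, D.mat_conj hσ (mul_mem (D.P2_le_K hp') (D.Q_le_K hq)), D.mat_mul_K (D.P2_le_K hp') (D.Q_le_K hq),
      D.mat_Q hq, mul_one, conj_pow, hj p' hp', mul_one, mul_inv_cancel]
  have hall : ∀ j, ∀ p ∈ D.P2, D.mat p j ^ 2 = 1 := by
    intro j
    rcases fin3_other i (D.per σ i) (hσp i).symm with ⟨k, hk1, hk2, hk⟩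
    rcases hk (D.per σ (D.per σ i)) with e | e | e
    · exfalso
      have hinj := D.per_injective hσ
      rcases hk (D.per σ k) with e' | e' | e'
      · exact hk2 (hinj (e'.trans e.symm))
      · exact hk1 (hinj e')
      · exact hσp k e'
    · exact absurd e (hσp _)
    · rcases hk j with rfl | rfl | h'
      exacts [hcon, step _ hcon, (h'.trans e.symm) ▸ step _ (step _ hcon)]
  classical
  let f : D.P2 → Fin 3 → Bool := fun p j => decide (D.mat p j = 1)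
  have hinj : Function.Injective f := fun p p' e => by
    refine Subtype.ext (eq_of_inv_mul_eq_one (D.P2_inf (mul_mem (inv_mem p.2) p'.2) (D.mem_Q_iff.2
      ⟨mul_mem (inv_mem (D.P2_le_K p.2)) (D.P2_le_K p'.2), fun j => ?_⟩)))
    have hb : D.mat p j = D.mat p' j := by
      have e' : decide (D.mat p j = 1) = decide (D.mat p' j = 1) := congrFun e j
      rcases sl_quat.1 _ (hall j p p.2) with h | h <;> rcases sl_quat.1 _ (hall j p' p'.2) with h' | h' <;>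
        rw [h, h'] at e' ⊢
      all_goals exact absurd e' (by decide +kernel)
    rw [D.mat_mul_K (inv_mem (D.P2_le_K p.2)) (D.P2_le_K p'.2), D.mat_inv_K (D.P2_le_K p.2), hb, inv_mul_cancel]
  have := Nat.card_le_card_of_injective f hinj
  rw [D.card_P2] at this
  simp [Nat.card_pi] at this

/-! ### The 3-elements -/

theorem per_iterate {g : G} (hg : Commute g D.z) : ∀ n : ℕ, ∀ i, (D.per g)^[n] i = D.per (g ^ n) i
  | 0, i => by rw [pow_zero, D.per_one]; rfl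
  | n + 1, i => by
    rw [Function.iterate_succ_apply', per_iterate hg n, pow_succ', D.per_mul hg (hg.pow_left n)]

/-- A 3-element modulo `Q` permutes the planes in a cube root of one. -/
theorem per_cube {g : G} (hg : Commute g D.z) {k : ℕ} (hk : g ^ 3 ^ k ∈ D.Q) (i : Fin 3) :
    D.per g (D.per g (D.per g i)) = i := by
  rcases fin3_iterate _ (D.per_injective hg) with h | ⟨h, j, hj⟩
  · exact h i
  · exfalso
    refine hj ?_
    obtain ⟨m, hm⟩ : Odd (3 ^ k) := Odd.pow (by decide)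
    have h2 := D.per_Q hk j
    rw [← D.per_iterate hg, hm, Function.iterate_add_apply, Function.Involutive.iterate_two_mul h] at h2
    simpa using h2

theorem mat_cube {g : G} (hg : g ∈ D.K) {k : ℕ} (hk : g ^ 3 ^ k ∈ D.Q) (i : Fin 3) : D.mat g i ^ 3 = 1 := by
  have h1 : D.mat g i ^ 3 ^ k = 1 := by rw [← D.mat_pow_K hg, D.mat_Q hk]
  have h2 : orderOf (D.mat g i) ∣ Nat.gcd (3 ^ k) 24 :=
    Nat.dvd_gcd (orderOf_dvd_of_pow_eq_one h1) (orderOf_dvd_of_pow_eq_one (sl_pow_card _))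
  have h3 : Nat.gcd (3 ^ k) 24 ∣ 3 := by
    rcases k with _ | n
    · simp
    · rw [pow_succ', show (24 : ℕ) = 3 * 8 from rfl, Nat.gcd_mul_left,
        (Nat.Coprime.pow_left n (by decide : Nat.Coprime 3 8)).gcd_eq_one]
  exact orderOf_dvd_iff_pow_eq_one.1 (h2.trans h3)

variable {X : Subgroup G}

/-- A 3-subgroup of `C(z)`, modulo `Q`. -/
def IsThreeMod (X : Subgroup G) : Prop := ∀ x ∈ X, Commute x D.z ∧ ∃ k : ℕ, x ^ 3 ^ k ∈ D.Q

theorem isThreeMod_of_pGroup (hX : IsPGroup 3 X) (hz : ∀ x ∈ X, Commute x D.z) : D.IsThreeMod X := fun x hx => by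
  obtain ⟨k, hk⟩ := hX ⟨x, hx⟩
  exact ⟨hz x hx, k, by rw [show x ^ 3 ^ k = 1 from congrArg Subtype.val hk]; exact D.Q.one_mem⟩

theorem mat_comm_of_three (hX : D.IsThreeMod X) {g h : G} (hg : g ∈ X) (hgK : g ∈ D.K) (hh : h ∈ X) (hhK : h ∈ D.K)
    (i : Fin 3) : D.mat g i * D.mat h i = D.mat h i * D.mat g i := by
  have h3 : ∀ x ∈ X, x ∈ D.K → D.mat x i ^ 3 = 1 := fun x hx hxK => D.mat_cube hxK (hX x hx).2.choose_spec i
  refine sl_three_comm _ _ (h3 g hg hgK) (h3 h hh hhK) ?_ ?_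
  · rw [← D.mat_mul_K hgK hhK]; exact h3 _ (mul_mem hg hh) (mul_mem hgK hhK)
  · rw [← D.mat_inv_K hhK, ← D.mat_mul_K hgK (inv_mem hhK)]
    exact h3 _ (mul_mem hg (inv_mem hh)) (mul_mem hgK (inv_mem hhK))

/-- With a permutation of order three an element of order three on every plane is trivial on every plane or on none. -/
theorem diag_one {σ : G} (hσz : Commute σ D.z) (hσp : ∀ i, D.per σ i ≠ i) {k : G} (hkK : k ∈ D.K)
    (h3 : ∀ m, D.mat k m ^ 3 = 1) {l : Fin 3} (hl : D.mat k l = 1) : ∀ i, D.mat k i = 1 := by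
  intro i
  by_contra hi
  obtain ⟨k', hk', hk'K, k'', hk'', hk''K, j, hj', hj'', hsep⟩ : ∃ k', (∀ m, D.mat k' m ^ 3 = 1) ∧ k' ∈ D.K ∧
      ∃ k'', (∀ m, D.mat k'' m ^ 3 = 1) ∧ k'' ∈ D.K ∧
      ∃ j, D.mat k' j ≠ 1 ∧ D.mat k'' j ≠ 1 ∧ ∀ m, m ≠ j → D.mat k' m = 1 ∨ D.mat k'' m = 1 := by
    obtain ⟨j, hj1, hj2, hall⟩ := fin3_other i l (fun e => hi (e ▸ hl))
    by_cases hj : D.mat k j = 1
    · refine ⟨k, h3, hkK, k, h3, hkK, i, hi, hi, fun m hm => Or.inl ?_⟩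
      rcases hall m with rfl | rfl | rfl
      exacts [absurd rfl hm, hl, hj]
    · have hcK := D.conj_mem_K hσz hkK
      have h0 : D.mat (σ * k * σ⁻¹) (D.per σ l) = 1 := by rw [D.mat_conj hσz hkK, hl, mul_one, mul_inv_cancel]
      have hne : ∀ m, m ≠ l → D.mat (σ * k * σ⁻¹) (D.per σ m) ≠ 1 := fun m hm e => by
        rw [D.mat_conj hσz hkK, conj_eq_one_iff] at e
        rcases hall m with rfl | rfl | rfl
        exacts [hi e, hm rfl, hj e]
      have hpl : D.per σ l ≠ l := hσp l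
      obtain ⟨o, ho1, ho2, hall'⟩ := fin3_other (D.per σ l) l hpl
      obtain ⟨m₀, hm₀⟩ := D.per_surjective hσz o
      refine ⟨k, h3, hkK, σ * k * σ⁻¹, fun m => ?_, hcK, o, ?_, ?_, fun m hm => ?_⟩
      · obtain ⟨m, rfl⟩ := D.per_surjective hσz m
        rw [D.mat_conj hσz hkK, conj_pow, h3, mul_one, mul_inv_cancel]
      · rcases hall o with rfl | rfl | rfl
        exacts [hi, absurd rfl ho2, hj]
      · rw [← hm₀]
        exact hne m₀ (fun e => ho1 (by rw [← hm₀, e]))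
      · rcases hall' m with rfl | rfl | rfl
        exacts [Or.inr h0, Or.inl hl, absurd rfl hm]
  obtain ⟨p, hp, hp2⟩ := D.exists_four hσz hσp j
  have hpK := D.P2_le_K hp
  obtain ⟨c4, c2⟩ := sl_comm_four _ _ (hk' j) hj' (D.mat_P2_four hp j) hp2
  obtain ⟨d4, d2⟩ := sl_comm_four _ _ (hk'' j) hj'' c4 c2
  have hcK := D.comm_mem_K hk'K hpK
  refine d2 (D.no_single hσz hσp hk'K (hk' j) hj' ⟨⁅k'', ⁅k', p⁆⁆, D.comm_mem_K hk''K hcK, ?_, fun m hm => ?_⟩ d4)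
  · rw [D.mat_comm_K hk''K hcK, D.mat_comm_K hk'K hpK]
  · rw [D.mat_comm_K hk''K hcK, D.mat_comm_K hk'K hpK]
    rcases hsep m hm with e | e <;> simp [e]

/-- With a permutation of order three the diagonal elements are trivial on every plane or on none. -/
theorem diag_all (hX : D.IsThreeMod X) {σ : G} (hσ : σ ∈ X) (hσp : ∀ i, D.per σ i ≠ i) {k : G} (hk : k ∈ X)
    (hkK : k ∈ D.K) {l : Fin 3} (hl : D.mat k l = 1) : ∀ i, D.mat k i = 1 := by
  exact D.diag_one (hX σ hσ).1 hσp hkK (D.mat_cube hkK (hX k hk).2.choose_spec) hl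

/-- With a permutation of order three the diagonal part is cyclic modulo `Q`. -/
theorem diag_cyclic (hX : D.IsThreeMod X) {σ : G} (hσ : σ ∈ X) (hσp : ∀ i, D.per σ i ≠ i) {a k : G} (ha : a ∈ X)
    (haK : a ∈ D.K) (ha1 : a ∉ D.Q) (hk : k ∈ X) (hkK : k ∈ D.K) :
    k ∈ D.Q ∨ a⁻¹ * k ∈ D.Q ∨ (a * a)⁻¹ * k ∈ D.Q := by
  have ha0 : D.mat a 0 ≠ 1 := fun e => ha1 (D.mem_Q_iff.2 ⟨haK, D.diag_all hX hσ hσp ha haK e⟩)
  have hcube : ∀ x ∈ X, x ∈ D.K → D.mat x 0 ^ 3 = 1 := fun x hx hxK => D.mat_cube hxK (hX x hx).2.choose_spec 0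
  have put : ∀ x ∈ X, x ∈ D.K → D.mat x 0 = 1 → x ∈ D.Q := fun x hx hxK e =>
    D.mem_Q_iff.2 ⟨hxK, D.diag_all hX hσ hσp hx hxK e⟩
  rcases sl_three_cyclic _ _ (hcube a ha haK) ha0 (hcube k hk hkK) (D.mat_comm_of_three hX ha haK hk hkK 0) with
    h | h | h
  · exact Or.inl (put k hk hkK h)
  · refine Or.inr (Or.inl (put _ (mul_mem (inv_mem ha) hk) (mul_mem (inv_mem haK) hkK) ?_))
    rw [D.mat_mul_K (inv_mem haK) hkK, D.mat_inv_K haK, h, inv_mul_cancel]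
  · refine Or.inr (Or.inr (put _ (mul_mem (inv_mem (mul_mem ha ha)) hk) (mul_mem (inv_mem (mul_mem haK haK)) hkK) ?_))
    rw [D.mat_mul_K (inv_mem (mul_mem haK haK)) hkK, D.mat_inv_K (mul_mem haK haK), D.mat_mul_K haK haK, h,
      inv_mul_cancel]

/-- A 3-subgroup is abelian modulo `Q`. -/
theorem abelian_mod (hX : D.IsThreeMod X) {g h : G} (hg : g ∈ X) (hh : h ∈ X) : ⁅g, h⁆ ∈ D.Q := by
  have hz : ∀ x ∈ X, Commute x D.z := fun x hx => (hX x hx).1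
  have hKK : ∀ x ∈ X, x ∈ D.K → ∀ y ∈ X, y ∈ D.K → ⁅x, y⁆ ∈ D.Q := fun x hx hxK y hy hyK =>
    D.mem_Q_iff.2 ⟨D.comm_mem_K hxK hyK, fun i => by
      rw [D.mat_comm_K hxK hyK, D.mat_comm_of_three hX hx hxK hy hyK i]; group⟩
  by_cases hall : ∀ x ∈ X, x ∈ D.K
  · exact hKK g hg (hall g hg) h hh (hall h hh)
  push Not at hall
  obtain ⟨σ, hσ, hσK⟩ := hall
  have hσp : ∀ i, D.per σ i ≠ i :=
    (fin3_cycle _ (D.per_cube (hz σ hσ) (hX σ hσ).2.choose_spec)).resolve_left fun h => hσK ⟨hz σ hσ, h⟩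
  -- modulo `Q`
  let W : Subgroup G := centralizer ({D.z} : Set G)
  have hW : ∀ {x}, x ∈ X → x ∈ W := fun hx => mem_centralizer_singleton_iff.2 (hz _ hx)
  haveI : (D.Q.subgroupOf W).Normal := ⟨fun q hq w =>
    D.norm_Q w (mem_centralizer_singleton_iff.1 w.2) q hq⟩
  let π := QuotientGroup.mk' (D.Q.subgroupOf W)
  have hone : ∀ u : W, (u : G) ∈ D.Q ↔ π u = 1 := fun u =>
    ((QuotientGroup.eq_one_iff u).trans mem_subgroupOf).symm
  have hcomm : ∀ u v : W, ⁅(u : G), (v : G)⁆ ∈ D.Q ↔ Commute (π u) (π v) := fun u v => by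
    rw [← commutatorElement_eq_one_iff_commute, ← map_commutatorElement, ← hone]
    rfl
  -- the permutation centralises the diagonal part
  have hσcent : ∀ a ∈ X, a ∈ D.K → ⁅σ, a⁆ ∈ D.Q := by
    intro a ha haK
    by_cases ha1 : a ∈ D.Q
    · rw [commutatorElement_def]; exact mul_mem (D.norm_Q σ (hz σ hσ) a ha1) (inv_mem ha1)
    have hcX : ∀ b ∈ X, σ * b * σ⁻¹ ∈ X := fun b hb => mul_mem (mul_mem hσ hb) (inv_mem hσ)
    have hcQ : ∀ b ∈ D.Q, σ * b * σ⁻¹ ∈ D.Q := fun b hb => D.norm_Q σ (hz σ hσ) b hb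
    rcases D.diag_cyclic hX hσ hσp ha haK ha1 (hcX a ha) (D.conj_mem_K (hz σ hσ) haK) with e | e | e
    · refine absurd ?_ ha1
      have := D.norm_Q σ⁻¹ (hz σ hσ).inv_left _ e
      rwa [show σ⁻¹ * (σ * a * σ⁻¹) * σ⁻¹⁻¹ = a by group] at this
    · rw [show ⁅σ, a⁆ = a * (a⁻¹ * (σ * a * σ⁻¹)) * a⁻¹ by rw [commutatorElement_def]; group]
      exact D.norm_Q a (hz a ha) _ e
    · exfalso
      refine ha1 ((hone ⟨a, hW ha⟩).2 ?_)
      have hs3 : σ ^ 3 ∈ D.K := ⟨(hz σ hσ).pow_left 3, fun i => by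
        rw [← D.per_iterate (hz σ hσ)]; exact D.per_cube (hz σ hσ) (hX σ hσ).2.choose_spec i⟩
      have h1 : Commute (π ⟨σ, hW hσ⟩ ^ 3) (π ⟨a, hW ha⟩) := by
        have := (hcomm (⟨σ, hW hσ⟩ ^ 3) ⟨a, hW ha⟩).1 (hKK _ (pow_mem hσ 3) hs3 a ha haK)
        rwa [map_pow] at this
      have h2 : π ⟨σ, hW hσ⟩ * π ⟨a, hW ha⟩ * (π ⟨σ, hW hσ⟩)⁻¹ = π ⟨a, hW ha⟩ ^ 2 := by
        have := (hone ((⟨a, hW ha⟩ * ⟨a, hW ha⟩)⁻¹ * (⟨σ, hW hσ⟩ * ⟨a, hW ha⟩ * ⟨σ, hW hσ⟩⁻¹))).1 e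
        rw [map_mul, map_inv, inv_mul_eq_one, map_mul, map_mul, map_mul, map_inv] at this
        rw [pow_two]; exact this.symm
      have h3 : π ⟨a, hW ha⟩ ^ 3 = 1 := by
        rw [← map_pow, ← hone]
        refine D.mem_Q_iff.2 ⟨pow_mem haK 3, fun i => ?_⟩
        rw [show (((⟨a, hW ha⟩ : W) ^ 3 : W) : G) = a ^ 3 from rfl, D.mat_pow_K haK, D.mat_cube haK (hX a ha).2.choose_spec]
      generalize π ⟨σ, hW hσ⟩ = S at h1 h2
      generalize π ⟨a, hW ha⟩ = A at h1 h2 h3 ⊢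
      have h8 : A ^ 8 = A := by
        have e1 : S * (A ^ 2) * S⁻¹ = A ^ 4 := by rw [← conj_pow, h2, ← pow_mul]
        have e2 : S * (A ^ 4) * S⁻¹ = A ^ 8 := by rw [← conj_pow, h2, ← pow_mul]
        rw [← e2, ← e1, ← h2, show S * (S * (S * A * S⁻¹) * S⁻¹) * S⁻¹ = S ^ 3 * A * (S ^ 3)⁻¹ by simp only [pow_succ, pow_zero, one_mul, mul_inv_rev, mul_assoc], h1.eq,
          mul_inv_cancel_right]
      have h7 : A ^ 7 = 1 := mul_eq_right.1 ((pow_succ A 7).symm.trans h8)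
      exact Cfsg.Lib.U6Three.eq_one_of_coprime (by decide : Nat.Coprime 7 3) h7 h3
  -- every element is a power of the permutation times a diagonal one
  have hdec : ∀ x ∈ X, ∃ n : ℕ, ∃ a ∈ X, a ∈ D.K ∧ x = σ ^ n * a := by
    intro x hx
    rcases fin3_power _ _ (D.per_cube (hz σ hσ) (hX σ hσ).2.choose_spec) hσp
        (D.per_cube (hz x hx) (hX x hx).2.choose_spec) with e | e | e
    · exact ⟨0, x, hx, ⟨hz x hx, e⟩, by group⟩
    · exact ⟨2, (σ ^ 2)⁻¹ * x, mul_mem (inv_mem (pow_mem hσ _)) hx, ⟨((hz σ hσ).pow_left _).inv_left.mul_left (hz x hx),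
        fun i => by
          refine D.per_injective ((hz σ hσ).pow_left 2) ?_
          rw [← D.per_mul ((hz σ hσ).pow_left 2) (((hz σ hσ).pow_left 2).inv_left.mul_left (hz x hx)), mul_inv_cancel_left,
            ← D.per_iterate (hz σ hσ)]
          refine D.per_injective (hz σ hσ) ?_
          rw [e i]
          exact (D.per_cube (hz σ hσ) (hX σ hσ).2.choose_spec i).symm⟩, by group⟩
    · exact ⟨1, σ⁻¹ * x, mul_mem (inv_mem hσ) hx, ⟨(hz σ hσ).inv_left.mul_left (hz x hx),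
        fun i => by
          refine D.per_injective (hz σ hσ) ?_
          rw [← D.per_mul (hz σ hσ) ((hz σ hσ).inv_left.mul_left (hz x hx)), mul_inv_cancel_left]
          refine D.per_injective (hz σ hσ) (D.per_injective (hz σ hσ) ?_)
          rw [e i]
          exact (D.per_cube (hz σ hσ) (hX σ hσ).2.choose_spec i).symm⟩, by group⟩
  obtain ⟨n, a, ha, haK, rfl⟩ := hdec g hg
  obtain ⟨n', b, hb, hbK, rfl⟩ := hdec h hh
  refine (hcomm ⟨σ ^ n * a, hW hg⟩ ⟨σ ^ n' * b, hW hh⟩).2 ?_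
  have e1 : (⟨σ ^ n * a, hW hg⟩ : W) = ⟨σ, hW hσ⟩ ^ n * ⟨a, hW ha⟩ := Subtype.ext (by push_cast; rfl)
  have e2 : (⟨σ ^ n' * b, hW hh⟩ : W) = ⟨σ, hW hσ⟩ ^ n' * ⟨b, hW hb⟩ := Subtype.ext (by push_cast; rfl)
  rw [e1, e2, map_mul, map_mul, map_pow, map_pow]
  have hσa := (hcomm ⟨σ, hW hσ⟩ ⟨a, hW ha⟩).1 (hσcent a ha haK)
  have hσb := (hcomm ⟨σ, hW hσ⟩ ⟨b, hW hb⟩).1 (hσcent b hb hbK)
  have hab := (hcomm ⟨a, hW ha⟩ ⟨b, hW hb⟩).1 (hKK a ha haK b hb hbK)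
  exact ((Commute.pow_pow_self _ n n').mul_right (hσb.pow_left n)).mul_left
    ((hσa.symm.pow_right n').mul_right hab)

end Data

end Cfsg.Lib.Fi22Three
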